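import Mathlib

/-!
# The tensor product of the natural modules of the symmetric groups of degree three and six

Vectors of the eight-dimensional space over the field with two elements are coded by numbers below `256`:
the low four bits are the coefficient of the first point of the plane, the high four bits that of the second.
-/

set_option autoImplicit false
set_option maxRecDepth 20000

namespace Cfsg.Lib.Extra.SymAltSix

open Equiv

/-- The product of the two symmetric groups. -/
abbrev K := Perm (Fin 3) × Perm (Fin 6)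

/-- The subgroup of pairs of even permutations. -/
def L : Subgroup K := (alternatingGroup (Fin 3)).prod (alternatingGroup (Fin 6))

/-- The space. -/
abbrev V := Fin 8 → ZMod 2

/-- The code of a vector. -/
def code (v : V) : ℕ :=
  (((((((v 7).val * 2 + (v 6).val) * 2 + (v 5).val) * 2 + (v 4).val) * 2 + (v 3).val) * 2 + (v 2).val) * 2 +
    (v 1).val) * 2 + (v 0).val

/-- The vector of a code. -/
def vec (n : ℕ) : V := fun i => if n.testBit i.val then 1 else 0

/-- The linear map with given images of the eight basis vectors. -/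
def app (m : List ℕ) (v : ℕ) : ℕ :=
  (if v.testBit 0 then m.getD 0 0 else 0) ^^^ (if v.testBit 1 then m.getD 1 0 else 0) ^^^
  (if v.testBit 2 then m.getD 2 0 else 0) ^^^ (if v.testBit 3 then m.getD 3 0 else 0) ^^^
  (if v.testBit 4 then m.getD 4 0 else 0) ^^^ (if v.testBit 5 then m.getD 5 0 else 0) ^^^
  (if v.testBit 6 then m.getD 6 0 else 0) ^^^ (if v.testBit 7 then m.getD 7 0 else 0)

/-- Composition. -/
def comp (m m' : List ℕ) : List ℕ := (List.range 8).map fun i => app m (m'.getD i 0)

/-- The tensor of a point of the plane with a vector of the four-space. -/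
def ten (u : Fin 3) (w : ℕ) : ℕ := (if u.val = 1 then 0 else w) ^^^ (if u.val = 0 then 0 else 16 * w)

/-- The coordinates of a point, up to a common summand. -/
def pt : Fin 6 → ℕ := ![15, 14, 12, 8, 0, 5]

/-- The image of a basis vector of the four-space. -/
def img (p : Perm (Fin 6)) (i : Fin 5) : ℕ := pt (p i.castSucc) ^^^ pt (p i.succ)

/-- The matrix of a permutation of three points. -/
def muU (s : Perm (Fin 3)) : List ℕ :=
  ((List.range 4).map fun i => ten (s 0) (2 ^ i)) ++ (List.range 4).map fun i => ten (s 1) (2 ^ i)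

/-- The matrix of a permutation of six points. -/
def muW (p : Perm (Fin 6)) : List ℕ :=
  [img p 0, img p 1, img p 2, img p 3, 16 * img p 0, 16 * img p 1, 16 * img p 2, 16 * img p 3]

/-- The matrix of a pair. -/
def mu (e : K) : List ℕ := comp (muU e.1) (muW e.2)

/-- The alternating form of the four-space. -/
def bw (a b : ℕ) : Bool :=
  let c := a &&& ((2 * b) ^^^ (b / 2))
  (c.testBit 0 ^^ c.testBit 1) ^^ (c.testBit 2 ^^ c.testBit 3)

/-- The quadratic form. -/
def q8 (v : ℕ) : Bool := bw (v % 16) (v / 16)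

/-- The polar form. -/
def b8 (u v : ℕ) : Bool := (q8 (u ^^^ v) ^^ q8 u) ^^ q8 v

/-- The action on vectors. -/
def act (e : K) (v : V) : V := vec (app (mu e) (code v))

theorem code_lt (v : V) : code v < 256 := by
  have h : ∀ i, (v i).val < 2 := fun i => ZMod.val_lt _
  have := h 0; have := h 1; have := h 2; have := h 3; have := h 4; have := h 5; have := h 6; have := h 7
  unfold code; omega

theorem code_vec' : ∀ n : Fin 256, code (vec n.val) = n.val := by decide +kernel

theorem code_vec {n : ℕ} (h : n < 256) : code (vec n) = n := code_vec' ⟨n, h⟩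

theorem code_bits (v : V) (i : Fin 8) : (code v).testBit i.val = decide (v i = 1) := by
  have key : ∀ a b c d e f g h : ZMod 2, ∀ j : Fin 8,
      (code ![a, b, c, d, e, f, g, h]).testBit j.val = decide (![a, b, c, d, e, f, g, h] j = 1) := by
    decide +kernel
  have e : v = ![v 0, v 1, v 2, v 3, v 4, v 5, v 6, v 7] := by
    funext j; fin_cases j <;> rfl
  rw [e]; exact key _ _ _ _ _ _ _ _ i

theorem vec_code (v : V) : vec (code v) = v := by
  funext i
  rw [vec, code_bits]
  rcases (show ∀ a : ZMod 2, a = 0 ∨ a = 1 by decide) (v i) with e | e <;> simp [e]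

theorem code_injective : Function.Injective code := fun u v h => by rw [← vec_code u, h, vec_code]

theorem vec_xor (a b : ℕ) : vec (a ^^^ b) = vec a + vec b := by
  funext i
  simp only [vec, Nat.testBit_xor, Pi.add_apply]
  cases a.testBit i.val <;> cases b.testBit i.val <;> decide

theorem code_add (u v : V) : code (u + v) = code u ^^^ code v := by
  have h : code u ^^^ code v < 256 := Nat.xor_lt_two_pow (n := 8) (code_lt u) (code_lt v)
  rw [← code_vec h, vec_xor, vec_code, vec_code]

theorem code_zero : code 0 = 0 := by decide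

theorem vec_zero : vec 0 = 0 := by decide

theorem app_xor (m : List ℕ) (a b : ℕ) : app m (a ^^^ b) = app m a ^^^ app m b := by
  have key : ∀ (k : ℕ) (x : ℕ), (if (a ^^^ b).testBit k then x else 0) =
      (if a.testBit k then x else 0) ^^^ (if b.testBit k then x else 0) := fun k x => by
    rw [Nat.testBit_xor]
    cases a.testBit k <;> cases b.testBit k <;> simp
  simp only [app, key]
  ac_rfl

theorem app_zero (m : List ℕ) : app m 0 = 0 := by simp [app]

theorem app_comp (m m' : List ℕ) (v : ℕ) : app (comp m m') v = app m (app m' v) := by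
  have h : ∀ k, k < 8 → (comp m m').getD k 0 = app m (m'.getD k 0) := fun k hk => by
    simp [comp, List.getD_eq_getElem?_getD, hk]
  have h2 : ∀ (c : Bool) (x : ℕ), app m (if c then x else 0) = if c then app m x else 0 := fun c x => by
    cases c <;> simp [app_zero]
  conv_lhs => rw [app, h 0 (by norm_num), h 1 (by norm_num), h 2 (by norm_num), h 3 (by norm_num), h 4 (by norm_num),
    h 5 (by norm_num), h 6 (by norm_num), h 7 (by norm_num)]
  conv_rhs => rw [app.eq_def m', app_xor, app_xor, app_xor, app_xor, app_xor, app_xor, app_xor, h2, h2, h2, h2, h2,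
    h2, h2, h2]

theorem comp_assoc (m m' m'' : List ℕ) : comp (comp m m') m'' = comp m (comp m' m'') := by
  refine List.map_congr_left fun i hi => ?_
  rw [app_comp]
  have : (comp m' m'').getD i 0 = app m' (m''.getD i 0) := by
    simp [comp, List.getD_eq_getElem?_getD, List.mem_range.1 hi]
  rw [this]

theorem muU_mul : ∀ s t : Perm (Fin 3), muU (s * t) = comp (muU s) (muU t) := by decide +kernel

theorem muW_one : muW 1 = [1, 2, 4, 8, 16, 32, 64, 128] := by decide

theorem pt_sum : ∀ p : Perm (Fin 6),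
    pt (p 0) ^^^ pt (p 1) ^^^ pt (p 2) ^^^ pt (p 3) ^^^ pt (p 4) ^^^ pt (p 5) = 0 := by decide +kernel

theorem pt_lt : ∀ a, pt a < 16 := by decide

theorem img_lt (p : Perm (Fin 6)) (i : Fin 5) : img p i < 16 :=
  Nat.xor_lt_two_pow (n := 4) (pt_lt _) (pt_lt _)

theorem muW_pt (p : Perm (Fin 6)) (a : Fin 6) : app (muW p) (pt a) = pt (p a) ^^^ pt (p 4) := by
  refine Nat.eq_of_testBit_eq fun k => ?_
  have h := congrArg (fun x : ℕ => x.testBit k) (pt_sum p)
  have e15 : app (muW p) 15 = img p 0 ^^^ img p 1 ^^^ img p 2 ^^^ img p 3 ^^^ 0 ^^^ 0 ^^^ 0 ^^^ 0 := rfl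
  have e14 : app (muW p) 14 = 0 ^^^ img p 1 ^^^ img p 2 ^^^ img p 3 ^^^ 0 ^^^ 0 ^^^ 0 ^^^ 0 := rfl
  have e12 : app (muW p) 12 = 0 ^^^ 0 ^^^ img p 2 ^^^ img p 3 ^^^ 0 ^^^ 0 ^^^ 0 ^^^ 0 := rfl
  have e8 : app (muW p) 8 = 0 ^^^ 0 ^^^ 0 ^^^ img p 3 ^^^ 0 ^^^ 0 ^^^ 0 ^^^ 0 := rfl
  have e5 : app (muW p) 5 = img p 0 ^^^ 0 ^^^ img p 2 ^^^ 0 ^^^ 0 ^^^ 0 ^^^ 0 ^^^ 0 := rfl
  have h0 : pt 0 = 15 := rfl
  have h1 : pt 1 = 14 := rfl
  have h2 : pt 2 = 12 := rfl
  have h3 : pt 3 = 8 := rfl
  have h4 : pt 4 = 0 := rfl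
  have h5 : pt 5 = 5 := rfl
  have s0 : app (muW p) (pt 0) = app (muW p) 15 := by rw [h0]
  have s1 : app (muW p) (pt 1) = app (muW p) 14 := by rw [h1]
  have s2 : app (muW p) (pt 2) = app (muW p) 12 := by rw [h2]
  have s3 : app (muW p) (pt 3) = app (muW p) 8 := by rw [h3]
  have s4 : app (muW p) (pt 4) = 0 := by rw [h4, app_zero]
  have s5 : app (muW p) (pt 5) = app (muW p) 5 := by rw [h5]
  simp only [Nat.testBit_xor, Nat.zero_testBit] at h ⊢
  fin_cases a <;> simp only [Fin.zero_eta, Fin.mk_one, Fin.reduceFinMk, s0, s1, s2, s3, s4, s5, e15, e14, e12, e8, e5,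
    img, Fin.castSucc_zero, Fin.succ_zero_eq_one, Fin.reduceCastSucc, Fin.reduceSucc, Nat.testBit_xor,
    Nat.zero_testBit] <;>
  (revert h
   generalize (pt (p 0)).testBit k = b0
   generalize (pt (p 1)).testBit k = b1
   generalize (pt (p 2)).testBit k = b2
   generalize (pt (p 3)).testBit k = b3
   generalize (pt (p 4)).testBit k = b4
   generalize (pt (p 5)).testBit k = b5
   revert b0 b1 b2 b3 b4 b5
   decide)

theorem muW_img (p r : Perm (Fin 6)) (i : Fin 5) : app (muW p) (img r i) = img (p * r) i := by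
  rw [img, app_xor, muW_pt, muW_pt, img, Perm.mul_apply, Perm.mul_apply]
  rw [Nat.xor_assoc, Nat.xor_comm (pt (p 4)), Nat.xor_assoc, Nat.xor_self, Nat.xor_zero]

theorem muW_high (p : Perm (Fin 6)) : ∀ x : Fin 16, app (muW p) (16 * x.val) = 16 * app (muW p) x.val := by
  intro x
  have h : ∀ a b : ℕ, 16 * (a ^^^ b) = 16 * a ^^^ 16 * b := fun a b => by
    simpa [Nat.shiftLeft_eq, mul_comm] using Nat.shiftLeft_xor_distrib (a := a) (b := b) (i := 4)
  fin_cases x <;> simp [app, muW, h, Nat.testBit, Nat.shiftRight_eq_div_pow]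

theorem muW_mul (p r : Perm (Fin 6)) : muW (p * r) = comp (muW p) (muW r) := by
  have hi : ∀ i, app (muW p) (16 * img r i) = 16 * img (p * r) i := fun i => by
    rw [muW_high p ⟨img r i, img_lt r i⟩, muW_img]
  simp only [comp, muW, List.range_succ, List.range_zero, List.nil_append, List.map_cons,
    List.map_nil, List.cons_append, List.getD_cons_zero, List.getD_cons_succ]
  change _ = [app (muW p) (img r 0), app (muW p) (img r 1), app (muW p) (img r 2), app (muW p) (img r 3),
    app (muW p) (16 * img r 0), app (muW p) (16 * img r 1), app (muW p) (16 * img r 2), app (muW p) (16 * img r 3)]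
  rw [muW_img, muW_img, muW_img, muW_img, hi, hi, hi, hi]

theorem mu_commute_swap : ∀ (s : Perm (Fin 3)) (i : Fin 5),
    comp (muU s) (muW (swap i.castSucc i.succ)) = comp (muW (swap i.castSucc i.succ)) (muU s) := by
  decide +kernel

theorem muU_comp_one : ∀ s : Perm (Fin 3), comp (muU s) (muW 1) = comp (muW 1) (muU s) := by decide +kernel

theorem mu_commute (s : Perm (Fin 3)) (p : Perm (Fin 6)) : comp (muU s) (muW p) = comp (muW p) (muU s) := by
  have key : ∀ r ∈ Submonoid.closure (Set.range fun i : Fin 5 ↦ swap i.castSucc i.succ),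
      comp (muU s) (muW r) = comp (muW r) (muU s) := by
    intro r hr
    induction hr using Submonoid.closure_induction with
    | mem x hx => obtain ⟨i, rfl⟩ := hx; exact mu_commute_swap s i
    | one => exact muU_comp_one s
    | mul x y _ _ ex ey => rw [muW_mul, ← comp_assoc, ex, comp_assoc, ey, ← comp_assoc]
  exact key p (by rw [Perm.mclosure_swap_castSucc_succ]; trivial)

theorem mu_mul (a b : K) : mu (a * b) = comp (mu a) (mu b) := by
  rw [mu, Prod.fst_mul, Prod.snd_mul, muU_mul, muW_mul, mu, mu, comp_assoc, ← comp_assoc (muU b.1), mu_commute,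
    comp_assoc (muW a.2), ← comp_assoc (muU a.1)]

theorem mu_one : mu 1 = [1, 2, 4, 8, 16, 32, 64, 128] := by decide

theorem app_one' : ∀ n : Fin 256, app [1, 2, 4, 8, 16, 32, 64, 128] n.val = n.val := by decide +kernel

theorem muU_lt : ∀ (s : Perm (Fin 3)) (k : Fin 8), (muU s).getD k.val 0 < 256 := by decide +kernel

theorem app_lt_of {m : List ℕ} (h : ∀ k < 8, m.getD k 0 < 256) (v : ℕ) : app m v < 256 := by
  have h2 : ∀ (c : Bool) (k : ℕ), k < 8 → (if c then m.getD k 0 else 0) < 2 ^ 8 := fun c k hk => by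
    cases c
    · simp
    · exact h k hk
  unfold app
  iterate 7 refine Nat.xor_lt_two_pow ?_ (h2 _ _ (by norm_num))
  exact h2 _ _ (by norm_num)

theorem app_lt (e : K) (v : ℕ) : app (mu e) v < 256 := by
  rw [mu, app_comp]
  exact app_lt_of (fun k hk => muU_lt e.1 ⟨k, hk⟩) _

theorem code_act (e : K) (v : V) : code (act e v) = app (mu e) (code v) := code_vec (app_lt _ _)

theorem act_mul (a b : K) (v : V) : act (a * b) v = act a (act b v) := by
  rw [act, act, mu_mul, app_comp, code_act]

theorem act_one (v : V) : act 1 v = v := by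
  rw [act, mu_one]
  conv_lhs => rw [app_one' ⟨code v, code_lt v⟩]
  exact vec_code v

theorem act_add (e : K) (u v : V) : act e (u + v) = act e u + act e v := by
  rw [act, code_add, app_xor, vec_xor]; rfl

theorem muU_low : ∀ (s : Perm (Fin 3)) (x : Fin 16),
    app (muU s) x.val = ten (s 0) x.val ∧ app (muU s) (16 * x.val) = ten (s 1) x.val := by decide +kernel

theorem ten_eq : ∀ (u : Fin 3) (x : Fin 16) (i : Fin 4),
    (ten u x.val = 2 ^ i.val → u = 0 ∧ x.val = 2 ^ i.val) ∧ (ten u x.val = 16 * 2 ^ i.val → u = 1) := by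
  decide +kernel

theorem perm_three : ∀ s : Perm (Fin 3), s 0 = 0 → s 1 = 1 → s = 1 := by decide +kernel

theorem img_faithful : ∀ p : Perm (Fin 6), img p 0 = 1 → img p 1 = 2 → img p 2 = 4 → img p 3 = 8 → p = 1 := by
  decide +kernel

theorem mu_injective {e : K} (h : mu e = mu 1) : e = 1 := by
  rw [mu_one] at h
  have h' : ∀ (k : ℕ), k < 8 → app (muU e.1) ((muW e.2).getD k 0) = [1, 2, 4, 8, 16, 32, 64, 128].getD k 0 :=
    fun k hk => by
      rw [← h]
      simp [mu, comp, List.getD_eq_getElem?_getD, hk]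
  have hlo : ∀ (i : Fin 4) (j : Fin 5), app (muU e.1) (img e.2 j) = 2 ^ i.val → e.1 0 = 0 ∧ img e.2 j = 2 ^ i.val :=
    fun i j hh => (ten_eq _ ⟨_, img_lt _ _⟩ i).1 ((muU_low _ ⟨_, img_lt _ _⟩).1.symm.trans hh)
  obtain ⟨a0, c0⟩ := hlo 0 0 (h' 0 (by norm_num))
  obtain ⟨-, c1⟩ := hlo 1 1 (h' 1 (by norm_num))
  obtain ⟨-, c2⟩ := hlo 2 2 (h' 2 (by norm_num))
  obtain ⟨-, c3⟩ := hlo 3 3 (h' 3 (by norm_num))
  have a1 : e.1 1 = 1 := (ten_eq _ ⟨_, img_lt _ _⟩ 0).2 ((muU_low _ ⟨_, img_lt _ _⟩).2.symm.trans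
    (h' 4 (by norm_num)))
  exact Prod.ext (perm_three _ a0 a1) (img_faithful _ c0 c1 c2 c3)

theorem act_faithful {e : K} (h : ∀ v, act e v = v) : e = 1 := by
  refine mu_injective ?_
  have hb : ∀ k : Fin 8, (mu e).getD k.val 0 = 2 ^ k.val := fun k => by
    have hk : 2 ^ k.val < 256 := by fin_cases k <;> norm_num
    have h1 := congrArg code (h (vec (2 ^ k.val)))
    rw [code_act, code_vec hk] at h1
    rw [← h1]
    fin_cases k <;> simp [app, Nat.testBit, Nat.shiftRight_eq_div_pow]
  have hlen : mu e = (List.range 8).map fun i => (mu e).getD i 0 := by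
    simp [mu, comp, List.getD_eq_getElem?_getD, List.range_succ]
  rw [hlen, mu_one]
  simp only [List.range_succ, List.range_zero, List.nil_append, List.map_cons, List.map_nil,
    List.cons_append]
  rw [hb 0 |> fun t => show (mu e).getD 0 0 = _ from t, show (mu e).getD 1 0 = _ from hb 1,
    show (mu e).getD 2 0 = _ from hb 2, show (mu e).getD 3 0 = _ from hb 3, show (mu e).getD 4 0 = _ from hb 4,
    show (mu e).getD 5 0 = _ from hb 5, show (mu e).getD 6 0 = _ from hb 6, show (mu e).getD 7 0 = _ from hb 7]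
  rfl

end Cfsg.Lib.Extra.SymAltSix
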