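import Cfsg.Agent.Lib.Extra.Wide.Setting
import Cfsg.Agent.Lib.Extra.SymAltSix.Model

/-!
# An extraspecial subgroup of width four with the quotient of the centralizer inside `S₃ × S₆`
-/

set_option autoImplicit false
set_option linter.style.haveILetI false

namespace Cfsg.Lib.Extra.SymAltSix

open Module Cfsg.Lib.Extra Cfsg.Lib.Linear.Orth
open Cfsg.Lib.Extra.Wide (bit bit_self vadd_self vadd_eq_zero mem_map_conj commute_unconj finrank_orth mem_of_perp B_self)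

/-- The centralizer of an involution with extraspecial core of order `2^9`. -/
structure Data (G : Type*) [Group G] (ι : Type) [Fintype ι] [DecidableEq ι] where
  /-- The central involution. -/
  z : G
  /-- The extraspecial subgroup. -/
  Q : Subgroup G
  /-- The squaring form. -/
  qf : (ι → ZMod 2) → ZMod 2
  /-- The commutator form. -/
  B : LinearMap.BilinForm (ZMod 2) (ι → ZMod 2)
  /-- The class of an element of `Q`. -/
  cls : G → (ι → ZMod 2)
  /-- The image of an element of the centralizer. -/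
  pi : G → K
  /-- The quotient of the centralizer. -/
  H : Subgroup K
  /-- The action on the classes. -/
  mv : K → (ι → ZMod 2) → (ι → ZMod 2)
  ctx : Ctx Q z
  space : Space qf B
  card : Fintype.card ι = 8
  L_le : L ≤ H
  cls_mul : ∀ a ∈ Q, ∀ b ∈ Q, cls (a * b) = cls a + cls b
  cls_surj : ∀ v, ∃ a ∈ Q, cls a = v
  cls_ker : ∀ a ∈ Q, cls a = 0 ↔ a = 1 ∨ a = z
  cls_sq : ∀ a ∈ Q, a * a = 1 ↔ qf (cls a) = 0
  cls_comm : ∀ a ∈ Q, ∀ b ∈ Q, Commute a b ↔ B (cls a) (cls b) = 0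
  pi_mul : ∀ c d, Commute c z → Commute d z → pi (c * d) = pi c * pi d
  pi_mem : ∀ c, Commute c z → pi c ∈ H
  pi_surj : ∀ e ∈ H, ∃ c, Commute c z ∧ pi c = e
  pi_ker : ∀ c, Commute c z → (pi c = 1 ↔ c ∈ Q)
  cls_conj : ∀ c, Commute c z → ∀ a ∈ Q, cls (c * a * c⁻¹) = mv (pi c) (cls a)
  mv_faithful : ∀ e ∈ H, (∀ v, mv e v = v) → e = 1

variable {G : Type*} [Group G] {ι : Type} [Fintype ι] [DecidableEq ι] (D : Data G ι)

namespace Data

theorem cls_one : D.cls 1 = 0 := (D.cls_ker 1 (one_mem _)).2 (Or.inl rfl)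

theorem cls_z : D.cls D.z = 0 := (D.cls_ker _ D.ctx.mem).2 (Or.inr rfl)

theorem cls_inv {a : G} (ha : a ∈ D.Q) : D.cls a⁻¹ = D.cls a := by
  refine vadd_eq_zero ?_
  rw [← D.cls_mul _ (inv_mem ha) _ ha, inv_mul_cancel, D.cls_one]

theorem cls_eq {a b : G} (ha : a ∈ D.Q) (hb : b ∈ D.Q) (h : D.cls a = D.cls b) :
    b = a ∨ b = D.z * a := by
  rcases (D.cls_ker _ (mul_mem hb (inv_mem ha))).1
    (by rw [D.cls_mul _ hb _ (inv_mem ha), D.cls_inv ha, h, vadd_self]) with e | e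
  · exact Or.inl (mul_inv_eq_one.1 e)
  · exact Or.inr (mul_inv_eq_iff_eq_mul.1 e)

theorem cz {a : G} (ha : a ∈ D.Q) : Commute a D.z := (D.ctx.central a ha).symm

theorem conj_memQ {c a : G} (hc : Commute c D.z) (ha : a ∈ D.Q) : c * a * c⁻¹ ∈ D.Q :=
  (Subgroup.mem_normalizer_iff.1 (D.ctx.norm c hc) a).1 ha

theorem q_move {a b : G} (ha : a ∈ D.Q) (hb : b ∈ D.Q) (h : D.B (D.cls a) (D.cls b) = 1) :
    a * b * a⁻¹ = D.z * b := by
  rcases D.ctx.comm a ha b hb with e | e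
  · have := (D.cls_comm a ha b hb).1 (mul_inv_eq_iff_eq_mul.1 (mul_inv_eq_one.1 e))
    rw [h] at this
    exact absurd this one_ne_zero
  · exact mul_inv_eq_iff_eq_mul.1 e

theorem pi_one : D.pi 1 = 1 := (D.pi_ker 1 (Commute.one_left _)).2 (one_mem _)

theorem pi_inv {c : G} (hc : Commute c D.z) : D.pi c⁻¹ = (D.pi c)⁻¹ := by
  refine eq_inv_of_mul_eq_one_left ?_
  rw [← D.pi_mul _ _ hc.inv_left hc, inv_mul_cancel, D.pi_one]

theorem pi_Q {a : G} (ha : a ∈ D.Q) : D.pi a = 1 := (D.pi_ker a (D.cz ha)).2 ha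

theorem pi_conj {c e : G} (hc : Commute c D.z) (he : Commute e D.z) :
    D.pi (c * e * c⁻¹) = D.pi c * D.pi e * (D.pi c)⁻¹ := by
  rw [D.pi_mul _ _ (hc.mul_left he) hc.inv_left, D.pi_mul _ _ hc he, D.pi_inv hc]

theorem pi_eq {c e : G} (hc : Commute c D.z) (he : Commute e D.z) (h : D.pi c = D.pi e) :
    c * e⁻¹ ∈ D.Q := by
  rw [← D.pi_ker _ (hc.mul_left he.inv_left), D.pi_mul _ _ hc he.inv_left, D.pi_inv he, h, mul_inv_cancel]

theorem mv_one (v : ι → ZMod 2) : D.mv 1 v = v := by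
  obtain ⟨a, ha, rfl⟩ := D.cls_surj v
  rw [← D.pi_one, ← D.cls_conj 1 (Commute.one_left _) a ha]
  simp

theorem mv_mul {e f : K} (he : e ∈ D.H) (hf : f ∈ D.H) (v : ι → ZMod 2) :
    D.mv (e * f) v = D.mv e (D.mv f v) := by
  obtain ⟨c, hc, rfl⟩ := D.pi_surj e he
  obtain ⟨d, hd, rfl⟩ := D.pi_surj f hf
  obtain ⟨a, ha, rfl⟩ := D.cls_surj v
  rw [← D.pi_mul _ _ hc hd, ← D.cls_conj d hd a ha, ← D.cls_conj c hc _ (D.conj_memQ hd ha),
    ← D.cls_conj _ (hc.mul_left hd) a ha]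
  exact congrArg D.cls (by group)

theorem mv_add {e : K} (he : e ∈ D.H) (u v : ι → ZMod 2) : D.mv e (u + v) = D.mv e u + D.mv e v := by
  obtain ⟨c, hc, rfl⟩ := D.pi_surj e he
  obtain ⟨a, ha, rfl⟩ := D.cls_surj u
  obtain ⟨b, hb, rfl⟩ := D.cls_surj v
  rw [← D.cls_mul a ha b hb, ← D.cls_conj c hc _ (mul_mem ha hb), ← D.cls_conj c hc a ha,
    ← D.cls_conj c hc b hb, ← D.cls_mul _ (D.conj_memQ hc ha) _ (D.conj_memQ hc hb)]
  exact congrArg D.cls (by group)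

theorem mv_zero {e : K} (he : e ∈ D.H) : D.mv e 0 = 0 := by
  have h := D.mv_add he 0 0
  rw [add_zero] at h
  exact left_eq_add.1 h

theorem mv_inv {e : K} (he : e ∈ D.H) (v : ι → ZMod 2) : D.mv e (D.mv e⁻¹ v) = v := by
  rw [← D.mv_mul he (inv_mem he), mul_inv_cancel, D.mv_one]

theorem inv_mv {e : K} (he : e ∈ D.H) (v : ι → ZMod 2) : D.mv e⁻¹ (D.mv e v) = v := by
  rw [← D.mv_mul (inv_mem he) he, inv_mul_cancel, D.mv_one]

theorem mv_injective {e : K} (he : e ∈ D.H) : Function.Injective (D.mv e) := fun u v h => by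
  rw [← D.inv_mv he u, h, D.inv_mv he]

theorem mv_qf {e : K} (he : e ∈ D.H) (v : ι → ZMod 2) : D.qf (D.mv e v) = D.qf v := by
  obtain ⟨c, hc, rfl⟩ := D.pi_surj e he
  obtain ⟨a, ha, rfl⟩ := D.cls_surj v
  rw [← D.cls_conj c hc a ha]
  have h1 := D.cls_sq _ (D.conj_memQ hc ha)
  have h2 := D.cls_sq a ha
  rw [show c * a * c⁻¹ * (c * a * c⁻¹) = c * (a * a) * c⁻¹ by group, conj_eq_one_iff, h2] at h1
  rcases bit (D.qf (D.cls a)) with e | e <;> rcases bit (D.qf (D.cls (c * a * c⁻¹))) with e' | e' <;>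
    simp [e, e'] at h1 ⊢

theorem mv_B {e : K} (he : e ∈ D.H) (u v : ι → ZMod 2) : D.B (D.mv e u) (D.mv e v) = D.B u v := by
  have h := D.space.add (D.mv e u) (D.mv e v)
  rw [← D.mv_add he, D.mv_qf he, D.mv_qf he, D.mv_qf he, D.space.add] at h
  exact (add_left_cancel h).symm

/-- The classes of a subgroup. -/
def img (S : Subgroup G) : Submodule (ZMod 2) (ι → ZMod 2) where
  carrier := {v | ∃ a ∈ S ⊓ D.Q, D.cls a = v}
  zero_mem' := ⟨1, one_mem _, D.cls_one⟩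
  add_mem' := by
    rintro _ _ ⟨a, ha, rfl⟩ ⟨b, hb, rfl⟩
    exact ⟨a * b, mul_mem ha hb, D.cls_mul a ha.2 b hb.2⟩
  smul_mem' := by
    rintro r _ ⟨a, ha, rfl⟩
    rcases bit r with rfl | rfl
    · exact ⟨1, one_mem _, by rw [D.cls_one, zero_smul]⟩
    · exact ⟨a, ha, (one_smul _ _).symm⟩

theorem mem_img {S : Subgroup G} {v : ι → ZMod 2} : v ∈ D.img S ↔ ∃ a ∈ S ⊓ D.Q, D.cls a = v := Iff.rfl

theorem mem_img_iff {S : Subgroup G} (hz : D.z ∈ S) {a : G} (ha : a ∈ D.Q) :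
    D.cls a ∈ D.img S ↔ a ∈ S := by
  refine ⟨fun ⟨b, hb, e⟩ => ?_, fun h => ⟨a, ⟨h, ha⟩, rfl⟩⟩
  rcases D.cls_eq hb.2 ha e with rfl | rfl
  · exact hb.1
  · exact mul_mem hz hb.1

theorem card_img {S : Subgroup G} (hS : S ≤ D.Q) (hz : D.z ∈ S) :
    Nat.card S = 2 * Nat.card (D.img S) := by
  let φ : S →* Multiplicative (D.img S) :=
    MonoidHom.mk' (fun a => Multiplicative.ofAdd ⟨D.cls a, a, ⟨a.2, hS a.2⟩, rfl⟩) fun a c => by
      rw [← ofAdd_add]
      exact congrArg _ (Subtype.ext (D.cls_mul a (hS a.2) c (hS c.2)))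
  have hs : Function.Surjective φ := fun v => by
    obtain ⟨a, ha, e⟩ := (Multiplicative.toAdd v).2
    exact ⟨⟨a, ha.1⟩, congrArg Multiplicative.ofAdd (Subtype.ext e)⟩
  have hm : ∀ a : S, a ∈ φ.ker ↔ (a : G) = 1 ∨ (a : G) = D.z := fun a =>
    ⟨fun h => (D.cls_ker a (hS a.2)).1 (congrArg Subtype.val (ofAdd_eq_one.1 h)),
      fun h => ofAdd_eq_one.2 (Subtype.ext ((D.cls_ker a (hS a.2)).2 h))⟩
  have hk : Nat.card φ.ker = 2 := by
    rw [Nat.card_eq_two_iff]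
    refine ⟨⟨1, one_mem _⟩, ⟨⟨D.z, hz⟩, (hm _).2 (Or.inr rfl)⟩,
      fun h => D.ctx.ne_one (congrArg (fun x : φ.ker => ((x : S) : G)) h).symm,
      Set.eq_univ_iff_forall.2 fun x => ?_⟩
    rcases (hm x.1).1 x.2 with e | e
    · exact Or.inl (Subtype.ext (Subtype.ext e))
    · exact Or.inr (Subtype.ext (Subtype.ext e))
  rw [Subgroup.card_eq_card_quotient_mul_card_subgroup φ.ker,
    Nat.card_congr (QuotientGroup.quotientKerEquivOfSurjective φ hs).toEquiv, hk,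
    Nat.card_congr Multiplicative.toAdd, mul_comm]

theorem ti_img {S : Subgroup G} (h : ∀ a ∈ S, ∀ b ∈ S, Commute a b) :
    ∀ u ∈ D.img S, ∀ v ∈ D.img S, D.B u v = 0 := by
  rintro _ ⟨a, ha, rfl⟩ _ ⟨b, hb, rfl⟩
  exact (D.cls_comm a ha.2 b hb.2).1 (h a ha.1 b hb.1)

theorem card_orth (W : Submodule (ZMod 2) (ι → ZMod 2)) :
    Nat.card W * Nat.card (D.B.orthogonal W) = 256 := by
  rw [Module.natCard_eq_pow_finrank (K := ZMod 2) (V := W),
    Module.natCard_eq_pow_finrank (K := ZMod 2) (V := D.B.orthogonal W), Nat.card_zmod,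
    ← pow_add, add_comm, finrank_orth D.space W, D.card]
  norm_num

theorem ti_card {W : Submodule (ZMod 2) (ι → ZMod 2)} (h : ∀ u ∈ W, ∀ v ∈ W, D.B u v = 0) :
    Nat.card W ≤ 16 := by
  have hle : W ≤ D.B.orthogonal W := fun v hv u hu => h u hu v hv
  have h1 := D.card_orth W
  have h2 : Nat.card W ≤ Nat.card (D.B.orthogonal W) :=
    Nat.card_le_card_of_injective (Submodule.inclusion hle) (Submodule.inclusion_injective hle)
  nlinarith

theorem ti_perp {W : Submodule (ZMod 2) (ι → ZMod 2)} (h : ∀ u ∈ W, ∀ v ∈ W, D.B u v = 0)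
    (hc : Nat.card W = 16) {v : ι → ZMod 2} (hv : ∀ u ∈ W, D.B u v = 0) : v ∈ W := by
  have hle : W ≤ D.B.orthogonal W := fun v hv u hu => h u hu v hv
  have h1 := D.card_orth W
  rw [hc] at h1
  have : (W : Set (ι → ZMod 2)) = (D.B.orthogonal W : Set (ι → ZMod 2)) := by
    refine Set.eq_of_subset_of_ncard_le hle ?_ (Set.toFinite _)
    rw [← Nat.card_coe_set_eq, ← Nat.card_coe_set_eq]
    show Nat.card (D.B.orthogonal W) ≤ Nat.card W
    omega
  exact this.ge (show v ∈ D.B.orthogonal W from hv)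

theorem card_cent {a : G} (ha : a ∈ D.Q) (h1 : a ≠ 1) (hz : a ≠ D.z) :
    Nat.card ↥(D.Q ⊓ Subgroup.centralizer ({a} : Set G)) = 256 := by
  have hne : D.cls a ≠ 0 := fun h => ((D.cls_ker a ha).1 h).elim h1 hz
  have e : D.img (D.Q ⊓ Subgroup.centralizer ({a} : Set G)) = D.B.orthogonal (Submodule.span (ZMod 2) {D.cls a}) := by
    ext v
    constructor
    · rintro ⟨b, ⟨⟨hb, hba⟩, -⟩, rfl⟩ u hu
      obtain ⟨r, rfl⟩ := Submodule.mem_span_singleton.1 hu
      show D.B (r • D.cls a) (D.cls b) = 0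
      rw [map_smul, LinearMap.smul_apply, (D.cls_comm a ha b hb).1
        (show Commute b a from Subgroup.mem_centralizer_singleton_iff.1 hba).symm, smul_zero]
    · intro hv
      obtain ⟨b, hb, rfl⟩ := D.cls_surj v
      exact ⟨b, ⟨⟨hb, Subgroup.mem_centralizer_singleton_iff.2
        ((D.cls_comm a ha b hb).2 (hv _ (Submodule.mem_span_singleton_self _))).eq.symm⟩, hb⟩, rfl⟩
  rw [D.card_img inf_le_left ⟨D.ctx.mem, Subgroup.mem_centralizer_singleton_iff.2 (D.cz ha).eq.symm⟩, e]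
  have h := D.card_orth (Submodule.span (ZMod 2) {D.cls a})
  rw [Module.natCard_eq_pow_finrank (K := ZMod 2) (V := Submodule.span (ZMod 2) {D.cls a}), Nat.card_zmod,
    finrank_span_singleton hne, pow_one] at h
  omega

end Data

end Cfsg.Lib.Extra.SymAltSix
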