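import Cfsg.Agent.Lib.Extra.SymAltSix.Eigen

/-!
# The central element of order three fixes nothing
-/

set_option autoImplicit false
set_option linter.style.haveILetI false

namespace Cfsg.Lib.Extra.SymAltSix

open Equiv Cfsg.Lib.Linear.Orth
open Cfsg.Lib.Extra.Wide (bit bit_self vadd_self vadd_eq_zero)

/-- An element of order five. -/
def fK : K := (1, swap 0 1 * swap 1 2 * swap 2 3 * swap 3 4)

theorem fK_facts : fK ∈ L ∧ fK * (fK * (fK * (fK * fK))) = 1 := ⟨mem_L.2 (by decide), by decide +kernel⟩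

theorem commute_x_one : ∀ s : Perm (Fin 3), xK.1 * s * xK.1⁻¹ * s⁻¹ = 1 → s * s = 1 → s = 1 := by decide +kernel

theorem square_one_of_comm : ∀ s : Perm (Fin 3),
    xK.1 * s * xK.1⁻¹ * s⁻¹ * (xK.1 * s * xK.1⁻¹ * s⁻¹) = 1 → xK.1 * s * xK.1⁻¹ * s⁻¹ = 1 := by decide +kernel

theorem even_invol_three : ∀ s : Perm (Fin 3), Perm.sign s = 1 → s * s = 1 → s = 1 := by decide +kernel

theorem inverted_five : ∀ p : Perm (Fin 6), Perm.sign p = 1 → p * p = 1 → p ≠ 1 →
    ∃ f ∈ ([0, 1, 2, 3, 4, 5].product [0, 1, 2, 3, 4, 5] : List (Fin 6 × Fin 6)).flatMap (fun ab =>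
        ([0, 1, 2, 3, 4, 5].product ([0, 1, 2, 3, 4, 5].product [0, 1, 2, 3, 4, 5]) :
          List (Fin 6 × Fin 6 × Fin 6)).map fun cde =>
          swap ab.1 ab.2 * swap ab.2 cde.1 * swap cde.1 cde.2.1 * swap cde.2.1 cde.2.2),
      f * (f * (f * (f * f))) = 1 ∧ f ≠ 1 ∧ Perm.sign f = 1 ∧ p * f * p = f * (f * (f * f)) := by
  decide +kernel

/-- The symmetric group of degree six has no elementary abelian subgroup of order sixteen. -/
theorem no_sixteen (S : Subgroup (Perm (Fin 6))) (h2 : ∀ s ∈ S, s * s = 1) : Nat.card S < 16 := by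
  haveI : Fact (Nat.Prime 2) := ⟨Nat.prime_two⟩
  have hp : IsPGroup 2 S := fun s => ⟨1, by rw [pow_one, pow_two]; exact Subtype.ext (h2 s s.2)⟩
  obtain ⟨n, hn⟩ := IsPGroup.iff_card.1 hp
  have h720 : Nat.card (Perm (Fin 6)) = 720 := by
    rw [Nat.card_eq_fintype_card, Fintype.card_perm, Fintype.card_fin]; decide
  have hdvd : 2 ^ n ∣ 720 := hn ▸ h720 ▸ Subgroup.card_subgroup_dvd_card S
  have hn4 : n ≤ 4 := by
    by_contra hgt
    have h32 : 32 ∣ 720 := (pow_dvd_pow 2 (show 5 ≤ n by omega)).trans hdvd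
    norm_num at h32
  by_contra hge
  push Not at hge
  obtain ⟨P, hP⟩ := hp.exists_le_sylow
  obtain ⟨m, hm⟩ := IsPGroup.iff_card.1 P.2
  have hm4 : m ≤ 4 := by
    by_contra hgt
    have hdvd' : 2 ^ m ∣ 720 := hm ▸ h720 ▸ Subgroup.card_subgroup_dvd_card (P : Subgroup (Perm (Fin 6)))
    have h32 : 32 ∣ 720 := (pow_dvd_pow 2 (show 5 ≤ m by omega)).trans hdvd'
    norm_num at h32
  have hPS : S = P := Subgroup.eq_of_le_of_card_ge hP (by
    rw [hm]; exact (Nat.pow_le_pow_right (by norm_num) hm4).trans hge)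
  set c : Perm (Fin 6) := swap 0 1 * swap 1 2 * swap 2 3 with hc
  have hcp : IsPGroup 2 (Subgroup.zpowers c) := IsPGroup.of_card (n := 2) (by
    rw [Nat.card_zpowers]
    exact orderOf_eq_prime_pow (n := 1) (by rw [hc]; decide +kernel) (by rw [hc]; decide +kernel))
  obtain ⟨P', hP'⟩ := hcp.exists_le_sylow
  set e := Sylow.equiv P' P
  set c' : (P' : Subgroup (Perm (Fin 6))) := ⟨c, hP' (Subgroup.mem_zpowers c)⟩
  have hsq : e c' * e c' = 1 := Subtype.ext (h2 _ (hPS ▸ (e c').2))
  rw [← map_mul, MulEquiv.map_eq_one_iff] at hsq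
  have hne : c * c ≠ 1 := by rw [hc]; decide +kernel
  exact hne (congrArg Subtype.val hsq)

variable {G : Type*} [Group G] {ι : Type} [Fintype ι] [DecidableEq ι] (D : Data G ι)

namespace Data

/-- A subspace invariant under a fixed-point-free element of order five has one more than a multiple of five
elements. -/
theorem card_five {W : Submodule (ZMod 2) (ι → ZMod 2)} {f : K} (hf : f ∈ D.H)
    (h5 : f * (f * (f * (f * f))) = 1) (hW : ∀ v ∈ W, D.mv f v ∈ W)
    (hfree : ∀ v ∈ W, D.mv f v = v → v = 0) : Nat.card W % 5 = 1 := by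
  classical
  haveI : Fact (Nat.Prime 5) := ⟨by norm_num⟩
  let σ : Equiv.Perm W := Equiv.ofBijective (fun v => ⟨D.mv f v, hW v v.2⟩)
    (Finite.injective_iff_bijective.1 fun u v h => Subtype.ext (D.mv_injective hf (congrArg Subtype.val h)))
  have hσ : σ ^ 5 ^ 1 = 1 := Equiv.ext fun v => Subtype.ext (by
    show D.mv f (D.mv f (D.mv f (D.mv f (D.mv f (v : ι → ZMod 2))))) = v
    have h := congrArg (fun e => D.mv e (v : ι → ZMod 2)) h5
    simp only [D.mv_mul hf (mul_mem hf (mul_mem hf (mul_mem hf hf))), D.mv_mul hf (mul_mem hf (mul_mem hf hf)),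
      D.mv_mul hf (mul_mem hf hf), D.mv_mul hf hf, D.mv_one] at h
    exact h)
  have hsupp : σ.supportᶜ = {0} := by
    ext v
    simp only [Finset.mem_compl, Equiv.Perm.mem_support, not_not, Finset.mem_singleton]
    constructor
    · exact fun h => Subtype.ext (hfree v v.2 (congrArg Subtype.val h))
    · rintro rfl; exact Subtype.ext (D.mv_zero hf)
  have h := Equiv.Perm.card_compl_support_modEq (p := 5) (n := 1) hσ
  rw [hsupp, Finset.card_singleton] at h
  rw [Nat.card_eq_fintype_card]
  exact h.symm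

/-- The part without central fixed points has one more than a multiple of three elements. -/
theorem card_mov_three : Nat.card D.movX % 3 = 1 := by
  classical
  haveI : Fact (Nat.Prime 3) := ⟨Nat.prime_three⟩
  let σ : Equiv.Perm D.movX := Equiv.ofBijective (fun v => ⟨D.X v, D.X_mem_mov v.2⟩)
    (Finite.injective_iff_bijective.1 fun u v h => Subtype.ext (D.mv_injective D.xH (congrArg Subtype.val h)))
  have hσ : σ ^ 3 ^ 1 = 1 := Equiv.ext fun v => Subtype.ext (D.X_three v)
  have hsupp : σ.supportᶜ = {0} := by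
    ext v
    simp only [Finset.mem_compl, Equiv.Perm.mem_support, not_not, Finset.mem_singleton]
    constructor
    · exact fun h => Subtype.ext (D.X_free v.2 (congrArg Subtype.val h))
    · rintro rfl; exact Subtype.ext D.X_zero
  have h := Equiv.Perm.card_compl_support_modEq (p := 3) (n := 1) hσ
  rw [hsupp, Finset.card_singleton] at h
  rw [Nat.card_eq_fintype_card]
  exact h.symm

theorem card_split : Nat.card D.fixX * Nat.card D.movX = 256 := by
  have hb : Function.Bijective fun p : D.fixX × D.movX => (p.1 : ι → ZMod 2) + p.2 := by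
    constructor
    · rintro ⟨⟨a, ha⟩, ⟨b, hb⟩⟩ ⟨⟨a', ha'⟩, ⟨b', hb'⟩⟩ (h : a + b = a' + b')
      have h1 : a + a' = b + b' := by
        calc a + a' = a + b + (b + a') := by rw [add_assoc, ← add_assoc b b, vadd_self, zero_add]
          _ = (a' + a') + (b + b') := by rw [h]; abel
          _ = b + b' := by rw [vadd_self, zero_add]
      have h0 := D.fix_mov_eq_zero (add_mem ha ha') (h1 ▸ add_mem hb hb')
      rw [h0] at h1
      exact Prod.ext (Subtype.ext (vadd_eq_zero h0)) (Subtype.ext (vadd_eq_zero h1.symm))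
    · exact fun v => ⟨(⟨_, D.pC_mem v⟩, ⟨_, D.pD_mem v⟩), D.pC_add_pD v⟩
  rw [← Nat.card_prod, Nat.card_eq_of_bijective _ hb, Nat.card_eq_fintype_card, Fintype.card_fun, ZMod.card,
    D.card]
  norm_num

/-- The involutions of `A₆` with a fixed-point-free element of order five on the fixed space would leave a
large totally isotropic subspace. -/
theorem exists_pairing (htriv : ∀ p : Perm (Fin 6), Perm.sign p = 1 → ∀ v ∈ D.movX, D.mv (1, p) v = v)
    (hTI : ∀ S : Submodule (ZMod 2) (ι → ZMod 2), S ≤ D.fixX → (∀ u ∈ S, ∀ v ∈ S, D.B u v = 0) →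
      Nat.card S ≤ 8)
    {p : Perm (Fin 6)} (hp : Perm.sign p = 1) (hp2 : p * p = 1) (hp1 : p ≠ 1) :
    ∃ y ∈ D.fixX, D.B y (D.mv (1, p) y) = 1 := by
  obtain ⟨f, -, h5, hf1, hfs, hpf⟩ := inverted_five p hp hp2 hp1
  set i : K := (1, p) with hi
  set F : K := (1, f) with hF
  have hiH : i ∈ D.H := D.L_le (one_mem_L hp)
  have hFH : F ∈ D.H := D.L_le (one_mem_L hfs)
  have hxi : xK * i = i * xK := x_comm_one _
  have hxF : xK * F = F * xK := x_comm_one _
  have hF5 : ∀ v, D.mv F (D.mv F (D.mv F (D.mv F (D.mv F v)))) = v := fun v => by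
    have h := congrArg (fun e => D.mv e v)
      (show F * (F * (F * (F * F))) = 1 by rw [hF]; exact Prod.ext (by simp) h5)
    simp only [D.mv_mul hFH (mul_mem hFH (mul_mem hFH (mul_mem hFH hFH))), D.mv_mul hFH (mul_mem hFH (mul_mem hFH hFH)),
      D.mv_mul hFH (mul_mem hFH hFH), D.mv_mul hFH hFH, D.mv_one] at h
    exact h
  have hiF : ∀ v, D.mv i (D.mv F v) = D.mv F (D.mv F (D.mv F (D.mv F (D.mv i v)))) := fun v => by
    have h : D.mv (i * F) v = D.mv (F * (F * (F * (F * i)))) v := ?_
    · simp only [D.mv_mul hFH (mul_mem hFH (mul_mem hFH (mul_mem hFH hiH))),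
        D.mv_mul hFH (mul_mem hFH (mul_mem hFH hiH)), D.mv_mul hFH (mul_mem hFH hiH), D.mv_mul hFH hiH,
        D.mv_mul hiH hFH] at h
      exact h
    refine congrArg (fun e => D.mv e v) ?_
    rw [hi, hF]
    refine Prod.ext (by simp) ?_
    show p * f = f * (f * (f * (f * p)))
    calc p * f = p * f * p * p := by rw [mul_assoc (p * f), hp2, mul_one]
      _ = _ := by rw [hpf]; simp only [mul_assoc]
  -- a fixed vector of `i` in the part where `F` has no fixed point
  let P5 : (ι → ZMod 2) → (ι → ZMod 2) := fun v =>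
    v + D.mv F v + D.mv F (D.mv F v) + D.mv F (D.mv F (D.mv F v)) + D.mv F (D.mv F (D.mv F (D.mv F v)))
  have hPadd : ∀ u v, P5 (u + v) = P5 u + P5 v := fun u v => by
    simp only [P5, D.mv_add hFH]; abel
  have hPfix : ∀ v, D.mv F (P5 v) = P5 v := fun v => by
    simp only [P5, D.mv_add hFH, hF5]; abel
  have hPof : ∀ v, D.mv F v = v → P5 v = v := fun v h => by
    simp only [P5, h]; rw [vadd_self, zero_add, vadd_self, zero_add]
  have hPi : ∀ v, P5 (D.mv i v) = D.mv i (P5 v) := fun v => by
    simp only [P5, D.mv_add hiH, hiF, hF5]; abel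
  obtain ⟨w, hwC, hwF⟩ : ∃ w ∈ D.fixX, D.mv F w ≠ w := by
    by_contra hno
    push Not at hno
    refine hf1 (congrArg Prod.snd (D.mv_faithful F hFH fun v => ?_))
    conv_lhs => rw [← D.pC_add_pD v, D.mv_add hFH, hno _ (D.pC_mem v), htriv f hfs _ (D.pD_mem v)]
    exact D.pC_add_pD v
  set w' := w + P5 w
  have hw' : P5 w' = 0 := by rw [hPadd, hPof _ (hPfix w), vadd_self]
  have hw'C : w' ∈ D.fixX := by
    refine add_mem hwC ?_
    have h1 := D.fix_invariant hFH hxF hwC
    have h2 := D.fix_invariant hFH hxF h1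
    have h3 := D.fix_invariant hFH hxF h2
    exact add_mem (add_mem (add_mem (add_mem hwC h1) h2) h3) (D.fix_invariant hFH hxF h3)
  have hw'0 : w' ≠ 0 := fun h => hwF (by rw [vadd_eq_zero h]; exact hPfix w)
  obtain ⟨e, heC, he0, hei, heP⟩ : ∃ e ∈ D.fixX, e ≠ 0 ∧ D.mv i e = e ∧ P5 e = 0 := by
    by_cases h : D.mv i w' = w'
    · exact ⟨w', hw'C, hw'0, h, hw'⟩
    · refine ⟨D.mv i w' + w', add_mem (D.fix_invariant hiH hxi hw'C) hw'C, fun h0 => h (vadd_eq_zero h0), ?_, ?_⟩
      · rw [D.mv_add hiH, ← D.mv_mul hiH hiH, show i * i = 1 by rw [hi]; exact Prod.ext (by simp) hp2,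
          D.mv_one, add_comm]
      · rw [hPadd, hPi, hw', D.mv_zero hiH, add_zero]
  by_contra hno
  push Not at hno
  have hzero : ∀ y ∈ D.fixX, D.B y (D.mv i y) = 0 := fun y hy => (bit _).resolve_right (hno y hy)
  set e1 := D.mv F e with he1
  set e2 := D.mv F e1 with he2
  set e3 := D.mv F e2 with he3
  set e4 := D.mv F e3 with he4
  have f4 : D.mv F e4 = e := hF5 e
  have c1 : e1 ∈ D.fixX := D.fix_invariant hFH hxF heC
  have c2 : e2 ∈ D.fixX := D.fix_invariant hFH hxF c1
  have c3 : e3 ∈ D.fixX := D.fix_invariant hFH hxF c2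
  have c4 : e4 ∈ D.fixX := D.fix_invariant hFH hxF c3
  have i1 : D.mv i e1 = e4 := by rw [he1, hiF, hei]
  have i3 : D.mv i e3 = e2 := by
    rw [he3, hiF, he2, hiF, i1]
    simp only [f4, ← he1, ← he2, ← he3, ← he4]
  have b1 : D.B e e1 = 0 := by
    have h := hzero e3 c3
    rw [i3] at h
    rw [← h, D.space.symm e3]
    calc D.B e e1 = D.B (D.mv F e) (D.mv F e1) := (D.mv_B hFH _ _).symm
      _ = D.B (D.mv F e1) (D.mv F e2) := (D.mv_B hFH _ _).symm
      _ = _ := rfl
  have b3 : D.B e e3 = 0 := by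
    have h := hzero e1 c1
    rw [i1] at h
    rw [← h]
    exact (D.mv_B hFH _ _).symm
  have b2 : D.B e e2 = 0 := by
    rw [← D.mv_B hFH e e2, ← he3, ← D.mv_B hFH (D.mv F e) e3, ← he4, ← he1, ← D.mv_B hFH _ e4, f4, ← he2,
      ← he3, D.space.symm]
    exact b3
  have b4 : D.B e e4 = 0 := by
    rw [← D.mv_B hFH e e4, f4, ← he1, D.space.symm]
    exact b1
  set vs : Fin 5 → ι → ZMod 2 := ![e, e1, e2, e3, e4]
  set S := Submodule.span (ZMod 2) (Set.range vs) with hS
  have hvs : ∀ m, D.mv F (vs m) = vs (m + 1) := by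
    intro m; fin_cases m
    · rfl
    · rfl
    · rfl
    · rfl
    · exact f4
  have hB : ∀ m n, D.B (vs m) (vs n) = 0 := by
    have hshift : ∀ m n, D.B (vs m) (vs n) = D.B (vs (m + 1)) (vs (n + 1)) := fun m n => by
      rw [← hvs, ← hvs, D.mv_B hFH]
    have h0 : ∀ n, D.B (vs 0) (vs n) = 0 := by
      intro n; fin_cases n
      · exact Cfsg.Lib.Extra.Wide.B_self D.space e
      · exact b1
      · exact b2
      · exact b3
      · exact b4
    have step : ∀ m, (∀ n, D.B (vs m) (vs n) = 0) → ∀ n, D.B (vs (m + 1)) (vs n) = 0 := fun m hm n => by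
      rw [← sub_add_cancel n 1, ← hshift]
      exact hm _
    intro m
    fin_cases m
    exacts [h0, step _ h0, step _ (step _ h0), step _ (step _ (step _ h0)), step _ (step _ (step _ (step _ h0)))]
  have hSinv : ∀ v ∈ S, D.mv F v ∈ S := by
    intro v hv
    have : S ≤ S.comap (D.lin hFH) := Submodule.span_le.2 (by
      rintro _ ⟨m, rfl⟩
      show D.mv F (vs m) ∈ S
      rw [hvs]; exact Submodule.subset_span ⟨_, rfl⟩)
    exact this hv
  have hSC : S ≤ D.fixX := Submodule.span_le.2 (by
    rintro _ ⟨m, rfl⟩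
    fin_cases m
    exacts [heC, c1, c2, c3, c4])
  have hSTI : ∀ u ∈ S, ∀ v ∈ S, D.B u v = 0 := by
    intro u hu
    induction hu using Submodule.span_induction with
    | mem x hx =>
      obtain ⟨m, rfl⟩ := hx
      intro v hv
      induction hv using Submodule.span_induction with
      | mem y hy => obtain ⟨n, rfl⟩ := hy; exact hB m n
      | zero => exact map_zero _
      | add y y' _ _ h h' => rw [map_add, h, h', add_zero]
      | smul r y _ h => rw [map_smul, h, smul_zero]
    | zero => intro v _; simp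
    | add x x' _ _ h h' => intro v hv; rw [map_add, LinearMap.add_apply, h v hv, h' v hv, add_zero]
    | smul r x _ h => intro v hv; rw [map_smul, LinearMap.smul_apply, h v hv, smul_zero]
  have hP5S : ∀ v ∈ S, P5 v = 0 := by
    intro v hv
    induction hv using Submodule.span_induction with
    | mem x hx =>
      obtain ⟨m, rfl⟩ := hx
      have hstep : ∀ m, P5 (vs (m + 1)) = P5 (vs m) := fun m => by
        rw [← hvs]; simp only [P5, hF5]; abel
      have q0 : P5 (vs 0) = 0 := heP
      have q1 : P5 (vs 1) = 0 := (hstep 0).trans q0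
      have q2 : P5 (vs 2) = 0 := (hstep 1).trans q1
      have q3 : P5 (vs 3) = 0 := (hstep 2).trans q2
      have q4 : P5 (vs 4) = 0 := (hstep 3).trans q3
      fin_cases m
      exacts [q0, q1, q2, q3, q4]
    | zero => simp [P5, D.mv_zero hFH]
    | add x x' _ _ h h' => rw [hPadd, h, h', add_zero]
    | smul r x _ h => rcases bit r with rfl | rfl <;> simp [h, P5, D.mv_zero hFH]
  have hfree : ∀ v ∈ S, D.mv F v = v → v = 0 := fun v hv h => by rw [← hPof v h, hP5S v hv]
  have h16 : 8 < Nat.card S := by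
    have h5' := D.card_five hFH (by rw [hF]; exact Prod.ext (by simp) h5) hSinv hfree
    have hne : Nat.card S ≠ 1 := by
      intro h1
      haveI : Subsingleton S := (Nat.card_eq_one_iff_unique.1 h1).1
      exact he0 (congrArg Subtype.val (Subsingleton.elim (⟨e, Submodule.subset_span ⟨0, rfl⟩⟩ : S) 0))
    have hpow := Module.natCard_eq_pow_finrank (K := ZMod 2) (V := S)
    rw [Nat.card_zmod] at hpow
    rcases Nat.lt_or_ge (Module.finrank (ZMod 2) S) 4 with hlt | hge
    · generalize Module.finrank (ZMod 2) S = n at hpow hlt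
      interval_cases n <;> rw [hpow] at h5' hne <;> omega
    · rw [hpow]
      exact lt_of_lt_of_le (by norm_num) (Nat.pow_le_pow_right (by norm_num) hge)
  exact absurd (hTI S hSC hSTI) (not_le.2 h16)

/-- An element of `A₆` acting as the identity on the fixed space and on the other part is trivial. -/
theorem perm_trivial {p : Perm (Fin 6)} (hp : Perm.sign p = 1) (hC : ∀ v ∈ D.fixX, D.mv (1, p) v = v)
    (hD : ∀ v ∈ D.movX, D.mv (1, p) v = v) : p = 1 := by
  refine congrArg Prod.snd (D.mv_faithful (1, p) (D.L_le (one_mem_L hp)) fun v => ?_)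
  conv_lhs => rw [← D.pC_add_pD v, D.mv_add (D.L_le (one_mem_L hp)), hC _ (D.pC_mem v), hD _ (D.pD_mem v)]
  exact D.pC_add_pD v

theorem qf_nonzero_of_mov (h4 : Nat.card D.movX = 4) {v : ι → ZMod 2} (hv : v ∈ D.movX) (hv0 : v ≠ 0) :
    D.qf v = 1 ∧ D.B v (D.X v) = 1 := by
  have hXX : D.X (D.X v) = v + D.X v := by
    refine vadd_eq_zero ?_
    rw [mem_movX] at hv
    rw [← hv]; abel
  have hB : D.B v (D.X v) = D.qf v := by
    have h := D.space.add v (D.X v)
    rw [← hXX, D.X_qf, D.X_qf, bit_self, zero_add] at h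
    exact h.symm
  rcases bit (D.qf v) with e | e
  · exfalso
    rw [e] at hB
    refine hv0 (D.space.nondeg' fun u => ?_)
    rw [← D.pC_add_pD u, map_add, D.space.symm v (D.pC u), D.fix_orth_mov (D.pC_mem u) hv, zero_add]
    -- every vector of the four-element part is a combination of `v` and its image
    haveI := Fintype.ofFinite D.movX
    let φ : ZMod 2 × ZMod 2 → D.movX := fun ab => ⟨ab.1 • v + ab.2 • D.X v,
      add_mem (Submodule.smul_mem _ _ hv) (Submodule.smul_mem _ _ (D.X_mem_mov hv))⟩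
    have hφ : Function.Bijective φ := by
      rw [Fintype.bijective_iff_injective_and_card]
      refine ⟨fun a b h => ?_, ?_⟩
      · have h' := congrArg Subtype.val h
        obtain ⟨h1, h2⟩ := D.coord_term_zero hv hv0 (a := a.1 + b.1) (b := a.2 + b.2) (by
          rw [add_smul, add_smul, show a.1 • v + b.1 • v + (a.2 • D.X v + b.2 • D.X v) =
            (a.1 • v + a.2 • D.X v) + (b.1 • v + b.2 • D.X v) by abel]
          simp only [φ] at h'
          rw [h', vadd_self])
        exact Prod.ext (CharTwo.add_eq_zero.1 h1) (CharTwo.add_eq_zero.1 h2)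
      · rw [← Nat.card_eq_fintype_card, ← Nat.card_eq_fintype_card, h4]; simp
    obtain ⟨⟨a, b⟩, hab⟩ := hφ.2 ⟨_, D.pD_mem u⟩
    have hab' : a • v + b • D.X v = D.pD u := congrArg Subtype.val hab
    rw [← hab', map_add, map_smul, map_smul, hB, Cfsg.Lib.Extra.Wide.B_self D.space]
    simp
  · exact ⟨e, hB.trans e⟩

/-- Sixteen fixed vectors on which an element of order five is free would give orbits that are too large. -/
theorem no_sixteen_fixed (hfree : ∀ v ∈ D.fixX, D.mv fK v = v → v = 0) (h16 : Nat.card D.fixX = 16) : False := by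
  classical
  haveI : Fact (Nat.Prime 5) := ⟨by norm_num⟩
  haveI : IsSimpleGroup (alternatingGroup (Fin 6)) := alternatingGroup.isSimpleGroup (by simp)
  letI : MulAction (alternatingGroup (Fin 6)) D.fixX :=
    { smul := fun g v => ⟨D.mv (1, g.1) v, D.fix_invariant (D.L_le (one_mem_L g.2)) (x_comm_one _) v.2⟩
      one_smul := fun v => Subtype.ext (D.mv_one v)
      mul_smul := fun g h v => Subtype.ext (by
        show D.mv ((1, g.1) * (1, h.1)) v = D.mv (1, g.1) (D.mv (1, h.1) v)
        exact D.mv_mul (D.L_le (one_mem_L g.2)) (D.L_le (one_mem_L h.2)) v) }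
  have hf : Perm.sign (swap (0 : Fin 6) 1 * swap 1 2 * swap 2 3 * swap 3 4) = 1 := by decide
  let f : alternatingGroup (Fin 6) := ⟨_, Perm.mem_alternatingGroup.2 hf⟩
  have hforb : ∀ v : D.fixX, v ≠ 0 → 10 ≤ Nat.card (MulAction.orbit (alternatingGroup (Fin 6)) v) := by
    intro v hv
    have hfv : f • v ≠ v := fun h => hv (Subtype.ext (hfree v v.2 (congrArg Subtype.val h)))
    have hfa : Function.Injective (MulAction.toPermHom (alternatingGroup (Fin 6))
        (MulAction.orbit (alternatingGroup (Fin 6)) v)) := by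
      rw [← MonoidHom.ker_eq_bot_iff]
      refine (IsSimpleGroup.eq_bot_or_eq_top_of_normal _ (MonoidHom.normal_ker _)).resolve_right fun h => hfv ?_
      have hm : f ∈ (MulAction.toPermHom (alternatingGroup (Fin 6))
          (MulAction.orbit (alternatingGroup (Fin 6)) v)).ker := by rw [h]; exact Subgroup.mem_top f
      have h1 := DFunLike.congr_fun (MonoidHom.mem_ker.1 hm) ⟨v, MulAction.mem_orbit_self v⟩
      exact congrArg Subtype.val h1
    have h360 : 360 ≤ (Nat.card (MulAction.orbit (alternatingGroup (Fin 6)) v)).factorial := by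
      have h1 := Nat.card_le_card_of_injective _ hfa
      rw [Nat.card_perm, nat_card_alternatingGroup, Nat.card_eq_fintype_card, Fintype.card_fin] at h1
      exact le_trans (by decide) h1
    have hmod : Nat.card (MulAction.orbit (alternatingGroup (Fin 6)) v) % 5 = 0 := by
      set σ := MulAction.toPermHom (alternatingGroup (Fin 6)) (MulAction.orbit (alternatingGroup (Fin 6)) v) f
      have hσ : σ ^ 5 ^ 1 = 1 := by
        rw [← map_pow, show f ^ 5 ^ 1 = 1 from Subtype.ext (by
          show (swap (0 : Fin 6) 1 * swap 1 2 * swap 2 3 * swap 3 4) ^ 5 ^ 1 = 1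
          decide +kernel), map_one]
      have hsupp : σ.supportᶜ = ∅ := by
        refine Finset.eq_empty_of_forall_notMem fun w hw => ?_
        simp only [Finset.mem_compl, Equiv.Perm.mem_support, not_not] at hw
        have hw0 : (w : D.fixX) = 0 :=
          Subtype.ext (hfree _ w.1.2 (congrArg Subtype.val (congrArg Subtype.val hw)))
        obtain ⟨g, hg⟩ := w.2
        refine hv (Subtype.ext (D.mv_injective (D.L_le (one_mem_L g.2)) ?_))
        show (g • v : D.fixX).1 = D.mv (1, g.1) 0
        rw [show g • v = (w : D.fixX) from hg, hw0, D.mv_zero (D.L_le (one_mem_L g.2))]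
        rfl
      have h := Equiv.Perm.card_compl_support_modEq (p := 5) (n := 1) hσ
      rw [hsupp, Finset.card_empty] at h
      rw [Nat.card_eq_fintype_card]
      exact h.symm
    by_contra hlt
    rcases Nat.lt_or_ge (Nat.card (MulAction.orbit (alternatingGroup (Fin 6)) v)) 6 with h | h
    · have := Nat.factorial_le (Nat.le_of_lt_succ h)
      rw [show Nat.factorial 5 = 120 from rfl] at this
      omega
    · omega
  -- both kinds of nonzero vectors occur
  have hex : ∀ b : ZMod 2, ∃ v : D.fixX, v ≠ 0 ∧ D.qf v = b := by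
    intro b
    by_contra hno
    push Not at hno
    have hall : ∀ v : D.fixX, v ≠ 0 → D.qf v = b + 1 := fun v hv => by
      exact (show ∀ b a : ZMod 2, a ≠ b → a = b + 1 by decide) b _ (hno v hv)
    have hB : ∀ u v : D.fixX, u ≠ 0 → v ≠ 0 → u + v ≠ 0 → D.B u v = b + 1 := fun u v hu hv huv => by
      have h := D.space.add (u : ι → ZMod 2) v
      rw [← Submodule.coe_add, hall _ hu, hall _ hv, hall _ huv, bit_self, zero_add] at h
      exact h.symm
    obtain ⟨u, hu⟩ : ∃ u : D.fixX, u ≠ 0 := by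
      haveI : Nontrivial D.fixX := Finite.one_lt_card_iff_nontrivial.1 (by omega)
      exact exists_ne 0
    -- the form restricted to the fixed space is nondegenerate
    obtain ⟨w, hw⟩ : ∃ w : D.fixX, D.B u w = 1 := by
      by_contra hw
      push Not at hw
      refine hu (Subtype.ext (D.space.nondeg' fun t => ?_))
      rw [← D.pC_add_pD t, map_add, D.fix_orth_mov u.2 (D.pD_mem t), add_zero]
      exact (bit _).resolve_right (hw ⟨_, D.pC_mem t⟩)
    have hvv : ∀ a : D.fixX, a + a = 0 := fun a => Subtype.ext (vadd_self _)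
    have hw0 : w ≠ 0 := fun h => by rw [h, Submodule.coe_zero, map_zero] at hw; exact zero_ne_one hw
    have huw : u + w ≠ 0 := fun h => by
      have : (u : ι → ZMod 2) = w := vadd_eq_zero (congrArg Subtype.val h)
      rw [this, Cfsg.Lib.Extra.Wide.B_self D.space] at hw
      exact zero_ne_one hw
    have hb : b + 1 = 1 := by rw [← hB u w hu hw0 huw, hw]
    obtain ⟨t, ht0, htu, htw, htuw⟩ : ∃ t : D.fixX, t ≠ 0 ∧ t ≠ u ∧ t ≠ w ∧ t ≠ u + w := by
      by_contra hno'
      push Not at hno'
      have hle : (Finset.univ : Finset D.fixX) ⊆ {0, u, w, u + w} := fun t _ => by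
        simp only [Finset.mem_insert, Finset.mem_singleton]
        by_contra h
        push Not at h
        exact h.2.2.2 (hno' t h.1 h.2.1 h.2.2.1)
      have h1 := (Finset.card_le_card hle).trans Finset.card_le_four
      rw [Finset.card_univ, ← Nat.card_eq_fintype_card, h16] at h1
      omega
    have hne : ∀ a c : D.fixX, a ≠ c → a + c ≠ 0 := fun a c hac h => hac (Subtype.ext (vadd_eq_zero (congrArg Subtype.val h)))
    have h1 := hB t u ht0 hu (hne _ _ htu)
    have h2 := hB t w ht0 hw0 (hne _ _ htw)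
    have h3 := hB t (u + w) ht0 huw (hne _ _ htuw)
    rw [Submodule.coe_add, map_add, h1, h2, hb] at h3
    exact absurd h3 (by decide)
  obtain ⟨v0, hv0, q0⟩ := hex 0
  obtain ⟨v1, hv1, q1⟩ := hex 1
  set O0 := MulAction.orbit (alternatingGroup (Fin 6)) v0
  set O1 := MulAction.orbit (alternatingGroup (Fin 6)) v1
  have hq : ∀ (v : D.fixX) (w), w ∈ MulAction.orbit (alternatingGroup (Fin 6)) v → D.qf (w : D.fixX) = D.qf v := by
    rintro v _ ⟨g, rfl⟩
    exact D.mv_qf (D.L_le (one_mem_L g.2)) _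
  have hdis : Disjoint O0 O1 := Set.disjoint_left.2 fun w h0 h1 => by
    have := (hq _ _ h0).symm.trans (hq _ _ h1)
    rw [q0, q1] at this
    exact zero_ne_one this
  have hsum : Nat.card O0 + Nat.card O1 ≤ 16 := by
    rw [Nat.card_coe_set_eq, Nat.card_coe_set_eq, ← Set.ncard_union_eq hdis, ← h16, ← Set.ncard_univ]
    exact Set.ncard_le_ncard (Set.subset_univ _)
  have h0 := hforb v0 hv0
  have h1 := hforb v1 hv1
  change 10 ≤ Nat.card O0 at h0
  change 10 ≤ Nat.card O1 at h1
  omega

/-- A second conjugate of `z` in `Q` forces the central element of order three to fix nothing. -/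
theorem fixX_eq_bot_of_fused [Finite G] {k : G} (hk : D.Fused k) : D.fixX = ⊥ := by
  classical
  by_contra hne
  have htriv : ∀ p : Perm (Fin 6), Perm.sign p = 1 → ∀ v ∈ D.movX, D.mv (1, p) v = v := by
    by_contra h
    push Not at h
    obtain ⟨p, hp, v, hv, hpv⟩ := h
    exact hne (D.fixX_eq_bot ⟨p, hp, v, hv, hpv⟩)
  have hfH : fK ∈ D.H := D.L_le fK_facts.1
  have hfC : ∀ v ∈ D.fixX, D.mv fK v ∈ D.fixX := fun v hv => D.fix_invariant hfH (x_comm_one _) hv
  have hfne : ¬ ∀ v ∈ D.fixX, D.mv fK v = v := fun h => by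
    have := D.perm_trivial (p := swap 0 1 * swap 1 2 * swap 2 3 * swap 3 4) (by decide) h
      (htriv _ (by decide))
    exact absurd this (by decide +kernel)
  -- the sizes of the two parts
  have hsplit := D.card_split
  have h3 := D.card_mov_three
  obtain ⟨nC, hnC⟩ : ∃ n, Nat.card D.fixX = 2 ^ n :=
    ⟨_, by rw [Module.natCard_eq_pow_finrank (K := ZMod 2), Nat.card_zmod]⟩
  obtain ⟨nD, hnD⟩ : ∃ n, Nat.card D.movX = 2 ^ n :=
    ⟨_, by rw [Module.natCard_eq_pow_finrank (K := ZMod 2), Nat.card_zmod]⟩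
  have hsum : nC + nD = 8 := by
    rw [hnC, hnD, ← pow_add] at hsplit
    exact Nat.pow_right_injective le_rfl (hsplit.trans (by norm_num : (256 : ℕ) = 2 ^ 8))
  let fixF : Submodule (ZMod 2) (ι → ZMod 2) :=
    D.fixX ⊓ LinearMap.ker (D.lin hfH + LinearMap.id)
  have hfix_mem : ∀ v, v ∈ fixF ↔ v ∈ D.fixX ∧ D.mv fK v = v := fun v => by
    simp only [fixF, Submodule.mem_inf, LinearMap.mem_ker, LinearMap.add_apply, LinearMap.id_apply, lin_apply]
    exact and_congr_right fun _ => ⟨vadd_eq_zero, fun h => by rw [h, vadd_self]⟩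
  -- orbits on the fixed space: sizes of the fixed points and of the whole agree modulo five
  have hmod : Nat.card fixF % 5 = Nat.card D.fixX % 5 := by
    haveI : Fact (Nat.Prime 5) := ⟨by norm_num⟩
    let σ : Equiv.Perm D.fixX := Equiv.ofBijective (fun v => ⟨D.mv fK v, hfC v v.2⟩)
      (Finite.injective_iff_bijective.1 fun u v h => Subtype.ext (D.mv_injective hfH (congrArg Subtype.val h)))
    have hσ : σ ^ 5 ^ 1 = 1 := Equiv.ext fun v => Subtype.ext (by
      show D.mv fK (D.mv fK (D.mv fK (D.mv fK (D.mv fK (v : ι → ZMod 2))))) = v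
      have h := congrArg (fun e => D.mv e (v : ι → ZMod 2)) fK_facts.2
      simp only [D.mv_mul hfH (mul_mem hfH (mul_mem hfH (mul_mem hfH hfH))),
        D.mv_mul hfH (mul_mem hfH (mul_mem hfH hfH)), D.mv_mul hfH (mul_mem hfH hfH), D.mv_mul hfH hfH,
        D.mv_one] at h
      exact h)
    have h := Equiv.Perm.card_compl_support_modEq (p := 5) (n := 1) hσ
    rw [Nat.card_eq_fintype_card (α := D.fixX), ← h]
    refine congrArg (· % 5) ?_
    rw [← Nat.card_eq_finsetCard]
    refine Nat.card_congr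
      { toFun := fun v => ⟨⟨v, ((hfix_mem _).1 v.2).1⟩, by
          simpa [Finset.mem_compl, Equiv.Perm.mem_support, σ, Subtype.ext_iff] using ((hfix_mem _).1 v.2).2⟩
        invFun := fun v => ⟨v.1, (hfix_mem _).2 ⟨v.1.2,
          congrArg Subtype.val (not_not.1 (fun hh => Finset.mem_compl.1 v.2 (Equiv.Perm.mem_support.2 hh)))⟩⟩
        left_inv := fun v => rfl
        right_inv := fun v => rfl }
  obtain ⟨nF, hnF⟩ : ∃ n, Nat.card fixF = 2 ^ n :=
    ⟨_, by rw [Module.natCard_eq_pow_finrank (K := ZMod 2), Nat.card_zmod]⟩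
  have hFlt : nF < nC := by
    by_contra hge
    refine hfne fun v hv => ((hfix_mem v).1 ?_).2
    have he : (fixF : Set (ι → ZMod 2)) = D.fixX := Set.eq_of_subset_of_ncard_le
      (fun w hw => ((hfix_mem w).1 hw).1) (by
        rw [← Nat.card_coe_set_eq, ← Nat.card_coe_set_eq]
        show Nat.card D.fixX ≤ Nat.card fixF
        rw [hnC, hnF]; exact Nat.pow_le_pow_right (by norm_num) (not_lt.1 hge)) (Set.toFinite _)
    exact he.ge hv
  have hC4 : nC = 4 ∨ nC = 6 := by
    rw [hnC, hnF] at hmod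
    rw [hnD] at h3
    have hb : nC ≤ 8 := by omega
    have hF8 : nF ≤ 8 := by omega
    have hd : nD = 8 - nC := by omega
    subst hd
    have key : ∀ c f : Fin 9, f < c → 2 ^ f.val % 5 = 2 ^ c.val % 5 → 2 ^ (8 - c.val) % 3 = 1 →
        c.val = 4 ∨ c.val = 6 ∨ c.val = 8 := by decide
    rcases key ⟨nC, by omega⟩ ⟨nF, by omega⟩ hFlt hmod h3 with h | h | h
    · exact Or.inl h
    · exact Or.inr h
    · exfalso
      refine absurd (D.mv_faithful xK D.xH fun v => ?_) (by decide +kernel)
      have h0 : D.movX = ⊥ := by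
        haveI : Subsingleton D.movX := (Nat.card_eq_one_iff_unique.1 (by
          rw [hnD, show 8 - nC = 0 by simp only at h; omega]; rfl)).1
        exact Submodule.eq_bot_of_subsingleton
      have := D.pC_add_pD v
      rw [show D.pD v = 0 from (Submodule.eq_bot_iff _).1 h0 _ (D.pD_mem v), add_zero] at this
      rw [← this]
      exact D.mem_fixX.1 (D.pC_mem v)
  rcases hC4 with h4 | h6
  · -- sixteen fixed vectors: the orbits are too large
    have hF0 : nF = 0 := by
      rw [hnC, hnF, h4] at hmod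
      subst h4
      have key : ∀ f : Fin 4, 2 ^ f.val % 5 = 2 ^ 4 % 5 → f.val = 0 := by decide
      exact key ⟨nF, hFlt⟩ hmod
    have hfree : ∀ v ∈ D.fixX, D.mv fK v = v → v = 0 := fun v hv h => by
      haveI : Subsingleton fixF := (Nat.card_eq_one_iff_unique.1 (by rw [hnF, hF0, pow_zero])).1
      exact congrArg Subtype.val (Subsingleton.elim (⟨v, (hfix_mem v).2 ⟨hv, h⟩⟩ : fixF) 0)
    exact D.no_sixteen_fixed hfree (by rw [hnC, h4]; norm_num)
  -- sixty-four fixed vectors
  have hD4 : Nat.card D.movX = 4 := by rw [hnD, show nD = 2 by omega]; norm_num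
  have hTI : ∀ S : Submodule (ZMod 2) (ι → ZMod 2), S ≤ D.fixX → (∀ u ∈ S, ∀ v ∈ S, D.B u v = 0) →
      Nat.card S ≤ 8 := by
    intro S hS hti
    have hle : ∀ p : S × D.movX, (p.1 : ι → ZMod 2) + p.2 ∈ D.B.orthogonal S := fun p u hu => by
      show D.B u _ = 0
      rw [map_add, hti u hu _ p.1.2, D.fix_orth_mov (hS hu) p.2.2, add_zero]
    have hinj : Function.Injective fun p : S × D.movX => (⟨_, hle p⟩ : D.B.orthogonal S) := by
      rintro ⟨⟨a, ha⟩, ⟨b, hb⟩⟩ ⟨⟨a', ha'⟩, ⟨b', hb'⟩⟩ h
      have h' : a + b = a' + b' := congrArg Subtype.val h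
      have h1 : a + a' = b + b' := by
        calc a + a' = a + b + (b + a') := by rw [add_assoc, ← add_assoc b b, vadd_self, zero_add]
          _ = (a' + a') + (b + b') := by rw [h']; abel
          _ = b + b' := by rw [vadd_self, zero_add]
      have h0 := D.fix_mov_eq_zero (add_mem (hS ha) (hS ha')) (h1 ▸ add_mem hb hb')
      rw [h0] at h1
      exact Prod.ext (Subtype.ext (vadd_eq_zero h0)) (Subtype.ext (vadd_eq_zero h1.symm))
    have h1 := Nat.card_le_card_of_injective _ hinj
    rw [Nat.card_prod, hD4] at h1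
    have h2 := D.card_orth S
    nlinarith
  set v0 := D.cls (D.dd k) with hv0
  by_cases hp0 : D.pD v0 = 0
  · -- the class is fixed by the central element
    have hfixv : D.mv xK v0 = v0 := by
      refine D.mem_fixX.1 ?_
      rw [← D.pC_add_pD v0, hp0, add_zero]
      exact D.pC_mem v0
    have hebC : D.eb k ≤ D.fixX := fun u hu => by
      rw [mem_fixX]
      have h1 : D.X u ∈ D.eb k := hk.eb_invariant D.xH hfixv hu
      have h2 : D.X (D.X u) ∈ D.eb k := hk.eb_invariant D.xH hfixv h1
      have hpd : D.pD u ∈ D.eb k := add_mem h2 h1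
      have h0 : D.pD u = 0 := by
        by_contra h0
        have := (D.qf_nonzero_of_mov hD4 (D.pD_mem u) h0).1
        rw [hk.eb_singular hpd] at this
        exact absurd this (by decide)
      have := D.mem_fixX.1 (D.pC_mem u)
      rwa [show D.pC u = u by conv_rhs => rw [← D.pC_add_pD u, h0, add_zero]] at this
    have h16 : 16 ≤ Nat.card (D.cross k) := by
      have h1 := hk.card_cross
      have h2 := hTI _ hebC hk.ti
      nlinarith
    have hfst : ∀ e ∈ D.cross k, e.1 = 1 := by
      intro e he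
      have hm := mul_mem (hk.cross_conj he D.xH hfixv) (inv_mem he)
      have h1 : xK.1 * e.1 * xK.1⁻¹ * e.1⁻¹ = 1 :=
        square_one_of_comm e.1 (congrArg Prod.fst (hk.cross_sq hm))
      exact commute_x_one e.1 h1 (congrArg Prod.fst (hk.cross_sq he))
    let φ : D.cross k →* Perm (Fin 6) := (MonoidHom.snd _ _).comp (D.cross k).subtype
    have hφ : Function.Injective φ := fun a b h =>
      Subtype.ext (Prod.ext ((hfst _ a.2).trans (hfst _ b.2).symm) h)
    have := no_sixteen φ.range (by
      rintro _ ⟨a, rfl⟩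
      exact congrArg Prod.snd (hk.cross_sq a.2))
    rw [Nat.card_congr (MonoidHom.ofInjective hφ).symm.toEquiv] at this
    omega
  · -- an element of `A₆` in the cross image
    have hXp : D.X (D.pD v0) ∈ D.movX := D.X_mem_mov (D.pD_mem v0)
    have hBp : D.B v0 (D.X (D.pD v0)) = 1 := by
      have h : D.B (D.pC v0 + D.pD v0) (D.X (D.pD v0)) = 1 := by
        rw [map_add, LinearMap.add_apply, D.fix_orth_mov (D.pC_mem v0) hXp,
          (D.qf_nonzero_of_mov hD4 (D.pD_mem v0) hp0).2, zero_add]
      rwa [D.pC_add_pD] at h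
    obtain ⟨p, hp1, hps, hpA⟩ : ∃ p : Perm (Fin 6), p ≠ 1 ∧ Perm.sign p = 1 ∧ ((1, p) : K) ∈ D.cross k := by
      let σ : D.cross k →* ℤˣ × ℤˣ :=
        ((Perm.sign.comp (MonoidHom.fst _ _)).prod (Perm.sign.comp (MonoidHom.snd _ _))).comp (D.cross k).subtype
      have hker : σ.ker ≠ ⊥ := fun hb => by
        have h1 := Nat.card_le_card_of_injective σ ((MonoidHom.ker_eq_bot_iff σ).1 hb)
        rw [Nat.card_prod, Nat.card_eq_fintype_card (α := ℤˣ), Fintype.card_units_int] at h1
        have := hk.cross_ge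
        omega
      obtain ⟨⟨⟨s, p⟩, he⟩, hker', hne1⟩ := (Subgroup.bot_or_exists_ne_one _).resolve_left hker
      have hsig : (Perm.sign s, Perm.sign p) = ((1, 1) : ℤˣ × ℤˣ) := hker'
      have hs := even_invol_three s (congrArg Prod.fst hsig) (congrArg Prod.fst (hk.cross_sq he))
      subst hs
      exact ⟨p, fun h => hne1 (Subtype.ext (Prod.ext rfl h)), congrArg Prod.snd hsig, he⟩
    have hpH : ((1, p) : K) ∈ D.H := D.L_le (one_mem_L hps)
    obtain ⟨y, hyC, hy⟩ := D.exists_pairing htriv hTI hps (congrArg Prod.snd (hk.cross_sq hpA)) hp1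
    set y' := y + D.B v0 y • D.X (D.pD v0) with hy'
    have hperp : D.B v0 y' = 0 := by
      rw [hy', map_add, map_smul, hBp, smul_eq_mul, mul_one, bit_self]
    have hmem := hk.cross_mem hpA hperp
    have heq : D.mv (1, p) y' + y' = D.mv (1, p) y + y := by
      rw [hy', D.mv_add hpH, htriv p hps _ (Submodule.smul_mem _ _ hXp),
        show D.mv (1, p) y + D.B v0 y • D.X (D.pD v0) + (y + D.B v0 y • D.X (D.pD v0)) =
          D.mv (1, p) y + y + (D.B v0 y • D.X (D.pD v0) + D.B v0 y • D.X (D.pD v0)) by abel, vadd_self, add_zero]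
    rw [heq] at hmem
    have h0 := hk.eb_singular hmem
    rw [D.space.add, D.mv_qf hpH, bit_self, zero_add, D.space.symm, hy] at h0
    exact absurd h0 one_ne_zero

end Data

end Cfsg.Lib.Extra.SymAltSix
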