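import Cfsg.Agent.Lib.Extra.SymAltSix.TauChecks

/-!
# The second kind of cross image does not occur

Four second conjugates of the central involution at distinct pure tensors would share a nontrivial element of
their cross images.
-/

set_option autoImplicit false
set_option linter.style.haveILetI false

namespace Cfsg.Lib.Extra.SymAltSix

open Equiv Cfsg.Lib.Extra Cfsg.Lib.Linear.Orth
open Cfsg.Lib.Extra.Wide (bit vadd_self vadd_eq_zero)

variable {G : Type*} [Group G] {D : Data G (Fin 8)}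

theorem code_p0 : code p0 = 1 := code_vec (by norm_num)

/-- The translate of a second conjugate by an element of the centralizer. -/
theorem Tau.fused_mul {c k : G} (hc : Commute c D.z) (hk : D.Fused k) : D.Fused (c * k) := by
  have e : D.dd (c * k) = c * D.dd k * c⁻¹ := by simp only [Data.dd]; group
  refine ⟨e ▸ D.conj_memQ hc hk.mem, fun h => hk.ne ?_⟩
  rw [e, mul_inv_eq_iff_eq_mul, ← hc.eq] at h
  exact mul_left_cancel h

theorem Tau.cls_mul_left {c k : G} (hc : Commute c D.z) (hk : D.Fused k) :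
    D.cls (D.dd (c * k)) = D.mv (D.pi c) (D.cls (D.dd k)) := by
  rw [show D.dd (c * k) = c * D.dd k * c⁻¹ by simp only [Data.dd]; group, D.cls_conj c hc _ hk.mem]

/-- A second conjugate is the translate of one at the standard pure tensor. -/
theorem Tau.exists_std (hS : IsStd D) {k : G} (hk : D.Fused k) {e : K} (he : e ∈ L)
    (hv : act e p0 = D.cls (D.dd k)) :
    ∃ c, Commute c D.z ∧ D.pi c = e ∧ D.Fused (c⁻¹ * k) ∧ D.cls (D.dd (c⁻¹ * k)) = p0 := by
  obtain ⟨c, hc, hce⟩ := D.pi_surj e (D.L_le he)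
  refine ⟨c, hc, hce, Tau.fused_mul hc.inv_left hk, ?_⟩
  rw [Tau.cls_mul_left hc.inv_left hk, D.pi_inv hc, hce, hS.mv_act _ (inv_mem (D.L_le he)), ← hv, ← act_mul,
    inv_mul_cancel, act_one]

/-- A member of the cross image at a given pure tensor. -/
theorem Tau.cross_row (hS : IsStd D) (hT : CrossType D aTau) {j : G} (hj : D.Fused j) {g : G}
    (hg : g ∈ D.R j) (hgz : Commute g D.z) (hne : D.pi g ≠ 1) :
    ∃ i : Tau.Pt, code (D.cls (D.dd j)) = Tau.pcode i ∧ Tau.kcode (D.pi g) ∈ (Tau.row i).tail := by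
  obtain ⟨e, -, hv⟩ := hT.pure j hj
  obtain ⟨i, hi⟩ := Tau.pure_code e
  have hcode : code (D.cls (D.dd j)) = Tau.pcode i := by rw [← hv, code_act, code_p0, hi]
  refine ⟨i, hcode, ?_⟩
  have hr : Tau.rep i ∈ L := mem_L.2 (Tau.rep_mem i)
  obtain ⟨c, hc, hce, hj', hp⟩ := Tau.exists_std hS hj hr
    (code_injective (by rw [hcode, code_act, code_p0, Tau.rep_code]))
  have hm : D.pi (c⁻¹ * g * c) ∈ D.cross (c⁻¹ * j) := by
    refine ⟨c⁻¹ * g * c, ?_, (hc.inv_left.mul_left hgz).mul_left hc, rfl⟩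
    rw [D.mem_R, show (c⁻¹ * j)⁻¹ * (c⁻¹ * g * c) * (c⁻¹ * j) = j⁻¹ * g * j by group]
    exact D.mem_R.1 hg
  rw [hT.cross _ hj' hp, D.pi_mul _ _ (hc.inv_left.mul_left hgz) hc, D.pi_mul _ _ hc.inv_left hgz, D.pi_inv hc,
    hce] at hm
  set a := (Tau.rep i)⁻¹ * D.pi g * Tau.rep i with ha
  have hga : D.pi g = Tau.rep i * a * (Tau.rep i)⁻¹ := by rw [ha]; group
  have ha1 : a ≠ 1 := fun h => hne (by rw [hga, h, mul_one, mul_inv_cancel])
  have hd : aTau = 1 :: aTau.tail := rfl
  have hmt : a ∈ aTau.tail := by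
    rw [hd, List.mem_cons] at hm
    exact hm.resolve_left ha1
  rw [← Tau.row_eq i, ← List.map_tail, hga]
  exact List.mem_map.2 ⟨a, hmt, rfl⟩

/-- The second kind of cross image does not occur. -/
theorem tau_absurd [Finite G] (hS : IsStd D) (hT : CrossType D aTau) (hex : ∃ k, D.Fused k) : False := by
  classical
  obtain ⟨k₁, hk₁⟩ := hex
  obtain ⟨e, he, hv⟩ := hT.pure k₁ hk₁
  obtain ⟨c, -, -, hk, hp⟩ := Tau.exists_std hS hk₁ he hv
  generalize c⁻¹ * k₁ = k at hk hp
  clear hv he hk₁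
  -- a vector of the first layer outside the intersection
  obtain ⟨b, hb, hbv⟩ := D.cls_surj (vec 2)
  have hcomm : Commute (D.dd k) b := by
    refine (D.cls_comm _ hk.mem b hb).2 ?_
    rw [hp, hbv]
    have h := D.space.add p0 (vec 2)
    rw [hS.form, hS.form, hS.form, code_add, code_p0, code_vec (by norm_num)] at h
    simpa [q8, bw] using h.symm
  set g := k⁻¹ * b * k with hg
  have hgz : Commute g D.z := by
    have h := hcomm.symm.map (MulAut.conj k⁻¹).toMonoidHom
    simpa [Data.dd, hg, inv_inv, mul_assoc] using h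
  have hne : D.pi g ≠ 1 := fun h => by
    have hbE : b ∈ D.E k := ⟨hb, D.mem_R.2 ((D.pi_ker g hgz).1 h)⟩
    have h2 := (hT.inter k hk hp (D.cls b)).1 ((D.mem_img_iff hk.z_mem_E hb).2 hbE)
    rw [hbv, code_vec (by norm_num)] at h2
    exact absurd h2 (by decide)
  -- the four second conjugates
  have main : ∀ n : ℕ, n = 0 ∨ n = 5 ∨ n = 8 ∨ n = 13 →
      ∃ (x : G) (i : Tau.Pt), x ∈ D.Q ∧ k⁻¹ * x * k ∈ D.Q ∧ code (D.cls x) = n ∧
        code (D.cls (k⁻¹ * x * k)) = Tau.pcode i ∧ Tau.kcode (D.pi g) ∈ (Tau.row i).tail := by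
    intro n hn
    rcases hn with rfl | hn
    · obtain ⟨i, h1, h2⟩ := Tau.cross_row hS hT hk.symm
        (D.mem_R.2 (by rw [hg, inv_inv]; simpa [mul_assoc] using hb)) hgz hne
      rw [Data.dd, inv_inv] at h1
      refine ⟨D.z, i, D.ctx.mem, D.mem_R.1 hk.z_mem_R, ?_, h1, h2⟩
      rw [D.cls_z, code_zero]
    · obtain ⟨w, hw, hwn⟩ : ∃ w : Fin 15, (w = 4 ∨ w = 7 ∨ w = 12) ∧ n = w.val + 1 := by
        rcases hn with rfl | rfl | rfl
        exacts [⟨4, by simp, rfl⟩, ⟨7, by simp, rfl⟩, ⟨12, by simp, rfl⟩]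
      have hr : Tau.rep (0, w) ∈ L := mem_L.2 (Tau.rep_mem _)
      obtain ⟨c, hc, hce⟩ := D.pi_surj _ (D.L_le hr)
      have hk' := Tau.fused_mul hc hk
      set x := D.dd (c * k) with hx
      have hxc : code (D.cls x) = n := by
        rw [hx, Tau.cls_mul_left hc hk, hce, hp, hS.mv_act _ (D.L_le hr), code_act, code_p0, Tau.rep_code, hwn]
        simp [Tau.pcode, ten]
      have hxR : k⁻¹ * x * k ∈ D.Q := by
        refine D.mem_R.1 (hk.mem_E hk'.mem ((hT.inter k hk hp _).2 ?_)).2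
        rw [hxc, hwn]
        exact (Tau.inter_two w hw).2
      have hbR : k⁻¹ * (c⁻¹ * b * c⁻¹⁻¹) * k ∈ D.Q := by
        have hcb := D.conj_memQ hc.inv_left hb
        refine D.mem_R.1 (hk.mem_E hcb ((hT.inter k hk hp _).2 ?_)).2
        rw [D.cls_conj _ hc.inv_left b hb, D.pi_inv hc, hce, hS.mv_act _ (inv_mem (D.L_le hr)), hbv, code_act,
          code_vec (by norm_num)]
        exact (Tau.inter_two w hw).1
      have hdd : D.dd (k⁻¹ * (c * k)) = k⁻¹ * x * k := by simp only [hx, Data.dd]; group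
      have hj : D.Fused (k⁻¹ * (c * k)) := by
        refine ⟨hdd ▸ hxR, fun h => ?_⟩
        rw [hdd] at h
        have h' : x = D.dd k := by
          rw [Data.dd]
          calc x = k * (k⁻¹ * x * k) * k⁻¹ := by group
            _ = k * D.z * k⁻¹ := by rw [h]
        rw [h', hp, code_p0] at hxc
        omega
      have hgR : g ∈ D.R (k⁻¹ * (c * k)) := by
        rw [D.mem_R, hg, show (k⁻¹ * (c * k))⁻¹ * (k⁻¹ * b * k) * (k⁻¹ * (c * k)) =
          k⁻¹ * (c⁻¹ * b * c⁻¹⁻¹) * k by group]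
        exact hbR
      obtain ⟨i, h1, h2⟩ := Tau.cross_row hS hT hj hgR hgz hne
      rw [hdd] at h1
      exact ⟨x, i, hk'.mem, hxR, hxc, h1, h2⟩
  let ns : Fin 4 → ℕ := ![0, 5, 8, 13]
  choose x i hx hxQ hxc hxi hxr using fun m : Fin 4 => main (ns m) (by fin_cases m <;> simp [ns])
  have hinj : Function.Injective i := fun m m' h => by
    have e : D.cls (k⁻¹ * x m * k) = D.cls (k⁻¹ * x m' * k) := code_injective (by rw [hxi, hxi, h])
    have key : ns m' = ns m ∨ ns m' = 1 ^^^ ns m := by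
      rcases D.cls_eq (hxQ m) (hxQ m') e with e' | e'
      · left
        rw [← hxc, ← hxc, show x m' = x m from mul_left_cancel (mul_right_cancel e')]
      · right
        have : x m' = D.dd k * x m := by
          calc x m' = k * (k⁻¹ * x m' * k) * k⁻¹ := by group
            _ = D.dd k * x m := by rw [e', Data.dd]; group
        rw [← hxc, ← hxc, this, D.cls_mul _ hk.mem _ (hx m), code_add, hp, code_p0]
    revert key
    fin_cases m <;> fin_cases m' <;> simp [ns]
  have hsub : List.ofFn i ⊆ Tau.pts.filter fun j => (Tau.row j).contains (Tau.kcode (D.pi g)) := by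
    intro j hj
    obtain ⟨m, rfl⟩ := List.mem_ofFn.1 hj
    exact List.mem_filter.2 ⟨Tau.mem_pts _, List.contains_iff_mem.2 (List.mem_of_mem_tail (hxr m))⟩
  have h4 := ((List.nodup_ofFn.2 hinj).subperm hsub).length_le
  have h3 := Tau.row_count (i 0) _ (hxr 0)
  rw [List.length_ofFn] at h4
  omega

end Cfsg.Lib.Extra.SymAltSix
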