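import Cfsg.Agent.Lib.Extra.SymAltSix.ClassifyChecks
import Cfsg.Agent.Lib.Extra.SymAltSix.Tau

/-!
# The classes of the conjugates of the central involution and their cross images
-/

set_option autoImplicit false
set_option linter.style.haveILetI false

namespace Cfsg.Lib.Extra.SymAltSix

open Equiv Cfsg.Lib.Linear.Orth
open Cfsg.Lib.Extra.Wide (bit bit_self vadd_self vadd_eq_zero)

variable {G : Type*} [Group G] {D : Data G (Fin 8)}

theorem IsStd.bilin (hS : IsStd D) (u v : V) : D.B u v = if b8 (code u) (code v) then 1 else 0 := by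
  have h := D.space.add u v
  rw [hS.form, hS.form, hS.form, code_add] at h
  unfold b8
  generalize q8 (code u ^^^ code v) = a at h ⊢
  generalize q8 (code u) = b at h ⊢
  generalize q8 (code v) = c at h ⊢
  revert h
  generalize D.B u v = x
  revert a b c x
  decide

/-- Two elements of the cross image force vectors into the intersection. -/
theorem gens_mem [Finite G] (hS : IsStd D) {k : G} (hk : D.Fused k) {n : ℕ} (hn : code (D.cls (D.dd k)) = n)
    {basis : List ℕ} (hb : (basis.all fun v => decide (v < 256) && !b8 n v) = true)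
    {a b : K} (ha : a ∈ D.cross k) (hb' : b ∈ D.cross k) :
    ∀ x ∈ spanL (crossGens n basis a b), vec x ∈ D.eb k := by
  have hone : ∀ {e : K}, e ∈ D.cross k → ∀ v ∈ basis, vec (app (mu e) v ^^^ v) ∈ D.eb k := by
    intro e he v hv
    have h := List.all_eq_true.1 hb v hv
    simp only [Bool.and_eq_true, decide_eq_true_eq, Bool.not_eq_true'] at h
    have hm := hk.cross_mem he (v := vec v) (by rw [hS.bilin, hn, code_vec h.1, h.2]; rfl)
    rwa [hS.mv_act _ (D.cross_le he), act, code_vec h.1, ← vec_xor] at hm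
  refine spanL_mem (D.eb k) _ [0] (fun x hx => ?_) fun x hx => ?_
  · rcases List.mem_cons.1 hx with rfl | hx
    · rw [← hn, vec_code]; exact hk.d_mem_eb
    · rcases List.mem_append.1 hx with hx | hx <;> obtain ⟨v, hv, rfl⟩ := List.mem_map.1 hx
      exacts [hone ha v hv, hone hb' v hv]
  · rw [List.mem_singleton.1 hx, vec_zero]; exact zero_mem _

/-- Sixteen known vectors fill the intersection. -/
theorem eb_eq [Finite G] {k : G} (hk : D.Fused k) {l : List ℕ} (hl : (l.all fun v => decide (v < 256)) = true)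
    (hnd : l.Nodup) (hlen : l.length = 16) (hsub : ∀ x ∈ l, vec x ∈ D.eb k) :
    Nat.card (D.eb k) = 16 ∧ ∀ v, v ∈ D.eb k → code v ∈ l := by
  classical
  have h16 := D.ti_card hk.ti
  have hlt : ∀ x ∈ l, x < 256 := fun x hx => of_decide_eq_true (List.all_eq_true.1 hl x hx)
  let s : Finset V := (l.map vec).toFinset
  have hs : s.card = 16 := by
    rw [List.toFinset_card_of_nodup, List.length_map, hlen]
    refine List.Nodup.map_on (fun x hx y hy e => ?_) hnd
    rw [← code_vec (hlt x hx), ← code_vec (hlt y hy), e]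
  have hsW : (s : Set V) ⊆ D.eb k := fun v hv => by
    obtain ⟨x, hx, rfl⟩ := List.mem_map.1 (List.mem_toFinset.1 hv)
    exact hsub x hx
  have heq : (s : Set V) = D.eb k := Set.eq_of_subset_of_ncard_le hsW (by
    rw [Set.ncard_coe_finset, hs, ← Nat.card_coe_set_eq]; exact h16) (Set.toFinite _)
  refine ⟨?_, fun v hv => ?_⟩
  · rw [← hs, ← Set.ncard_coe_finset, heq, ← Nat.card_coe_set_eq]; rfl
  · obtain ⟨x, hx, rfl⟩ := List.mem_map.1 (List.mem_toFinset.1 (heq.ge hv : v ∈ (s : Set V)))
    rwa [code_vec (hlt x hx)]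

/-- Members of the cross image are among the listed elements. -/
theorem cross_sub [Finite G] (hS : IsStd D) {k : G} (hk : D.Fused k) {n : ℕ} (hn : code (D.cls (D.dd k)) = n)
    {g : K} (hg : g ∈ L) (hgn : app (mu g) n = n) {l : List K}
    (hl : ∀ e : K, e * e = 1 → e * (g * e * g⁻¹) = g * e * g⁻¹ * e → app (mu e) n = n → e ∈ l)
    {e : K} (he : e ∈ D.cross k) : e ∈ l := by
  refine hl e (hk.cross_sq he) (hk.cross_comm he (hk.cross_conj he (D.L_le hg) ?_)) ?_
  · rw [hS.mv_act _ (D.L_le hg)]
    exact code_injective (by rw [code_act, hn, hgn])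
  · have h := congrArg code (hk.cross_fix he)
    rwa [hS.mv_act _ (D.cross_le he), code_act, hn] at h

/-- The second orbit carries no conjugate of `z`. -/
theorem no_second [Finite G] (hS : IsStd D) {k : G} (hk : D.Fused k) (hn : code (D.cls (D.dd k)) = 20) : False := by
  classical
  have hsub := fun e (he : e ∈ D.cross k) => cross_sub hS hk hn g20_mem g_fix.2 good20 he
  have h8 := hk.cross_ge
  obtain ⟨a, ha, ha1⟩ : ∃ a ∈ D.cross k, a ≠ 1 := by
    by_contra hno
    push Not at hno
    have : D.cross k = ⊥ := (Subgroup.eq_bot_iff_forall _).2 hno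
    rw [this, Subgroup.card_bot] at h8
    omega
  obtain ⟨b, hb, hb1, hba⟩ : ∃ b ∈ D.cross k, b ≠ 1 ∧ b ≠ a := by
    by_contra hno
    push Not at hno
    have hle : (D.cross k : Set K) ⊆ {1, a} := fun b hb => by
      by_cases h : b = 1
      · exact Or.inl h
      · exact Or.inr (hno b hb h)
    have h2 := Set.ncard_le_ncard hle
    rw [← Nat.card_coe_set_eq] at h2
    have h3 : Nat.card (D.cross k) ≤ 2 := h2.trans ((Set.ncard_insert_le _ _).trans (by rw [Set.ncard_singleton]))
    omega
  have hspan : ∀ x ∈ sp20, vec x ∈ D.eb k := fun x hx =>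
    gens_mem hS hk hn basis20_perp ha hb x (pair20 a (hsub a ha) b (hsub b hb) ha1 hb1 hba x hx)
  obtain ⟨hcard, hmem⟩ := eb_eq hk sp_facts.2.1 sp_facts.2.2.2.1 rfl hspan
  refine ha1 (hk.cross_faithful hcard ha fun v hv => ?_)
  rw [hS.mv_act _ (D.cross_le ha)]
  exact code_injective (by rw [code_act, fix20 a (hsub a ha) _ (hmem v hv)])

/-- The two possibilities at the first representative. -/
theorem at_first [Finite G] (hS : IsStd D) {k : G} (hk : D.Fused k) (hp : D.cls (D.dd k) = p0) :
    (∀ v, v ∈ D.eb k ↔ inE0 (code v) = true) ∧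
      ((∀ e, e ∈ D.cross k ↔ e ∈ aSig) ∨ (∀ e, e ∈ D.cross k ↔ e ∈ aTau)) := by
  classical
  have hn : code (D.cls (D.dd k)) = 1 := by rw [hp, code_p0]
  have hsub := fun e (he : e ∈ D.cross k) => cross_sub hS hk hn bK_mem g_fix.1 good1 he
  have h8 := hk.cross_ge
  let A : Finset K := Finset.univ.filter fun e => e ∈ D.cross k
  have hA : ∀ e, e ∈ A ↔ e ∈ D.cross k := fun e => by simp [A]
  have hAc : A.card = Nat.card (D.cross k) := by
    rw [Nat.card_eq_fintype_card]
    exact (Fintype.card_subtype _).symm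
  obtain ⟨a, ha, ha1, ha0⟩ : ∃ a ∈ D.cross k, a ≠ 1 ∧ a ≠ a01 := by
    by_contra hno
    push Not at hno
    have hle : A ⊆ {1, a01} := fun e he => by
      by_cases h : e = 1
      · simp [h]
      · simp [hno e ((hA e).1 he) h]
    have := (Finset.card_le_card hle).trans Finset.card_le_two
    omega
  obtain ⟨b, hb, hab⟩ : ∃ b ∈ D.cross k, small1 a b = false := by
    by_contra hno
    push Not at hno
    have hle : A ⊆ (gg1.filter fun b => small1 a b).toFinset := fun e he => by
      rw [List.mem_toFinset, List.mem_filter]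
      exact ⟨hsub e ((hA e).1 he), Bool.ne_false_iff.1 (hno e ((hA e).1 he))⟩
    have h1 := (Finset.card_le_card hle).trans (List.toFinset_card_le _)
    have h2 := small1_count a (hsub a ha) ha1 ha0
    omega
  have hspan : ∀ x ∈ sp1, vec x ∈ D.eb k := by
    simp only [small1, Bool.not_eq_false', List.all_eq_true, List.contains_iff_mem] at hab
    exact fun x hx => gens_mem hS hk hn basis1_perp ha hb x (hab x hx)
  obtain ⟨hcard, hmem⟩ := eb_eq hk sp_facts.1 sp_facts.2.2.1 rfl hspan
  have hin : ∀ v, v ∈ D.eb k ↔ inE0 (code v) = true := fun v => by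
    rw [sp_facts.2.2.2.2 ⟨code v, code_lt v⟩]
    exact ⟨hmem v, fun h => vec_code v ▸ hspan _ h⟩
  refine ⟨hin, ?_⟩
  have h01 : a01 ∉ D.cross k := fun h => absurd (hk.cross_faithful hcard h fun v hv => by
    rw [hS.mv_act _ (D.cross_le h)]
    exact code_injective (by rw [code_act, fix1 _ (hmem v hv)])) (by decide +kernel)
  have hA8 : A.card = 8 := by
    have h1 := hk.card_cross
    rw [hcard] at h1
    omega
  -- an element or its product with the fixed element lies in the cross image
  have hor : ∀ u ∈ gg1, u ∈ D.cross k ∨ a01 * u ∈ D.cross k := by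
    intro u hu
    let B' : Finset K := A.image (a01 * ·)
    have hd : Disjoint A B' := Finset.disjoint_left.2 fun e he he' => by
      obtain ⟨s, hs, rfl⟩ := Finset.mem_image.1 he'
      refine h01 ?_
      have := mul_mem ((hA _).1 he) (inv_mem ((hA s).1 hs))
      rwa [mul_inv_cancel_right] at this
    have hu' : u ∈ A ∪ B' := by
      have hle : A ∪ B' ⊆ gg1.toFinset := fun e he => by
        rw [List.mem_toFinset]
        rcases Finset.mem_union.1 he with he | he
        · exact hsub e ((hA e).1 he)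
        · obtain ⟨s, hs, rfl⟩ := Finset.mem_image.1 he
          exact gg1_a01 s (hsub s ((hA s).1 hs))
      rw [Finset.eq_of_subset_of_card_le hle]
      · exact List.mem_toFinset.2 hu
      · rw [Finset.card_union_of_disjoint hd, Finset.card_image_of_injective _ (mul_right_injective a01), hA8,
          List.toFinset_card_of_nodup gg1_nodup.1, gg1_nodup.2]
    rcases Finset.mem_union.1 hu' with h | h
    · exact Or.inl ((hA u).1 h)
    · obtain ⟨s, hs, rfl⟩ := Finset.mem_image.1 h
      right
      rw [← mul_assoc, show a01 * a01 = 1 by decide +kernel, one_mul]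
      exact (hA s).1 hs
  have pick : ∀ u ∈ gg1, ∃ x : Bool, (if x then a01 * u else u) ∈ D.cross k := fun u hu => by
    rcases hor u hu with h | h
    · exact ⟨false, h⟩
    · exact ⟨true, h⟩
  obtain ⟨x, hx⟩ := pick (1, swap 2 3 * swap 4 5) (by decide +kernel)
  obtain ⟨y, hy⟩ := pick (1, swap 2 4 * swap 3 5) (by decide +kernel)
  obtain ⟨w, hw⟩ := pick (swap 1 2, 1) (by decide +kernel)
  have hsubT : ∀ t ∈ choice x y w, t ∈ D.cross k := by
    intro t ht
    simp only [choice, List.mem_cons, List.not_mem_nil, or_false] at ht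
    rcases ht with rfl | rfl | rfl | rfl | rfl | rfl | rfl | rfl
    exacts [one_mem _, hx, hy, mul_mem hx hy, hw, mul_mem hx hw, mul_mem hy hw, mul_mem (mul_mem hx hy) hw]
  obtain ⟨hnd, hcases⟩ := choice_facts x y w
  have hfill : ∀ t, t ∈ D.cross k ↔ t ∈ choice x y w := by
    have hsubF : (choice x y w).toFinset ⊆ A := fun t ht => (hA t).2 (hsubT t (List.mem_toFinset.1 ht))
    have heq := Finset.eq_of_subset_of_card_le hsubF (by rw [List.toFinset_card_of_nodup hnd, hA8]; rfl)
    exact fun t => ⟨fun h => List.mem_toFinset.1 (heq.ge ((hA t).2 h)), hsubT t⟩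
  have hnorm : ∀ t ∈ choice x y w, bK * t * bK⁻¹ ∈ choice x y w := fun t ht =>
    (hfill _).1 (hk.cross_conj (hsubT t ht) (D.L_le bK_mem) (by
      rw [hp, hS.mv_act _ (D.L_le bK_mem)]
      exact code_injective (by rw [code_act, code_p0, g_fix.1])))
  have full : ∀ l : List K, l.Nodup → l.length = 8 → (∀ t, t ∈ choice x y w → t ∈ l) →
      ∀ t, t ∈ D.cross k ↔ t ∈ l := by
    intro l hl hlen hsl t
    have heq := Finset.eq_of_subset_of_card_le (s := (choice x y w).toFinset) (t := l.toFinset)
      (fun e he => List.mem_toFinset.2 (hsl e (List.mem_toFinset.1 he)))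
      (by rw [List.toFinset_card_of_nodup hnd, List.toFinset_card_of_nodup hl, hlen]; rfl)
    rw [hfill, ← List.mem_toFinset, heq, List.mem_toFinset]
  rcases hcases hnorm with h | h
  · exact Or.inl (full _ cross_length.1 cross_length.2.1 h)
  · exact Or.inr (full _ cross_length.2.2.1 cross_length.2.2.2 h)

/-- The cross image depends only on the conjugate. -/
theorem cross_congr {k k' : G} (h : D.dd k = D.dd k') : D.cross k = D.cross k' := by
  have hR : D.R k = D.R k' := SetLike.ext fun a =>
    ⟨fun ha => D.ctx.conj_mem_iff_of_commute h ha, fun ha => D.ctx.conj_mem_iff_of_commute h.symm ha⟩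
  ext e
  simp only [Data.mem_cross, hR]

theorem cross_translate {y k : G} (hy : y ∈ D.Q) : D.cross (y * k) = D.cross k := by
  ext e
  simp only [Data.mem_cross, D.mem_R]
  constructor
  · rintro ⟨r, hr, hrz, rfl⟩
    refine ⟨y⁻¹ * r * y, ?_, ((D.cz hy).inv_left.mul_left hrz).mul_left (D.cz hy), ?_⟩
    · rwa [show k⁻¹ * (y⁻¹ * r * y) * k = (y * k)⁻¹ * r * (y * k) by group]
    · rw [D.pi_mul _ _ ((D.cz hy).inv_left.mul_left hrz) (D.cz hy), D.pi_mul _ _ (D.cz hy).inv_left hrz,
        D.pi_Q (inv_mem hy), D.pi_Q hy, one_mul, mul_one]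
  · rintro ⟨r, hr, hrz, rfl⟩
    refine ⟨y * r * y⁻¹, ?_, ((D.cz hy).mul_left hrz).mul_left (D.cz hy).inv_left, ?_⟩
    · rwa [show (y * k)⁻¹ * (y * r * y⁻¹) * (y * k) = k⁻¹ * r * k by group]
    · rw [D.pi_conj (D.cz hy) hrz, D.pi_Q hy, one_mul, inv_one, mul_one]

/-- The cross image depends only on the class. -/
theorem cross_of_cls {k k' : G} (hk : D.Fused k) (hk' : D.Fused k') (h : D.cls (D.dd k) = D.cls (D.dd k')) :
    D.cross k = D.cross k' := by
  rcases D.cls_eq hk.mem hk'.mem h with e | e
  · exact cross_congr e.symm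
  · obtain ⟨y, hy, hyd⟩ := D.ctx.exists_move hk.mem hk.d_ne_one hk.ne
    rw [← cross_translate (k := k) hy]
    refine cross_congr ?_
    rw [e, ← hyd]
    simp only [Data.dd]
    group

/-- One of the two configurations occurs. -/
theorem classify [Finite G] (hS : IsStd D) (hex : ∃ k, D.Fused k) : CrossType D aSig ∨ CrossType D aTau := by
  have hpure : ∀ k, D.Fused k → IsPure (D.cls (D.dd k)) := by
    intro k hk
    have h0 : code (D.cls (D.dd k)) ≠ 0 := fun h => hk.cls_ne (code_injective (h.trans code_zero.symm))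
    have hq : q8 (code (D.cls (D.dd k))) = false := by
      have h := hk.singular
      rw [hS.form] at h
      exact (Bool.eq_false_or_eq_true _).resolve_left fun e => by simp [e] at h
    obtain ⟨e, he, h1 | h2⟩ := singular_orbit (code_lt _) h0 hq
    · exact ⟨e, he, code_injective (by rw [code_act, code_p0, h1])⟩
    · exfalso
      obtain ⟨c, hc, hce⟩ := D.pi_surj e (D.L_le he)
      refine no_second hS (Tau.fused_mul hc.inv_left hk) ?_
      rw [Tau.cls_mul_left hc.inv_left hk, D.pi_inv hc, hce, hS.mv_act _ (inv_mem (D.L_le he)), code_act, ← h2,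
        ← app_comp, ← mu_mul, inv_mul_cancel, mu_one]
      decide +kernel
  obtain ⟨k₁, hk₁⟩ := hex
  obtain ⟨e, he, hv⟩ := hpure k₁ hk₁
  obtain ⟨c, -, -, hk, hp⟩ := Tau.exists_std hS hk₁ he hv
  have hsame : ∀ k', D.Fused k' → D.cls (D.dd k') = p0 → D.cross k' = D.cross (c⁻¹ * k₁) :=
    fun k' hk' hp' => cross_of_cls hk' hk (hp'.trans hp.symm)
  have hinter : ∀ k', D.Fused k' → D.cls (D.dd k') = p0 → ∀ v, v ∈ D.eb k' ↔ inE0 (code v) = true :=
    fun k' hk' hp' => (at_first hS hk' hp').1
  rcases (at_first hS hk hp).2 with h | h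
  · exact Or.inl ⟨hpure, hinter, fun k' hk' hp' e => by rw [hsame k' hk' hp']; exact h e⟩
  · exact Or.inr ⟨hpure, hinter, fun k' hk' hp' e => by rw [hsame k' hk' hp']; exact h e⟩

end Cfsg.Lib.Extra.SymAltSix
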