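import Cfsg.Agent.Lib.Extra.SymAltSix.Std

/-!
# Finite facts about the two orbits of singular vectors
-/

set_option autoImplicit false
set_option maxRecDepth 20000

namespace Cfsg.Lib.Extra.SymAltSix

open Equiv

/-- The last generator used for the orbits. -/
def uK : K := (1, swap 0 3 * swap 1 2)

/-- The matrices of generators of the pairs of even permutations. -/
def orbGens : List (List ℕ) := [mu xK, mu aK, mu bK, mu gK, mu uK]

/-- Adding an element if it is new. -/
def addNew (l : List ℕ) (x : ℕ) : List ℕ := if l.contains x then l else x :: l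

/-- The points reached in a given number of rounds. -/
def orb : ℕ → List ℕ → List ℕ
  | 0, l => l
  | k + 1, l => orb k ((l.flatMap fun x => orbGens.map fun m => app m x).foldl addNew l)

theorem addNew_mem {l : List ℕ} {x y : ℕ} (h : y ∈ addNew l x) : y ∈ l ∨ y = x := by
  unfold addNew at h
  split at h
  · exact Or.inl h
  · exact (List.mem_cons.1 h).symm

theorem foldl_addNew_mem : ∀ {xs l : List ℕ} {y : ℕ}, y ∈ xs.foldl addNew l → y ∈ l ∨ y ∈ xs
  | [], _, _, h => Or.inl h
  | x :: xs, l, y, h => by
    rcases foldl_addNew_mem (xs := xs) h with h | h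
    · rcases addNew_mem h with h | h
      · exact Or.inl h
      · exact Or.inr (by rw [h]; exact List.mem_cons_self)
    · exact Or.inr (List.mem_cons_of_mem _ h)

theorem orbGens_mem {m : List ℕ} (h : m ∈ orbGens) : ∃ e ∈ L, mu e = m := by
  simp only [orbGens, List.mem_cons, List.not_mem_nil, or_false] at h
  rcases h with rfl | rfl | rfl | rfl | rfl
  exacts [⟨_, xK_mem, rfl⟩, ⟨_, aK_mem, rfl⟩, ⟨_, bK_mem, rfl⟩, ⟨_, gK_mem, rfl⟩,
    ⟨uK, mem_L.2 (by decide), rfl⟩]

theorem orb_mem : ∀ (k : ℕ) (l : List ℕ) (r : ℕ), (∀ x ∈ l, ∃ e ∈ L, app (mu e) r = x) →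
    ∀ x ∈ orb k l, ∃ e ∈ L, app (mu e) r = x
  | 0, _, _, h => h
  | k + 1, l, r, h => by
    refine orb_mem k _ r fun x hx => ?_
    rcases foldl_addNew_mem hx with hx | hx
    · exact h x hx
    · obtain ⟨y, hy, hx⟩ := List.mem_flatMap.1 hx
      obtain ⟨m, hm, rfl⟩ := List.mem_map.1 hx
      obtain ⟨g, hg, rfl⟩ := orbGens_mem hm
      obtain ⟨e, he, rfl⟩ := h y hy
      exact ⟨g * e, mul_mem hg he, by rw [mu_mul, app_comp]⟩

theorem orbit_cover :
    (let l1 := orb 8 [1]; let l2 := orb 8 [20]
      (List.range 256).all fun n => n == 0 || q8 n || l1.contains n || l2.contains n) = true := by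
  decide +kernel

/-- A singular vector is moved to one of two representatives. -/
theorem singular_orbit {n : ℕ} (hn : n < 256) (h0 : n ≠ 0) (hq : q8 n = false) :
    ∃ e ∈ L, app (mu e) 1 = n ∨ app (mu e) 20 = n := by
  have h := List.all_eq_true.1 orbit_cover n (List.mem_range.2 hn)
  simp only [Bool.or_eq_true, beq_iff_eq, List.contains_iff_mem, hq, Bool.false_eq_true, or_false] at h
  rcases h with (h | h) | h
  · exact absurd h h0
  · obtain ⟨e, he, e1⟩ := orb_mem 8 [1] 1 (by
      intro x hx
      rw [List.mem_singleton] at hx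
      exact ⟨1, one_mem _, by rw [hx, mu_one]; decide⟩) n h
    exact ⟨e, he, Or.inl e1⟩
  · obtain ⟨e, he, e1⟩ := orb_mem 8 [20] 20 (by
      intro x hx
      rw [List.mem_singleton] at hx
      exact ⟨1, one_mem _, by rw [hx, mu_one]; decide⟩) n h
    exact ⟨e, he, Or.inr e1⟩

/-- Sums of subsets. -/
def spanL (gens : List ℕ) : List ℕ :=
  gens.foldl (fun S v => if S.contains v then S else S ++ S.map fun x => x ^^^ v) [0]

theorem spanL_mem (W : Submodule (ZMod 2) V) :
    ∀ (gens S : List ℕ), (∀ x ∈ gens, vec x ∈ W) → (∀ x ∈ S, vec x ∈ W) →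
      ∀ x ∈ gens.foldl (fun S v => if S.contains v then S else S ++ S.map fun x => x ^^^ v) S, vec x ∈ W
  | [], _, _, hS => hS
  | v :: gens, S, hg, hS => by
    refine spanL_mem W gens _ (fun x hx => hg x (List.mem_cons_of_mem _ hx)) fun x hx => ?_
    simp only at hx
    split at hx
    · exact hS x hx
    · rcases List.mem_append.1 hx with hx | hx
      · exact hS x hx
      · obtain ⟨y, hy, rfl⟩ := List.mem_map.1 hx
        rw [vec_xor]
        exact add_mem (hS y hy) (hg v List.mem_cons_self)

/-- Generators of a subspace forced into the intersection by two elements of the cross image. -/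
def crossGens (n : ℕ) (basis : List ℕ) (a b : K) : List ℕ :=
  n :: (basis.map (fun v => app (mu a) v ^^^ v) ++ basis.map fun v => app (mu b) v ^^^ v)

/-- A basis of the perpendicular space of the first representative. -/
def basis1 : List ℕ := [1, 2, 4, 8, 16, 64, 128]

/-- A basis of the perpendicular space of the second representative. -/
def basis20 : List ℕ := [1, 4, 8, 16, 34, 64, 130]

theorem basis1_perp : basis1.all (fun v => decide (v < 256) && !b8 1 v) = true := by decide +kernel

theorem basis20_perp : basis20.all (fun v => decide (v < 256) && !b8 20 v) = true := by decide +kernel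

/-- The sixteen vectors at the first representative. -/
def sp1 : List ℕ := [0, 1, 4, 5, 8, 9, 12, 13, 16, 17, 20, 21, 24, 25, 28, 29]

/-- The sixteen vectors at the second representative. -/
def sp20 : List ℕ := [0, 1, 4, 5, 16, 17, 20, 21, 64, 65, 68, 69, 80, 81, 84, 85]

theorem sp_facts :
    (sp1.all fun v => decide (v < 256)) = true ∧ (sp20.all fun v => decide (v < 256)) = true ∧ sp1.Nodup ∧
      sp20.Nodup ∧ (∀ n : Fin 256, inE0 n.val = true ↔ n.val ∈ sp1) := by decide +kernel

/-- The fifteen possible elements of the cross image at the first representative, and the identity. -/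
def gg1 : List K :=
  four.map (fun p => (1, p)) ++ four.map (fun p => (1, swap 0 1 * p)) ++ four.map (fun p => (swap 1 2, p)) ++
    four.map (fun p => (swap 1 2, swap 0 1 * p))

/-- The element fixing the intersection pointwise. -/
def a01 : K := (1, swap 0 1)

/-- The seven possible elements at the second representative, and the identity. -/
def gg20 : List K :=
  [((1, 1) : K), (1, swap 0 1), (1, swap 2 3), (1, swap 4 5), (1, swap 0 1 * swap 2 3), (1, swap 0 1 * swap 4 5),
    (1, swap 2 3 * swap 4 5), (1, swap 0 1 * swap 2 3 * swap 4 5)]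

/-- The element normalizing the cross image at the second representative. -/
def g20 : K := (swap 0 1 * swap 1 2, swap 0 2 * swap 2 4 * (swap 1 3 * swap 3 5))

theorem g20_mem : g20 ∈ L := mem_L.2 (by decide)

theorem g_fix : app (mu bK) 1 = 1 ∧ app (mu g20) 20 = 20 := by decide +kernel

theorem good1 : ∀ e : K, e * e = 1 → e * (bK * e * bK⁻¹) = bK * e * bK⁻¹ * e → app (mu e) 1 = 1 → e ∈ gg1 := by
  decide +kernel

theorem good20 : ∀ e : K, e * e = 1 → e * (g20 * e * g20⁻¹) = g20 * e * g20⁻¹ * e → app (mu e) 20 = 20 →
    e ∈ gg20 := by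
  decide +kernel

theorem pair20 : ∀ a ∈ gg20, ∀ b ∈ gg20, a ≠ 1 → b ≠ 1 → b ≠ a →
    ∀ v ∈ sp20, v ∈ spanL (crossGens 20 basis20 a b) := by decide +kernel

theorem fix20 : ∀ a ∈ gg20, ∀ v ∈ sp20, app (mu a) v = v := by decide +kernel

theorem fix1 : ∀ v ∈ sp1, app (mu a01) v = v := by decide +kernel

/-- Pairs of possible elements not enough to fill the intersection. -/
def small1 (a b : K) : Bool := !(sp1.all fun v => (spanL (crossGens 1 basis1 a b)).contains v)

theorem small1_count : ∀ a ∈ gg1, a ≠ 1 → a ≠ a01 → (gg1.filter fun b => small1 a b).length ≤ 7 := by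
  decide +kernel

theorem gg1_a01 : ∀ u ∈ gg1, a01 * u ∈ gg1 := by decide +kernel

theorem gg1_nodup : gg1.Nodup ∧ gg1.length = 16 := by decide +kernel

/-- A subgroup of index two avoiding the fixed element, from its choices at three generators. -/
def choice (x y w : Bool) : List K :=
  let a : K := if x then a01 * (1, swap 2 3 * swap 4 5) else (1, swap 2 3 * swap 4 5)
  let b : K := if y then a01 * (1, swap 2 4 * swap 3 5) else (1, swap 2 4 * swap 3 5)
  let c : K := if w then a01 * (swap 1 2, 1) else (swap 1 2, 1)
  [1, a, b, a * b, c, a * c, b * c, a * b * c]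

theorem choice_facts : ∀ x y w : Bool, (choice x y w).Nodup ∧
    ((∀ t ∈ choice x y w, bK * t * bK⁻¹ ∈ choice x y w) →
      (∀ t, t ∈ choice x y w → t ∈ aSig) ∨ (∀ t, t ∈ choice x y w → t ∈ aTau)) := by
  intro x y w
  refine ⟨by revert x y w; decide +kernel, fun h => ?_⟩
  have key : ∀ x y w : Bool, ((choice x y w).all fun t => (choice x y w).contains (bK * t * bK⁻¹)) = true →
      ((choice x y w).all fun t => aSig.contains t) = true ∨ ((choice x y w).all fun t => aTau.contains t) = true := by
    decide +kernel
  have h' : ((choice x y w).all fun t => (choice x y w).contains (bK * t * bK⁻¹)) = true := by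
    simpa [List.all_eq_true, List.contains_iff_mem] using h
  rcases key x y w h' with h1 | h1
  · exact Or.inl (by simpa [List.all_eq_true, List.contains_iff_mem] using h1)
  · exact Or.inr (by simpa [List.all_eq_true, List.contains_iff_mem] using h1)

theorem cross_length : aSig.Nodup ∧ aSig.length = 8 ∧ aTau.Nodup ∧ aTau.length = 8 := by decide +kernel

theorem sigma_tau_differ : ¬ ∀ t ∈ aTau, t ∈ aSig := by decide +kernel

end Cfsg.Lib.Extra.SymAltSix
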