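import Cfsg.Agent.Lib.Extra.SymAltSix.Split
import Mathlib.GroupTheory.SpecificGroups.Alternating.Simple

/-!
# A nontrivial action of `A₆` commuting with a fixed-point-free element of order three fills eight dimensions
-/

set_option autoImplicit false
set_option linter.style.haveILetI false

namespace Cfsg.Lib.Extra.SymAltSix

open Equiv Cfsg.Lib.Linear.Orth
open Cfsg.Lib.Extra.Wide (bit vadd_self vadd_eq_zero)

/-- The powers of the two exponents at the images under the normalizing element. -/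
def chr (i j : Fin 3) : Fin 4 → Fin 3 × Fin 3 := ![(i, j), (-j, i), (-i, -j), (j, -i)]

theorem chr_injective : ∀ i j : Fin 3, i ≠ 0 → Function.Injective (chr i j) := by decide +kernel

theorem pow_facts : ∀ i j : Fin 3,
    xK ^ i.val * (xK ^ j.val) = xK ^ (i + j).val ∧
    (xK ^ i.val * aK) * (xK ^ i.val * aK) * (xK ^ i.val * aK) = 1 ∧
    (xK ^ i.val * bK) * (xK ^ i.val * bK) * (xK ^ i.val * bK) = 1 := by decide +kernel

theorem x_pow_comm (p : Perm (Fin 6)) (n : ℕ) : (xK ^ n) * (1, p) = (1, p) * xK ^ n :=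
  ((show Commute xK ((1, p) : K) from x_comm_one p).pow_left n).eq

variable {G : Type*} [Group G] {ι : Type} [Fintype ι] [DecidableEq ι] (D : Data G ι)

namespace Data

theorem xpow_mem (n : ℕ) : xK ^ n ∈ D.H := pow_mem D.xH n

theorem aH : aK ∈ D.H := D.L_le aK_mem

theorem bH : bK ∈ D.H := D.L_le bK_mem

theorem gH : gK ∈ D.H := D.L_le gK_mem

/-- A vector without central fixed part on which the two three-cycles act as powers of the central element. -/
def Eig (v : ι → ZMod 2) (c : Fin 3 × Fin 3) : Prop :=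
  v ∈ D.movX ∧ D.mv aK v = D.mv (xK ^ c.1.val) v ∧ D.mv bK v = D.mv (xK ^ c.2.val) v

theorem xpow_comm {e : K} (he : e ∈ D.H) (hc : xK * e = e * xK) (n : ℕ) (v : ι → ZMod 2) :
    D.mv (xK ^ n) (D.mv e v) = D.mv e (D.mv (xK ^ n) v) := by
  rw [← D.mv_mul (D.xpow_mem n) he, ← D.mv_mul he (D.xpow_mem n)]
  exact congrArg (fun f => D.mv f v) ((show Commute xK e from hc).pow_left n).eq

theorem pr_of_pow {v : ι → ZMod 2} (hv : v ∈ D.movX) {f : K} (hf : f ∈ D.H) (hc : xK * f = f * xK)
    (m : Fin 3) (h : D.mv f v = D.mv (xK ^ m.val) v) : D.pr f v = if m = 0 then v else 0 := by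
  have : m = 0 ∨ m = 1 ∨ m = 2 := (show ∀ m : Fin 3, m = 0 ∨ m = 1 ∨ m = 2 by decide) m
  rcases this with rfl | rfl | rfl
  · rw [if_pos rfl]
    refine D.pr_of_fixed hf ?_
    rw [h]; simp [D.mv_one]
  · rw [if_neg (by decide)]
    refine D.pr_of_moved hf hc hv (Or.inl ?_)
    rw [h]; simp [X]
  · rw [if_neg (by decide)]
    refine D.pr_of_moved hf hc hv (Or.inr ?_)
    rw [h, X, X, ← D.mv_mul D.xH D.xH]
    simp [pow_two]

theorem xe_comm {e : K} (hc : xK * e = e * xK) (n : ℕ) : xK * (xK ^ n * e) = xK ^ n * e * xK :=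
  ((Commute.self_pow xK n).mul_right hc).eq

theorem pr_shift {v : ι → ZMod 2} (hv : v ∈ D.movX) {e : K} (he : e ∈ D.H) (hc : xK * e = e * xK)
    (n m : Fin 3) (h : D.mv e v = D.mv (xK ^ m.val) v) :
    D.pr (xK ^ n.val * e) v = if n + m = 0 then v else 0 := by
  refine D.pr_of_pow hv (mul_mem (D.xpow_mem _) he) (xe_comm hc _) _ ?_
  rw [D.mv_mul (D.xpow_mem _) he, h, ← D.mv_mul (D.xpow_mem _) (D.xpow_mem _), (pow_facts n m).1]

theorem sum_pr {v : ι → ZMod 2} (hv : v ∈ D.movX) {e : K} (he : e ∈ D.H) (hc : xK * e = e * xK) :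
    D.pr e v + D.pr (xK * e) v + D.pr (xK * xK * e) v = v := by
  have hxx := mul_mem D.xH D.xH
  have hev := D.mov_invariant he hc hv
  have heev := D.mov_invariant he hc hev
  rw [mem_movX] at hv hev heev
  have e1 : D.mv (xK * e * (xK * e)) v = D.X (D.X (D.mv e (D.mv e v))) := by
    rw [D.mv_mul (mul_mem D.xH he) (mul_mem D.xH he), D.mv_mul D.xH he, D.mv_mul D.xH he]
    exact congrArg D.X (D.X_comm he hc _).symm
  have e2 : D.mv (xK * xK * e * (xK * xK * e)) v = D.X (D.mv e (D.mv e v)) := by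
    have : xK * xK * e * (xK * xK * e) = xK * (e * e) := by
      have h4 : ∀ w : K, xK * (xK * (xK * w)) = w := fun w => by
        rw [← mul_assoc, ← mul_assoc, show xK * xK * xK = 1 by decide +kernel, one_mul]
      have hs : ∀ w : K, e * (xK * w) = xK * (e * w) := fun w => by rw [← mul_assoc, ← hc, mul_assoc]
      simp only [mul_assoc]
      rw [hs, hs, h4]
    rw [this, D.mv_mul D.xH (mul_mem he he), D.mv_mul he he]; rfl
  rw [pr, pr, pr, e1, e2, D.mv_mul he he, D.mv_mul D.xH he, D.mv_mul hxx he, D.mv_mul D.xH D.xH]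
  show v + D.mv e v + D.mv e (D.mv e v) + (v + D.X (D.mv e v) + D.X (D.X (D.mv e (D.mv e v)))) +
    (v + D.X (D.X (D.mv e v)) + D.X (D.mv e (D.mv e v))) = v
  calc _ = v + (v + v) + (D.X (D.X (D.mv e v)) + D.X (D.mv e v) + D.mv e v) +
        (D.X (D.X (D.mv e (D.mv e v))) + D.X (D.mv e (D.mv e v)) + D.mv e (D.mv e v)) := by abel
    _ = v := by rw [vadd_self, hev, heev, add_zero, add_zero, add_zero]

theorem pr_mem_mov {v : ι → ZMod 2} (hv : v ∈ D.movX) {f : K} (hf : f ∈ D.H) (hc : xK * f = f * xK) :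
    D.pr f v ∈ D.movX :=
  add_mem (add_mem hv (D.mov_invariant hf hc hv))
    (D.mov_invariant (mul_mem hf hf) (((show Commute xK f from hc).mul_right hc).eq) hv)

/-- An eigenvalue of an element of order three, other than one if the element moves the vector. -/
theorem exists_shift {v : ι → ZMod 2} (hv : v ∈ D.movX) {e : K} (he : e ∈ D.H) (hc : xK * e = e * xK)
    (h3 : ∀ i : Fin 3, xK ^ i.val * e * (xK ^ i.val * e) * (xK ^ i.val * e) = 1) (hv0 : v ≠ 0) :
    ∃ i : Fin 3, D.pr (xK ^ (-i).val * e) v ≠ 0 ∧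
      D.mv e (D.pr (xK ^ (-i).val * e) v) = D.mv (xK ^ i.val) (D.pr (xK ^ (-i).val * e) v) ∧
      (D.mv e v ≠ v → i ≠ 0) := by
  have key : ∀ i : Fin 3, D.mv e (D.pr (xK ^ (-i).val * e) v) = D.mv (xK ^ i.val) (D.pr (xK ^ (-i).val * e) v) := by
    intro i
    have h := congrArg (D.mv (xK ^ i.val))
      (D.pr_fixed (mul_mem (D.xpow_mem _) he) (h3 (-i)) v)
    rw [← D.mv_mul (D.xpow_mem _) (mul_mem (D.xpow_mem _) he), ← mul_assoc, (pow_facts i (-i)).1,
      add_neg_cancel, Fin.val_zero, pow_zero, one_mul] at h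
    exact h
  have h1 : D.pr (xK * e) v = D.pr (xK ^ (-(2 : Fin 3)).val * e) v := by
    rw [show (-(2 : Fin 3)).val = 1 from rfl, pow_one]
  have h2 : D.pr (xK * xK * e) v = D.pr (xK ^ (-(1 : Fin 3)).val * e) v := by
    rw [show (-(1 : Fin 3)).val = 2 from rfl, pow_two]
  by_cases hmv : D.mv e v = v
  · refine ⟨0, ?_, key 0, fun h => absurd hmv h⟩
    rwa [neg_zero, Fin.val_zero, pow_zero, one_mul, D.pr_of_fixed he hmv]
  · by_cases hn1 : D.pr (xK ^ (-(1 : Fin 3)).val * e) v = 0
    · by_cases hn2 : D.pr (xK ^ (-(2 : Fin 3)).val * e) v = 0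
      · refine absurd ?_ hmv
        have hs := D.sum_pr hv he hc
        rw [h1, h2, hn1, hn2, add_zero, add_zero] at hs
        have hf := D.pr_fixed he (by simpa using h3 0) v
        rwa [hs] at hf
      · exact ⟨2, hn2, key 2, fun _ => by decide⟩
    · exact ⟨1, hn1, key 1, fun _ => by decide⟩

/-- The part without central fixed points is trivial for `A₆` or carries an eigenvector. -/
theorem exists_eig (hmov : ∃ p : Perm (Fin 6), Perm.sign p = 1 ∧ ∃ v ∈ D.movX, D.mv (1, p) v ≠ v) :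
    ∃ (w : ι → ZMod 2) (i j : Fin 3), i ≠ 0 ∧ w ≠ 0 ∧ D.Eig w (i, j) := by
  classical
  -- the first three-cycle moves some vector
  let N : Subgroup (alternatingGroup (Fin 6)) :=
    { carrier := {q | ∀ v ∈ D.movX, D.mv (1, q.1) v = v}
      one_mem' := fun v _ => D.mv_one v
      mul_mem' := fun {p q} hp hq v hv => by
        show D.mv ((1, p.1) * (1, q.1)) v = v
        rw [D.mv_mul (D.L_le (one_mem_L p.2)) (D.L_le (one_mem_L q.2)), hq v hv, hp v hv]
      inv_mem' := fun {p} hp v hv => by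
        show D.mv (1, p.1)⁻¹ v = v
        conv_lhs => rw [← hp v hv]
        exact D.inv_mv (D.L_le (one_mem_L p.2)) v }
  haveI : N.Normal := ⟨fun q hq g v hv => by
    show D.mv ((1, g.1) * (1, q.1) * (1, g.1)⁻¹) v = v
    have hg := D.L_le (one_mem_L g.2)
    have hq' := D.L_le (one_mem_L q.2)
    rw [D.mv_mul (mul_mem hg hq') (inv_mem hg), D.mv_mul hg hq',
      hq _ (D.mov_invariant (inv_mem hg) ((show Commute xK ((1, g.1) : K) from x_comm_one _).inv_right.eq) hv),
      D.mv_inv hg]⟩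
  have hA : ∃ v ∈ D.movX, D.mv aK v ≠ v := by
    by_contra hno
    push Not at hno
    obtain ⟨p, hp, v, hv, hne⟩ := hmov
    haveI : IsSimpleGroup (alternatingGroup (Fin 6)) := alternatingGroup.isSimpleGroup (by simp)
    rcases (inferInstance : N.Normal).eq_bot_or_eq_top with h | h
    · have ha : (⟨swap 0 1 * swap 1 2, Perm.mem_alternatingGroup.2 (by decide)⟩ : alternatingGroup (Fin 6)) ∈ N := hno
      rw [h, Subgroup.mem_bot] at ha
      exact absurd (congrArg Subtype.val ha) (by decide)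
    · exact hne ((h ▸ Subgroup.mem_top (⟨p, hp⟩ : alternatingGroup (Fin 6)) : (⟨p, hp⟩ : alternatingGroup (Fin 6)) ∈ N) v hv)
  obtain ⟨v, hv, hne⟩ := hA
  obtain ⟨i, hw, hwe, hi⟩ := D.exists_shift hv D.aH (x_comm_one _) (fun i => (pow_facts i i).2.1)
    (fun h => hne (by rw [h, D.mv_zero D.aH]))
  set w := D.pr (xK ^ (-i).val * aK) v
  have hcn : ∀ n : ℕ, xK * (xK ^ n * aK) = xK ^ n * aK * xK := fun n => xe_comm (x_comm_one _) n
  have hwm : w ∈ D.movX := D.pr_mem_mov hv (mul_mem (D.xpow_mem _) D.aH) (hcn _)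
  obtain ⟨j, hu, hue, -⟩ := D.exists_shift hwm D.bH (x_comm_one _) (fun i => (pow_facts i i).2.2) hw
  set n := (-j).val
  have hfH : xK ^ n * bK ∈ D.H := mul_mem (D.xpow_mem _) D.bH
  refine ⟨D.pr (xK ^ n * bK) w, i, j, hi hne, hu,
    D.pr_mem_mov hwm hfH (xe_comm (x_comm_one _) _), ?_, hue⟩
  have hab : aK * (xK ^ n * bK) = xK ^ n * bK * aK := by
    rw [← mul_assoc, show aK * xK ^ n = xK ^ n * aK from (x_pow_comm _ n).symm, mul_assoc,
      show aK * bK = bK * aK by decide +kernel, mul_assoc]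
  rw [D.pr_commute D.aH hfH hab, hwe, D.pr_commute (D.xpow_mem _) hfH]
  exact (((Commute.refl xK).pow_pow _ _).mul_right ((show Commute xK bK from x_comm_one _).pow_left _)).eq

theorem eig_g {w : ι → ZMod 2} {c : Fin 3 × Fin 3} (h : D.Eig w c) : D.Eig (D.mv gK w) (-c.2, c.1) := by
  refine ⟨D.mov_invariant D.gH (x_comm_one _) h.1, ?_, ?_⟩
  · rw [← D.mv_mul D.aH D.gH, show aK * gK = gK * bK⁻¹ by decide +kernel, D.mv_mul D.gH (inv_mem D.bH),
      D.xpow_comm D.gH (x_comm_one _)]
    refine congrArg _ ?_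
    rw [← D.inv_mv D.bH (D.mv (xK ^ (-c.2).val) w), ← D.xpow_comm D.bH (x_comm_one _), h.2.2,
      ← D.mv_mul (D.xpow_mem _) (D.xpow_mem _), (pow_facts _ _).1, neg_add_cancel, Fin.val_zero, pow_zero,
      D.mv_one]
  · rw [← D.mv_mul D.bH D.gH, show bK * gK = gK * aK by decide +kernel, D.mv_mul D.gH D.aH, h.2.1,
      D.xpow_comm D.gH (x_comm_one _)]

/-- The images of an eigenvector. -/
def frame (w : ι → ZMod 2) : Fin 4 → ι → ZMod 2 :=
  ![w, D.mv gK w, D.mv gK (D.mv gK w), D.mv gK (D.mv gK (D.mv gK w))]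

theorem eig_frame {w : ι → ZMod 2} {i j : Fin 3} (h : D.Eig w (i, j)) (m : Fin 4) :
    D.Eig (D.frame w m) (chr i j m) := by
  have h1 := D.eig_g h
  have h2 := D.eig_g h1
  have h3 := D.eig_g h2
  fin_cases m
  · exact h
  · exact h1
  · exact h2
  · simpa [frame, chr] using h3

/-- The combination with given coefficients. -/
def coord (w : ι → ZMod 2) (c : Fin 4 → ZMod 2 × ZMod 2) : ι → ZMod 2 :=
  ∑ m, ((c m).1 • D.frame w m + (c m).2 • D.X (D.frame w m))

theorem coord_term_zero {v : ι → ZMod 2} (hv : v ∈ D.movX) (hv0 : v ≠ 0) {a b : ZMod 2}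
    (h : a • v + b • D.X v = 0) : a = 0 ∧ b = 0 := by
  rcases bit a with rfl | rfl <;> rcases bit b with rfl | rfl <;> simp at h
  · exact ⟨rfl, rfl⟩
  · refine absurd ?_ hv0
    rw [← D.X_three v, h, D.X_zero, D.X_zero]
  · exact absurd h hv0
  · exact absurd (D.X_free hv (vadd_eq_zero h).symm) hv0

theorem coord_bijective {w : ι → ZMod 2} {i j : Fin 3} (hw : w ≠ 0) (hi : i ≠ 0) (h : D.Eig w (i, j)) :
    Function.Bijective (D.coord w) := by
  classical
  have hne : ∀ m, D.frame w m ≠ 0 := by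
    have hg : ∀ {v : ι → ZMod 2}, v ≠ 0 → D.mv gK v ≠ 0 := fun {v} hv e =>
      hv (D.mv_injective D.gH (e.trans (D.mv_zero D.gH).symm))
    intro m
    fin_cases m
    exacts [hw, hg hw, hg (hg hw), hg (hg (hg hw))]
  have hadd : ∀ c c', D.coord w (c + c') = D.coord w c + D.coord w c' := fun c c' => by
    simp only [coord, Pi.add_apply, Prod.fst_add, Prod.snd_add, add_smul, ← Finset.sum_add_distrib]
    refine Finset.sum_congr rfl fun m _ => ?_
    abel
  have hker : ∀ c, D.coord w c = 0 → c = 0 := by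
    intro c hc
    funext m
    set y : Fin 4 → ι → ZMod 2 := fun n => (c n).1 • D.frame w n + (c n).2 • D.X (D.frame w n) with hy
    have hye : ∀ n, D.Eig (y n) (chr i j n) := by
      intro n
      have he := D.eig_frame h n
      have hlin : ∀ {e : K} (he : e ∈ D.H) (hc : xK * e = e * xK) (f : ℕ),
          D.mv e (D.frame w n) = D.mv (xK ^ f) (D.frame w n) → D.mv e (y n) = D.mv (xK ^ f) (y n) := by
        intro e heH hec f hef
        simp only [hy, ← D.lin_apply heH, ← D.lin_apply (D.xpow_mem f), map_add, map_smul]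
        rw [lin_apply, lin_apply, lin_apply, lin_apply, ← D.X_comm heH hec, hef,
          D.X_comm (D.xpow_mem f) ((Commute.self_pow xK f).eq)]
      exact ⟨add_mem (Submodule.smul_mem _ _ he.1) (Submodule.smul_mem _ _ (D.X_mem_mov he.1)),
        hlin D.aH (x_comm_one _) _ he.2.1, hlin D.bH (x_comm_one _) _ he.2.2⟩
    have hA : ∀ n, D.pr (xK ^ (-(chr i j m).1).val * aK) (y n) =
        if (chr i j n).1 = (chr i j m).1 then y n else 0 := fun n => by
      rw [D.pr_shift (hye n).1 D.aH (x_comm_one _) _ _ (hye n).2.1]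
      exact if_congr (neg_add_eq_zero.trans eq_comm) rfl rfl
    have hB : ∀ n, D.pr (xK ^ (-(chr i j m).2).val * bK) (y n) =
        if (chr i j n).2 = (chr i j m).2 then y n else 0 := fun n => by
      rw [D.pr_shift (hye n).1 D.bH (x_comm_one _) _ _ (hye n).2.2]
      exact if_congr (neg_add_eq_zero.trans eq_comm) rfl rfl
    have fA := mul_mem (D.xpow_mem (-(chr i j m).1).val) D.aH
    have fB := mul_mem (D.xpow_mem (-(chr i j m).2).val) D.bH
    have h0 : D.pr (xK ^ (-(chr i j m).2).val * bK) (D.pr (xK ^ (-(chr i j m).1).val * aK) (∑ n, y n)) = 0 := by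
      rw [show (∑ n, y n) = 0 from hc, D.pr_zero fA, D.pr_zero fB]
    simp only [Fin.sum_univ_four, D.pr_add fA, D.pr_add fB, hA] at h0
    have hall : ∀ n, D.pr (xK ^ (-(chr i j m).2).val * bK) (if (chr i j n).1 = (chr i j m).1 then y n else 0) =
        if n = m then y n else 0 := fun n => by
      by_cases hn : n = m
      · subst hn; rw [if_pos rfl, if_pos rfl, hB, if_pos rfl]
      · rw [if_neg hn]
        by_cases h1 : (chr i j n).1 = (chr i j m).1
        · rw [if_pos h1, hB, if_neg fun h2 => hn (chr_injective i j hi (Prod.ext h1 h2))]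
        · rw [if_neg h1, D.pr_zero fB]
    simp only [hall] at h0
    have hym : y m = 0 := by
      fin_cases m <;> simpa using h0
    exact Prod.ext_iff.2 (D.coord_term_zero (D.eig_frame h m).1 (hne m) hym)
  have hinj : Function.Injective (D.coord w) := fun c c' e => by
    have hs : ∀ a : Fin 4 → ZMod 2 × ZMod 2, a + a = 0 := fun a => funext fun n =>
      Prod.ext (Wide.bit_self _) (Wide.bit_self _)
    have := hker (c + c') (by rw [hadd, e, vadd_self])
    calc c = c + (c' + c') := by rw [hs, add_zero]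
      _ = c' := by rw [← add_assoc, this, zero_add]
  refine (Fintype.bijective_iff_injective_and_card _).2 ⟨hinj, ?_⟩
  rw [Fintype.card_fun, Fintype.card_fun, Fintype.card_prod, ZMod.card, Fintype.card_fin, D.card]
  norm_num

theorem frame_mem_mov {w : ι → ZMod 2} {i j : Fin 3} (h : D.Eig w (i, j)) (c : Fin 4 → ZMod 2 × ZMod 2) :
    D.coord w c ∈ D.movX :=
  Submodule.sum_mem _ fun m _ => add_mem (Submodule.smul_mem _ _ (D.eig_frame h m).1)
    (Submodule.smul_mem _ _ (D.X_mem_mov (D.eig_frame h m).1))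

/-- A nontrivial action on the part without central fixed points leaves no central fixed point. -/
theorem fixX_eq_bot (hmov : ∃ p : Perm (Fin 6), Perm.sign p = 1 ∧ ∃ v ∈ D.movX, D.mv (1, p) v ≠ v) :
    D.fixX = ⊥ := by
  obtain ⟨w, i, j, hi, hw, h⟩ := D.exists_eig hmov
  refine (Submodule.eq_bot_iff _).2 fun v hv => ?_
  obtain ⟨c, rfl⟩ := (D.coord_bijective hw hi h).2 v
  exact D.fix_mov_eq_zero hv (D.frame_mem_mov h c)

end Data

end Cfsg.Lib.Extra.SymAltSix
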