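import Cfsg.Agent.Lib.Extra.SymAltSix.Basic

/-!
# A second conjugate of the central involution inside the extraspecial subgroup
-/

set_option autoImplicit false
set_option linter.style.haveILetI false

namespace Cfsg.Lib.Extra.SymAltSix

open Cfsg.Lib.Extra Cfsg.Lib.Linear.Orth
open Cfsg.Lib.Extra.Wide (bit vadd_self vadd_eq_zero mem_map_conj commute_unconj)

variable {G : Type*} [Group G] {ι : Type} [Fintype ι] [DecidableEq ι] (D : Data G ι)

namespace Data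

/-- The conjugate of `z` by `k`. -/
def dd (k : G) : G := k * D.z * k⁻¹

/-- The extraspecial subgroup at the conjugate. -/
def R (k : G) : Subgroup G := D.Q.map (MulAut.conj k).toMonoidHom

/-- The intersection of the two extraspecial subgroups. -/
def E (k : G) : Subgroup G := D.Q ⊓ D.R k

/-- The classes of the intersection. -/
def eb (k : G) : Submodule (ZMod 2) (ι → ZMod 2) := D.img (D.E k)

/-- A conjugate of `z` inside `Q`, other than `z`. -/
structure Fused (k : G) : Prop where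
  mem : D.dd k ∈ D.Q
  ne : D.dd k ≠ D.z

theorem ctxR (k : G) : Ctx (D.R k) (D.dd k) := D.ctx.conj k

theorem mem_R {k a : G} : a ∈ D.R k ↔ k⁻¹ * a * k ∈ D.Q := mem_map_conj

variable {D}
variable [Finite G] {k : G} (hk : D.Fused k)

include hk

theorem Fused.z_mem_R : D.z ∈ D.R k := D.ctx.mem_symm hk.mem

theorem Fused.z_mem_E : D.z ∈ D.E k := ⟨D.ctx.mem, hk.z_mem_R⟩

omit [Finite G] in
theorem Fused.d_mem_E : D.dd k ∈ D.E k := ⟨hk.mem, (D.ctxR k).mem⟩

omit [Finite G] in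
theorem Fused.comm_dz : Commute (D.dd k) D.z := D.cz hk.mem

omit [Finite G] in
theorem Fused.d_ne_one : D.dd k ≠ 1 :=
  have := hk
  (D.ctxR k).ne_one

omit [Finite G] in
theorem Fused.cls_ne : D.cls (D.dd k) ≠ 0 := fun h =>
  ((D.cls_ker _ hk.mem).1 h).elim hk.d_ne_one hk.ne

omit [Finite G] in
theorem Fused.singular : D.qf (D.cls (D.dd k)) = 0 := (D.cls_sq _ hk.mem).1 (D.ctxR k).sq_z

/-- The conjugating element inverted. -/
theorem Fused.symm : D.Fused k⁻¹ := by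
  have h := hk.z_mem_R
  rw [D.mem_R] at h
  refine ⟨?_, fun e => hk.ne ?_⟩
  · show k⁻¹ * D.z * k⁻¹⁻¹ ∈ D.Q
    rwa [inv_inv]
  · show k * D.z * k⁻¹ = D.z
    calc k * D.z * k⁻¹ = k * (k⁻¹ * D.z * k⁻¹⁻¹) * k⁻¹ := by rw [show k⁻¹ * D.z * k⁻¹⁻¹ = D.z from e]
      _ = D.z := by group

omit [Finite G] in
theorem Fused.E_sq {a : G} (ha : a ∈ D.E k) : a * a = 1 := by
  rcases D.ctx.sq a ha.1 with e | e
  · exact e
  · rcases (D.ctxR k).sq a ha.2 with e' | e'
    · exact e'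
    · exact absurd (e'.symm.trans e) hk.ne

omit [Finite G] in
theorem Fused.E_comm {a b : G} (ha : a ∈ D.E k) (hb : b ∈ D.E k) : Commute a b := by
  rcases D.ctx.comm a ha.1 b hb.1 with e | e
  · exact mul_inv_eq_iff_eq_mul.1 (mul_inv_eq_one.1 e)
  · rcases (D.ctxR k).comm a ha.2 b hb.2 with e' | e'
    · exact mul_inv_eq_iff_eq_mul.1 (mul_inv_eq_one.1 e')
    · exact absurd (e'.symm.trans e) hk.ne

omit [Finite G] in
theorem Fused.ti : ∀ u ∈ D.eb k, ∀ v ∈ D.eb k, D.B u v = 0 :=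
  D.ti_img fun _ ha _ hb => hk.E_comm ha hb

omit [Finite G] in
theorem Fused.eb_singular {v : ι → ZMod 2} (hv : v ∈ D.eb k) : D.qf v = 0 := by
  obtain ⟨a, ha, rfl⟩ := hv
  exact (D.cls_sq a ha.2).1 (hk.E_sq ha.1)

omit [Finite G] in
theorem Fused.d_mem_eb : D.cls (D.dd k) ∈ D.eb k := ⟨_, ⟨hk.d_mem_E, hk.mem⟩, rfl⟩

theorem Fused.mem_E {a : G} (ha : a ∈ D.Q) (hv : D.cls a ∈ D.eb k) : a ∈ D.E k :=
  (D.mem_img_iff hk.z_mem_E ha).1 hv

omit hk in
/-- The images of the elements of the second extraspecial subgroup centralizing `z`. -/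
def cross (D : Data G ι) (k : G) : Subgroup K where
  carrier := {e | ∃ r ∈ D.R k, Commute r D.z ∧ D.pi r = e}
  one_mem' := ⟨1, one_mem _, Commute.one_left _, D.pi_one⟩
  mul_mem' := by
    rintro _ _ ⟨r, hr, hrz, rfl⟩ ⟨s, hs, hsz, rfl⟩
    exact ⟨r * s, mul_mem hr hs, hrz.mul_left hsz, D.pi_mul r s hrz hsz⟩
  inv_mem' := by
    rintro _ ⟨r, hr, hrz, rfl⟩
    exact ⟨r⁻¹, inv_mem hr, hrz.inv_left, D.pi_inv hrz⟩

omit hk [Finite G] in
theorem mem_cross {e : K} : e ∈ D.cross k ↔ ∃ r ∈ D.R k, Commute r D.z ∧ D.pi r = e := Iff.rfl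

omit hk [Finite G] in
theorem cross_le : D.cross k ≤ D.H := fun _ ⟨r, _, hrz, e⟩ => e ▸ D.pi_mem r hrz

omit [Finite G] in
theorem Fused.cross_fix {e : K} (he : e ∈ D.cross k) : D.mv e (D.cls (D.dd k)) = D.cls (D.dd k) := by
  obtain ⟨r, hr, hrz, rfl⟩ := he
  rw [← D.cls_conj r hrz _ hk.mem, mul_inv_eq_iff_eq_mul.2 ((D.ctxR k).central r hr).symm.eq]

omit [Finite G] in
theorem Fused.cross_sq {e : K} (he : e ∈ D.cross k) : e * e = 1 := by
  obtain ⟨r, hr, hrz, rfl⟩ := he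
  rw [← D.pi_mul r r hrz hrz]
  rcases (D.ctxR k).sq r hr with e | e <;> rw [e]
  exacts [D.pi_one, D.pi_Q hk.mem]

omit [Finite G] in
theorem Fused.cross_comm {e f : K} (he : e ∈ D.cross k) (hf : f ∈ D.cross k) : e * f = f * e := by
  obtain ⟨r, hr, hrz, rfl⟩ := he
  obtain ⟨s, hs, hsz, rfl⟩ := hf
  rw [← mul_inv_eq_iff_eq_mul, ← mul_inv_eq_one, ← D.pi_conj hrz hsz,
    ← D.pi_inv hsz, ← D.pi_mul _ _ ((hrz.mul_left hsz).mul_left hrz.inv_left) hsz.inv_left]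
  rcases (D.ctxR k).comm r hr s hs with e | e <;> rw [e]
  exacts [D.pi_one, D.pi_Q hk.mem]

omit [Finite G] in
/-- The stabilizer of the class of `d` lifts to elements centralizing `d`. -/
theorem Fused.exists_lift {e : K} (he : e ∈ D.H) (hfix : D.mv e (D.cls (D.dd k)) = D.cls (D.dd k)) :
    ∃ c, Commute c D.z ∧ Commute c (D.dd k) ∧ D.pi c = e := by
  obtain ⟨c, hc, rfl⟩ := D.pi_surj e he
  have hcd := D.conj_memQ hc hk.mem
  rcases D.cls_eq hk.mem hcd (by rw [D.cls_conj c hc _ hk.mem, hfix]) with h | h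
  · exact ⟨c, hc, mul_inv_eq_iff_eq_mul.1 h, rfl⟩
  · obtain ⟨y, hy, hyd⟩ := D.ctx.exists_move hk.mem hk.d_ne_one hk.ne
    refine ⟨y * c, (D.cz hy).mul_left hc, mul_inv_eq_iff_eq_mul.1 ?_, ?_⟩
    · calc y * c * D.dd k * (y * c)⁻¹ = y * (c * D.dd k * c⁻¹) * y⁻¹ := by group
        _ = y * (D.z * D.dd k) * y⁻¹ := by rw [h]
        _ = (y * D.z * y⁻¹) * (y * D.dd k * y⁻¹) := by group
        _ = D.dd k := by
          rw [hyd, (D.cz hy).eq, mul_inv_cancel_right, ← mul_assoc, D.ctx.sq_z, one_mul]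
    · rw [D.pi_mul _ _ (D.cz hy) hc, D.pi_Q hy, one_mul]

omit hk [Finite G] in
theorem conj_R {c a : G} (hc : Commute c (D.dd k)) (ha : a ∈ D.R k) : c * a * c⁻¹ ∈ D.R k :=
  (Subgroup.mem_normalizer_iff.1 ((D.ctxR k).norm c hc) a).1 ha

omit [Finite G] in
theorem Fused.cross_conj {e f : K} (he : e ∈ D.cross k) (hf : f ∈ D.H)
    (hfix : D.mv f (D.cls (D.dd k)) = D.cls (D.dd k)) : f * e * f⁻¹ ∈ D.cross k := by
  obtain ⟨r, hr, hrz, rfl⟩ := he
  obtain ⟨c, hc, hcd, rfl⟩ := hk.exists_lift hf hfix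
  exact ⟨c * r * c⁻¹, conj_R hcd hr, (hc.mul_left hrz).mul_left hc.inv_left, D.pi_conj hc hrz⟩

omit [Finite G] in
theorem Fused.eb_invariant {f : K} (hf : f ∈ D.H) (hfix : D.mv f (D.cls (D.dd k)) = D.cls (D.dd k))
    {v : ι → ZMod 2} (hv : v ∈ D.eb k) : D.mv f v ∈ D.eb k := by
  obtain ⟨a, ha, rfl⟩ := hv
  obtain ⟨c, hc, hcd, rfl⟩ := hk.exists_lift hf hfix
  exact ⟨c * a * c⁻¹, ⟨⟨D.conj_memQ hc ha.2, conj_R hcd ha.1.2⟩, D.conj_memQ hc ha.2⟩,
    D.cls_conj c hc a ha.2⟩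

omit [Finite G] in
/-- Commutators of the two cross centralizers lie in the intersection. -/
theorem Fused.cross_mem {e : K} (he : e ∈ D.cross k) {v : ι → ZMod 2}
    (hv : D.B (D.cls (D.dd k)) v = 0) : D.mv e v + v ∈ D.eb k := by
  obtain ⟨r, hr, hrz, rfl⟩ := he
  obtain ⟨a, ha, rfl⟩ := D.cls_surj v
  have had : Commute a (D.dd k) := ((D.cls_comm _ hk.mem a ha).2 hv).symm
  refine ⟨r * a * r⁻¹ * a⁻¹, Subgroup.mem_inf.2 ⟨Subgroup.mem_inf.2 ⟨?_, ?_⟩, ?_⟩, ?_⟩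
  · exact mul_mem (D.conj_memQ hrz ha) (inv_mem ha)
  · rw [show r * a * r⁻¹ * a⁻¹ = r * (a * r⁻¹ * a⁻¹) by group]
    exact mul_mem hr (conj_R had (inv_mem hr))
  · exact mul_mem (D.conj_memQ hrz ha) (inv_mem ha)
  · rw [D.cls_mul _ (D.conj_memQ hrz ha) _ (inv_mem ha), D.cls_inv ha, D.cls_conj r hrz a ha]

/-- The orders of the cross image and of the intersection. -/
theorem Fused.card_cross : Nat.card (D.cross k) * (2 * Nat.card (D.eb k)) = 256 := by
  set S : Subgroup G := D.R k ⊓ Subgroup.centralizer ({D.z} : Set G) with hS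
  have hcz : ∀ r : S, Commute (r : G) D.z := fun r => Subgroup.mem_centralizer_singleton_iff.1 r.2.2
  let φ : S →* D.cross k := MonoidHom.mk' (fun r => ⟨D.pi r, r, r.2.1, hcz r, rfl⟩) fun r s =>
    Subtype.ext (D.pi_mul _ _ (hcz r) (hcz s))
  have hs : Function.Surjective φ := by
    rintro ⟨_, r, hr, hrz, rfl⟩
    exact ⟨⟨r, hr, Subgroup.mem_centralizer_singleton_iff.2 hrz.eq⟩, rfl⟩
  have hkE : φ.ker = (D.E k).subgroupOf S := by
    ext r
    rw [MonoidHom.mem_ker, Subgroup.mem_subgroupOf]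
    constructor
    · intro h
      exact ⟨(D.pi_ker _ (hcz r)).1 (congrArg Subtype.val h), r.2.1⟩
    · exact fun h => Subtype.ext (D.pi_Q h.1)
  have hEle : D.E k ≤ S := fun a ha =>
    ⟨ha.2, Subgroup.mem_centralizer_singleton_iff.2 (D.cz ha.1).eq⟩
  have hcardS : Nat.card S = 256 := by
    have e : S = (D.Q ⊓ Subgroup.centralizer ({D.dd k⁻¹} : Set G)).map (MulAut.conj k).toMonoidHom := by
      ext a
      rw [mem_map_conj, hS, Subgroup.mem_inf, Subgroup.mem_inf, D.mem_R, Subgroup.mem_centralizer_singleton_iff,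
        Subgroup.mem_centralizer_singleton_iff]
      refine and_congr_right fun _ => ?_
      rw [dd, inv_inv]
      constructor
      · intro h
        calc k⁻¹ * a * k * (k⁻¹ * D.z * k) = k⁻¹ * (a * D.z) * k := by group
          _ = k⁻¹ * D.z * k * (k⁻¹ * a * k) := by rw [h]; group
      · intro h
        calc a * D.z = k * (k⁻¹ * a * k * (k⁻¹ * D.z * k)) * k⁻¹ := by group
          _ = D.z * a := by rw [h]; group
    rw [e, Subgroup.card_map_of_injective (MulEquiv.injective _), D.card_cent hk.symm.mem hk.symm.d_ne_one hk.symm.ne]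
  have h1 := Subgroup.card_eq_card_quotient_mul_card_subgroup φ.ker
  rw [Nat.card_congr (QuotientGroup.quotientKerEquivOfSurjective φ hs).toEquiv, hkE,
    Nat.card_congr (Subgroup.subgroupOfEquivOfLe hEle).toEquiv, hcardS] at h1
  rw [h1]
  exact congrArg (Nat.card (D.cross k) * ·) (D.card_img inf_le_left hk.z_mem_E).symm

theorem Fused.cross_ge : 8 ≤ Nat.card (D.cross k) := by
  have h1 := hk.card_cross
  have h2 := D.ti_card hk.ti
  nlinarith

/-- A cross element centralizing a maximal intersection is trivial. -/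
theorem Fused.cross_faithful (hc : Nat.card (D.eb k) = 16) {e : K} (he : e ∈ D.cross k)
    (hfix : ∀ v ∈ D.eb k, D.mv e v = v) : e = 1 := by
  obtain ⟨r, hr, hrz, rfl⟩ := he
  have hcom : ∀ a ∈ D.E k, Commute r a := by
    intro a ha
    rcases (D.ctxR k).comm r hr a ha.2 with h | h
    · exact mul_inv_eq_iff_eq_mul.1 (mul_inv_eq_one.1 h)
    · exfalso
      have hv : D.cls (r * a * r⁻¹ * a⁻¹) = 0 := by
        rw [D.cls_mul _ (D.conj_memQ hrz ha.1) _ (inv_mem ha.1), D.cls_inv ha.1, D.cls_conj r hrz a ha.1,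
          hfix _ ⟨a, ⟨ha, ha.1⟩, rfl⟩, vadd_self]
      rw [h] at hv
      exact hk.cls_ne hv
  set E' : Subgroup G := (D.E k).map (MulAut.conj k⁻¹).toMonoidHom with hE'
  have hE'Q : E' ≤ D.Q := by
    rintro _ ⟨a, ha, rfl⟩
    show k⁻¹ * a * k⁻¹⁻¹ ∈ D.Q
    rw [inv_inv]
    exact D.mem_R.1 ha.2
  have hzE' : D.z ∈ E' := ⟨D.dd k, hk.d_mem_E, by
    show k⁻¹ * (k * D.z * k⁻¹) * k⁻¹⁻¹ = D.z
    group⟩
  have hE'ti := D.ti_img (S := E') (by
    rintro _ ⟨a, ha, rfl⟩ _ ⟨b, hb, rfl⟩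
    exact (hk.E_comm ha hb).map (MulAut.conj k⁻¹).toMonoidHom)
  have hE'c : Nat.card (D.img E') = 16 := by
    have h1 := D.card_img hE'Q hzE'
    rw [show Nat.card E' = Nat.card (D.E k) from Subgroup.card_map_of_injective (MulEquiv.injective _),
      D.card_img (show D.E k ≤ D.Q from inf_le_left) hk.z_mem_E] at h1
    change 2 * Nat.card (D.eb k) = _ at h1
    rw [hc] at h1
    omega
  have hr' : k⁻¹ * r * k ∈ D.Q := D.mem_R.1 hr
  have hmem : D.cls (k⁻¹ * r * k) ∈ D.img E' := by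
    refine D.ti_perp hE'ti hE'c ?_
    rintro _ ⟨b, ⟨⟨a, ha, rfl⟩, hbQ⟩, rfl⟩
    refine (D.cls_comm _ hbQ _ hr').1 ?_
    have := ((hcom a ha).symm.map (MulAut.conj k⁻¹).toMonoidHom)
    simpa [inv_inv] using this
  obtain ⟨a, ha, e⟩ := (D.mem_img_iff hzE' hr').1 hmem
  have : a = r := by
    have e' : k⁻¹ * a * k⁻¹⁻¹ = k⁻¹ * r * k := e
    rw [inv_inv] at e'
    exact mul_left_cancel (mul_right_cancel e')
  exact D.pi_Q (this ▸ ha).1

end Data

end Cfsg.Lib.Extra.SymAltSix
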