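import Cfsg.Agent.Lib.Extra.SymAltSix.Split

/-!
# The two configurations in the standard coordinates
-/

set_option autoImplicit false
set_option linter.style.haveILetI false

namespace Cfsg.Lib.Extra.SymAltSix

open Equiv

/-- The standard pure tensor: the first point and the first basis vector. -/
def p0 : V := vec 1

/-- The pure tensors. -/
def IsPure (v : V) : Prop := ∃ e ∈ L, act e p0 = v

/-- The four-group fixing the first two of six points. -/
def four : List (Perm (Fin 6)) := [1, swap 2 3 * swap 4 5, swap 2 4 * swap 3 5, swap 2 5 * swap 3 4]

/-- The first kind of cross image at the standard pure tensor. -/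
def aSig : List K := four.map (fun p => (1, p)) ++ four.map (fun p => (swap 1 2, p))

/-- The second kind of cross image at the standard pure tensor. -/
def aTau : List K := four.map (fun p => (1, p)) ++ four.map (fun p => (swap 1 2, swap 0 1 * p))

/-- The codes of the classes of the intersection at the standard pure tensor. -/
def inE0 (n : ℕ) : Bool := !((n % 16).testBit 1) && decide (n / 16 < 2)

variable {G : Type*} [Group G]

/-- The data are in standard coordinates. -/
structure IsStd (D : Data G (Fin 8)) : Prop where
  mv_act : ∀ e ∈ D.H, ∀ v, D.mv e v = act e v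
  form : ∀ v, D.qf v = if q8 (code v) then 1 else 0

/-- Every second conjugate of `z` in `Q` is a pure tensor with the given cross image at the standard one. -/
structure CrossType (D : Data G (Fin 8)) (A : List K) : Prop where
  pure : ∀ k, D.Fused k → IsPure (D.cls (D.dd k))
  inter : ∀ k, D.Fused k → D.cls (D.dd k) = p0 → ∀ v, v ∈ D.eb k ↔ inE0 (code v) = true
  cross : ∀ k, D.Fused k → D.cls (D.dd k) = p0 → ∀ e, e ∈ D.cross k ↔ e ∈ A

end Cfsg.Lib.Extra.SymAltSix
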