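import Cfsg.Agent.Lib.Extra.SymAltSix.Relabel
import Cfsg.Agent.Lib.Extra.SymAltSix.Std

/-!
# Standard coordinates when the central element of order three fixes nothing
-/

set_option autoImplicit false
set_option maxRecDepth 20000
set_option linter.style.haveILetI false

namespace Cfsg.Lib.Extra.SymAltSix

open Equiv Cfsg.Lib.Linear.Orth Cfsg.Lib.SymNine
open Cfsg.Lib.Extra.Wide (bit bit_self vadd_self vadd_eq_zero)

/-- The involution completing the generators. -/
def hK : K := (1, swap 0 3 * swap 1 2)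

theorem hK_mem : hK ∈ L := mem_L.2 (by decide)

/-- The model frame. -/
def mFrame : Fin 4 → ℕ := ![19, 141, 49, 216]

/-- The coefficient map of the model frame. -/
def mInv : List ℕ := [49, 34, 185, 196, 18, 51, 222, 72]

/-- The model combination. -/
def mCoord (c : Fin 4 → ZMod 2 × ZMod 2) : V :=
  ∑ m, ((c m).1 • vec (mFrame m) + (c m).2 • act xK (vec (mFrame m)))

/-- The code of the combination. -/
def mCode (c : Fin 4 → ZMod 2 × ZMod 2) : ℕ :=
  app [19, 33, 141, 88, 49, 35, 216, 93]
    ((c 0).1.val + 2 * (c 0).2.val + 4 * (c 1).1.val + 8 * (c 1).2.val + 16 * (c 2).1.val + 32 * (c 2).2.val +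
      64 * (c 3).1.val + 128 * (c 3).2.val)

theorem mFrame_facts : ∀ m : Fin 4, app (mu xK) (mFrame m) = [33, 88, 35, 93].getD m.val 0 ∧
    app (mu aK) (mFrame m) = app (mu (xK ^ (chr 1 0 m).1.val)) (mFrame m) ∧
    app (mu bK) (mFrame m) = app (mu (xK ^ (chr 1 0 m).2.val)) (mFrame m) ∧
    app (mu gK) (mFrame m) = mFrame (m + 1) ∧ mFrame m < 256 := by decide +kernel

theorem mCoord_code : ∀ c, code (mCoord c) = mCode c := by decide +kernel

theorem mCoord_injective' : ∀ c, app mInv (mCode c) = (c 0).1.val + 2 * (c 0).2.val + 4 * (c 1).1.val +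
    8 * (c 1).2.val + 16 * (c 2).1.val + 32 * (c 2).2.val + 64 * (c 3).1.val + 128 * (c 3).2.val := by
  decide +kernel

theorem mForm : ∀ c, q8 (mCode c) = decide ((∑ m, if c m = 0 then (0 : ZMod 2) else 1) = 1) := by decide +kernel

theorem mCoord_bijective : Function.Bijective mCoord := by
  refine (Fintype.bijective_iff_injective_and_card _).2 ⟨fun c c' h => ?_, ?_⟩
  · have e := congrArg (fun v => app mInv (code v)) h
    simp only [mCoord_code, mCoord_injective'] at e
    have key : ∀ a b : ZMod 2, a.val = b.val → a = b := fun a b hab => ZMod.val_injective 2 hab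
    have hb : ∀ a : ZMod 2, a.val < 2 := fun a => ZMod.val_lt a
    have := hb (c 0).1; have := hb (c 0).2; have := hb (c 1).1; have := hb (c 1).2
    have := hb (c 2).1; have := hb (c 2).2; have := hb (c 3).1; have := hb (c 3).2
    have := hb (c' 0).1; have := hb (c' 0).2; have := hb (c' 1).1; have := hb (c' 1).2
    have := hb (c' 2).1; have := hb (c' 2).2; have := hb (c' 3).1; have := hb (c' 3).2
    have h0 : c 0 = c' 0 := Prod.ext (key _ _ (by omega)) (key _ _ (by omega))
    have h1 : c 1 = c' 1 := Prod.ext (key _ _ (by omega)) (key _ _ (by omega))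
    have h2 : c 2 = c' 2 := Prod.ext (key _ _ (by omega)) (key _ _ (by omega))
    have h3 : c 3 = c' 3 := Prod.ext (key _ _ (by omega)) (key _ _ (by omega))
    funext m
    fin_cases m
    exacts [h0, h1, h2, h3]
  · simp

/-- The matrix of a transported element, from the image of the first frame vector. -/
def hMat (n : ℕ) : List ℕ :=
  let g := mu gK⁻¹
  let x := mu xK
  comp [n, app x n, app g n, app x (app g n), app g (app g n), app x (app g (app g n)),
    app g (app g (app g n)), app x (app g (app g (app g n)))] mInv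

/-- A matrix fixing the eight basis vectors. -/
def isId (m : List ℕ) : Bool := (List.range 8).all fun i => app m (2 ^ i) == 2 ^ i

theorem h_candidates : ∀ n : Fin 256, isId (comp (hMat n.val) (hMat n.val)) = true →
    isId (comp (comp (hMat n.val) (mu aK)) (comp (comp (hMat n.val) (mu aK)) (comp (hMat n.val) (mu aK)))) = true →
      hMat n.val = mu hK := by
  decide +kernel

theorem app_pow (l : List ℕ) {k : ℕ} (hk : k < 8) : app l (2 ^ k) = l.getD k 0 := by
  interval_cases k <;> simp [app, Nat.testBit, Nat.shiftRight_eq_div_pow]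

theorem xeig : ∀ n : Fin 256, app (mu aK) n.val = app (mu xK) n.val → app (mu bK) n.val = n.val →
    n.val = 0 ∨ ∃ s : Fin 3, n.val = app (mu (xK ^ s.val)) 19 := by decide +kernel

theorem gen_words :
    swap (0 : Fin 6) 1 * swap 0 1 = 1 ∧
    swap (1 : Fin 6) 2 * swap 0 1 = aK.2 * aK.2 ∧
    swap (2 : Fin 6) 3 * swap 0 1 = aK.2 * aK.2 * hK.2 * aK.2 ∧
    swap (3 : Fin 6) 4 * swap 0 1 = aK.2 * bK.2 * gK.2 * gK.2 ∧
    swap (4 : Fin 6) 5 * swap 0 1 = aK.2 * gK.2 * gK.2 := by
  decide +kernel

theorem xK_powers : ∀ s : Perm (Fin 3), Perm.sign s = 1 → ∃ i : Fin 3, ((s, 1) : K) = xK ^ i.val := by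
  decide +kernel

/-- Five elements generate the pairs of even permutations. -/
theorem L_le_of_gens (S : Subgroup K) (hx : xK ∈ S) (ha : aK ∈ S) (hb : bK ∈ S) (hg : gK ∈ S) (hh : hK ∈ S) :
    L ≤ S := by
  intro e he
  obtain ⟨h1, h2⟩ := mem_L.1 he
  obtain ⟨i, hi⟩ := xK_powers e.1 h1
  have hsplit : e = (e.1, 1) * (1, e.2) := by simp
  rw [hsplit]
  refine mul_mem (hi ▸ pow_mem hx _) ?_
  obtain ⟨w0, w1, w2, w3, w4⟩ := gen_words
  have hgen : ∀ i : Fin 5, ((1, swap i.castSucc i.succ * swap 0 1) : K) ∈ S := by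
    intro i
    fin_cases i
    · show ((1, swap (0 : Fin 6) 1 * swap 0 1) : K) ∈ S
      rw [w0]; exact one_mem S
    · show ((1, swap (1 : Fin 6) 2 * swap 0 1) : K) ∈ S
      rw [w1]; exact mul_mem ha ha
    · show ((1, swap (2 : Fin 6) 3 * swap 0 1) : K) ∈ S
      rw [w2]; exact mul_mem (mul_mem (mul_mem ha ha) hh) ha
    · show ((1, swap (3 : Fin 6) 4 * swap 0 1) : K) ∈ S
      rw [w3]; exact mul_mem (mul_mem (mul_mem ha hb) hg) hg
    · show ((1, swap (4 : Fin 6) 5 * swap 0 1) : K) ∈ S
      rw [w4]; exact mul_mem (mul_mem ha hg) hg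
  have key : ∀ σ ∈ Submonoid.closure (Set.range fun i : Fin 5 ↦ swap i.castSucc i.succ),
      (Perm.sign σ = 1 → ((1, σ) : K) ∈ S) ∧ (Perm.sign σ = -1 → ((1, σ * swap 0 1) : K) ∈ S) := by
    intro σ hσ
    induction hσ using Submonoid.closure_induction_right with
    | one => exact ⟨fun _ => one_mem S, fun h => by simp at h⟩
    | mul_right x y _ hy ih =>
      obtain ⟨i, rfl⟩ := hy
      have hs : Perm.sign (x * swap i.castSucc i.succ) = - Perm.sign x := by
        rw [map_mul, Perm.sign_swap (Fin.castSucc_lt_succ (i := i)).ne, mul_neg_one]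
      constructor
      · intro h
        have hx' : Perm.sign x = -1 := by rw [hs] at h; rw [← neg_neg (Perm.sign x), h]
        have : ((1, x * swap i.castSucc i.succ) : K) =
            (1, x * swap 0 1) * (1, swap i.castSucc i.succ * swap 0 1)⁻¹ := by
          refine Prod.ext (by simp) ?_
          show x * swap i.castSucc i.succ = x * swap 0 1 * (swap i.castSucc i.succ * swap 0 1)⁻¹
          rw [mul_inv_rev, swap_inv, swap_inv]
          simp only [← mul_assoc]
          rw [mul_assoc x (swap (0 : Fin 6) 1), swap_mul_self, mul_one]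
        rw [this]
        exact mul_mem (ih.2 hx') (inv_mem (hgen i))
      · intro h
        have hx' : Perm.sign x = 1 := by rw [hs] at h; exact neg_injective h
        have : ((1, x * swap i.castSucc i.succ * swap 0 1) : K) = (1, x) * (1, swap i.castSucc i.succ * swap 0 1) :=
          Prod.ext (by simp) (mul_assoc _ _ _)
        rw [this]
        exact mul_mem (ih.1 hx') (hgen i)
  exact (key e.2 (by rw [Perm.mclosure_swap_castSucc_succ]; trivial)).1 h2

variable {G : Type*} [Group G] {ι : Type} [Fintype ι] [DecidableEq ι]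

namespace Data

variable (D : Data G ι)

/-- An eigenvector with standard exponents, after relabelling. -/
theorem exists_std_eig (hfix : D.fixX = ⊥) :
    ∃ D' : Data G ι, D'.z = D.z ∧ D'.Q = D.Q ∧ ∃ w : ι → ZMod 2, w ≠ 0 ∧ D'.Eig w (1, 0) := by
  have hmov : ∃ p : Perm (Fin 6), Perm.sign p = 1 ∧ ∃ v ∈ D.movX, D.mv (1, p) v ≠ v := by
    by_contra hno
    push Not at hno
    have : aK = 1 := D.mv_faithful aK D.aH fun v => by
      refine hno (swap 0 1 * swap 1 2) (by decide) v ?_
      rw [← D.pC_add_pD v, show D.pC v = 0 from (Submodule.eq_bot_iff _).1 hfix _ (D.pC_mem v), zero_add]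
      exact D.pD_mem v
    exact absurd this (by decide +kernel)
  obtain ⟨w, i, j, hi, hw, h⟩ := D.exists_eig hmov
  have hnorm : ∀ (D' : Data G ι) (w : ι → ZMod 2) (i j : Fin 3), w ≠ 0 → (i, j) ≠ ((0, 0) : Fin 3 × Fin 3) →
      (i = 0 ∨ j = 0) → D'.Eig w (i, j) → ∃ w' : ι → ZMod 2, w' ≠ 0 ∧ D'.Eig w' (1, 0) := by
    intro D' w i j hw hne hz h
    have hg : ∀ {v : ι → ZMod 2}, v ≠ 0 → D'.mv gK v ≠ 0 := fun {v} hv e =>
      hv (D'.mv_injective D'.gH (e.trans (D'.mv_zero D'.gH).symm))
    have hframe : ∀ m, D'.frame w m ≠ 0 := by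
      intro m; fin_cases m
      exacts [hw, hg hw, hg (hg hw), hg (hg (hg hw))]
    obtain ⟨m, hm⟩ : ∃ m, chr i j m = (1, 0) :=
      (show ∀ i j : Fin 3, (i, j) ≠ ((0, 0) : Fin 3 × Fin 3) → (i = 0 ∨ j = 0) → ∃ m, chr i j m = (1, 0) by
        decide) i j hne hz
    exact ⟨_, hframe m, hm ▸ D'.eig_frame h m⟩
  by_cases hj : j = 0
  · exact ⟨D, rfl, rfl, hnorm D w i j hw (fun e => hi (congrArg Prod.fst e)) (Or.inr hj) h⟩
  · obtain ⟨θ, t1, t2, hθ⟩ := exists_theta
    refine ⟨D.relabel θ hθ, rfl, rfl, hnorm _ w (i + j) (i + i + j) hw ?_ ?_ ?_⟩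
    · exact (show ∀ i j : Fin 3, i ≠ 0 → ¬j = 0 → (i + j, i + i + j) ≠ ((0, 0) : Fin 3 × Fin 3) by decide) i j hi hj
    · exact (show ∀ i j : Fin 3, i ≠ 0 → ¬j = 0 → i + j = 0 ∨ i + i + j = 0 by decide) i j hi hj
    · have hxK : (D.relabel θ hθ).mv xK = D.mv xK := by
        show D.mv (xK.1, θ.symm 1) = D.mv xK
        rw [map_one]; rfl
      have hxp : ∀ n : ℕ, (D.relabel θ hθ).mv (xK ^ n) = D.mv (xK ^ n) := fun n => by
        show D.mv ((xK ^ n).1, θ.symm (xK ^ n).2) = D.mv (xK ^ n)
        rw [show (xK ^ n).2 = 1 by simp [xK], map_one, show ((xK ^ n).1, (1 : Perm (Fin 6))) = xK ^ n from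
          Prod.ext rfl (by simp [xK])]
      refine ⟨?_, ?_, ?_⟩
      · rw [(D.relabel θ hθ).mem_movX, X, X, hxK]
        exact D.mem_movX.1 h.1
      · show D.mv (1, θ.symm SixP.a0) w = _
        rw [hxp, t1, show ((1, SixP.a0 * SixP.b0) : K) = aK * bK from Prod.ext (by simp [aK, bK]) rfl,
          D.mv_mul D.aH D.bH, h.2.2, ← D.xpow_comm D.aH (x_comm_one _), h.2.1,
          ← D.mv_mul (D.xpow_mem _) (D.xpow_mem _), (pow_facts _ _).1, add_comm i j]
      · show D.mv (1, θ.symm SixP.b0) w = _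
        rw [hxp, t2, show ((1, SixP.a0 * SixP.a0 * SixP.b0) : K) = aK * aK * bK from Prod.ext (by simp [aK, bK]) rfl,
          D.mv_mul (mul_mem D.aH D.aH) D.bH, h.2.2, D.mv_mul D.aH D.aH]
        rw [← D.xpow_comm D.aH (x_comm_one _), h.2.1, ← D.mv_mul (D.xpow_mem _) (D.xpow_mem _), (pow_facts _ _).1,
          ← D.xpow_comm D.aH (x_comm_one _), h.2.1, ← D.mv_mul (D.xpow_mem _) (D.xpow_mem _), (pow_facts _ _).1]
        exact congrArg (fun s : Fin 3 => D.mv (xK ^ s.val) w) (by abel)

theorem eig_orth {e : K} (he : e ∈ D.H) (hc : xK * e = e * xK) {u v : ι → ZMod 2} (hv : v ∈ D.movX)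
    {α β : Fin 3} (hαβ : α ≠ β) (hu' : D.mv e u = D.mv (xK ^ α.val) u) (hv' : D.mv e v = D.mv (xK ^ β.val) v) :
    D.B u v = 0 := by
  have hpow : ∀ n : ℕ, D.mv e (D.mv (xK ^ n) v) = D.mv (xK ^ β.val) (D.mv (xK ^ n) v) := fun n => by
    rw [← D.xpow_comm he hc, hv', ← D.mv_mul (D.xpow_mem _) (D.xpow_mem _),
      ← D.mv_mul (D.xpow_mem _) (D.xpow_mem _), ← pow_add, ← pow_add, add_comm]
  have hshift : ∀ n : ℕ, D.B u (D.mv (xK ^ n) v) = D.B u (D.mv (xK ^ (β - α).val) (D.mv (xK ^ n) v)) := by
    intro n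
    rw [← D.mv_B he u, hu', hpow, show β = α + (β - α) by abel, ← (pow_facts α (β - α)).1,
      D.mv_mul (D.xpow_mem _) (D.xpow_mem _), D.mv_B (D.xpow_mem _), show α + (β - α) - α = β - α by abel]
  rw [mem_movX] at hv
  have hne : β - α ≠ 0 := sub_ne_zero.2 hαβ.symm
  have e0 := hshift 0
  have e1 := hshift 1
  rw [pow_zero, D.mv_one] at e0
  rw [pow_one] at e1
  have hsum := congrArg (D.B u) hv
  rw [map_add, map_add, map_zero] at hsum
  rcases (show ∀ a : Fin 3, a ≠ 0 → a.val = 1 ∨ a.val = 2 by decide) _ hne with h | h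
  · rw [h, pow_one] at e0 e1
    change D.B u v = D.B u (D.X v) at e0
    change D.B u (D.X v) = D.B u (D.X (D.X v)) at e1
    rw [← e1, ← e0, bit_self, zero_add] at hsum
    exact hsum
  · rw [h, pow_two, D.mv_mul D.xH D.xH] at e0 e1
    change D.B u v = D.B u (D.X (D.X v)) at e0
    change D.B u (D.X v) = D.B u (D.X (D.X (D.X v))) at e1
    rw [D.X_three] at e1
    rw [← e0, e1, bit_self, zero_add] at hsum
    exact hsum

/-- Standard coordinates from an eigenvector with exponents `(1, 0)`. -/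
theorem exists_isStd_of_eig {w : ι → ZMod 2} (hw : w ≠ 0) (h : D.Eig w (1, 0)) :
    ∃ D' : Data G (Fin 8), IsStd D' ∧ D'.z = D.z ∧ D'.Q = D.Q := by
  classical
  have hbij := D.coord_bijective hw (by decide : (1 : Fin 3) ≠ 0) h
  let Φ := Equiv.ofBijective _ hbij
  let ψ : (ι → ZMod 2) → V := fun y => mCoord (Φ.symm y)
  have hψc : ∀ c, ψ (D.coord w c) = mCoord c := fun c => congrArg mCoord (Φ.symm_apply_apply c)
  have hψb : Function.Bijective ψ := mCoord_bijective.comp Φ.symm.bijective
  have hmadd : ∀ c c', mCoord (c + c') = mCoord c + mCoord c' := fun c c' => by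
    simp only [mCoord, Pi.add_apply, Prod.fst_add, Prod.snd_add, add_smul, ← Finset.sum_add_distrib]
    refine Finset.sum_congr rfl fun m _ => ?_
    abel
  have hcadd : ∀ c c', D.coord w (c + c') = D.coord w c + D.coord w c' := fun c c' => by
    simp only [coord, Pi.add_apply, Prod.fst_add, Prod.snd_add, add_smul, ← Finset.sum_add_distrib]
    refine Finset.sum_congr rfl fun m _ => ?_
    abel
  have hψadd : ∀ u v, ψ (u + v) = ψ u + ψ v := fun u v => by
    obtain ⟨a, rfl⟩ := hbij.2 u
    obtain ⟨b, rfl⟩ := hbij.2 v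
    rw [← hcadd, hψc, hψc, hψc, hmadd]
  have hψ0 : ψ 0 = 0 := by
    have e := hψadd 0 0
    rw [add_zero] at e
    exact left_eq_add.1 e
  have hψsmul : ∀ (r : ZMod 2) v, ψ (r • v) = r • ψ v := fun r v => by
    rcases bit r with rfl | rfl
    · rw [zero_smul, zero_smul, hψ0]
    · rw [one_smul, one_smul]
  have hmov : ∀ v, v ∈ D.movX := fun v => by
    obtain ⟨c, rfl⟩ := hbij.2 v
    exact D.frame_mem_mov h c
  have hXX : ∀ v, D.X (D.X v) = v + D.X v := fun v => by
    refine vadd_eq_zero ?_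
    rw [← D.mem_movX.1 (hmov v)]; abel
  have hfr : ∀ m, ψ (D.frame w m) = vec (mFrame m) ∧ ψ (D.X (D.frame w m)) = act xK (vec (mFrame m)) := by
    intro m
    have e1 : D.coord w (Pi.single m (1, 0)) = D.frame w m := by
      rw [coord, Finset.sum_eq_single m]
      · simp
      · intro n _ hn; simp [Pi.single_eq_of_ne hn]
      · simp
    have e2 : D.coord w (Pi.single m (0, 1)) = D.X (D.frame w m) := by
      rw [coord, Finset.sum_eq_single m]
      · simp
      · intro n _ hn; simp [Pi.single_eq_of_ne hn]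
      · simp
    have m1 : mCoord (Pi.single m (1, 0)) = vec (mFrame m) := by
      rw [mCoord, Finset.sum_eq_single m]
      · simp
      · intro n _ hn; simp [Pi.single_eq_of_ne hn]
      · simp
    have m2 : mCoord (Pi.single m (0, 1)) = act xK (vec (mFrame m)) := by
      rw [mCoord, Finset.sum_eq_single m]
      · simp
      · intro n _ hn; simp [Pi.single_eq_of_ne hn]
      · simp
    exact ⟨by rw [← e1, hψc, m1], by rw [← e2, hψc, m2]⟩
  -- additive maps agreeing on the frame are equal
  have hspan : ∀ (f f' : (ι → ZMod 2) → V), (∀ u v, f (u + v) = f u + f v) → (∀ u v, f' (u + v) = f' u + f' v) →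
      (∀ m, f (D.frame w m) = f' (D.frame w m) ∧ f (D.X (D.frame w m)) = f' (D.X (D.frame w m))) →
      ∀ y, f y = f' y := by
    intro f f' hf hf' hm y
    obtain ⟨c, rfl⟩ := hbij.2 y
    have z0 : ∀ (g : (ι → ZMod 2) → V), (∀ u v, g (u + v) = g u + g v) → g 0 = 0 := fun g hg => by
      have e := hg 0 0
      rw [add_zero] at e
      exact left_eq_add.1 e
    let F : (ι → ZMod 2) →+ V := AddMonoidHom.mk' f hf
    let F' : (ι → ZMod 2) →+ V := AddMonoidHom.mk' f' hf'
    show F (D.coord w c) = F' (D.coord w c)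
    simp only [coord, map_sum, map_add]
    refine Finset.sum_congr rfl fun m _ => ?_
    congr 1
    · rcases bit (c m).1 with e | e <;> simp only [e, zero_smul, one_smul, map_zero]
      exact (hm m).1
    · rcases bit (c m).2 with e | e <;> simp only [e, zero_smul, one_smul, map_zero]
      exact (hm m).2
  let S : Subgroup K :=
    { carrier := {e | e ∈ D.H ∧ ∀ y, ψ (D.mv e y) = act e (ψ y)}
      one_mem' := ⟨one_mem _, fun y => by rw [D.mv_one, act_one]⟩
      mul_mem' := fun {e f} he hf => ⟨mul_mem he.1 hf.1, fun y => by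
        rw [D.mv_mul he.1 hf.1, he.2, hf.2, act_mul]⟩
      inv_mem' := fun {e} he => ⟨inv_mem he.1, fun y => by
        rw [← D.mv_inv he.1 y, D.inv_mv he.1, he.2, ← act_mul, inv_mul_cancel, act_one]⟩ }
  have hSx : xK ∈ S := by
    refine ⟨D.xH, hspan _ _ (fun u v => by rw [D.mv_add D.xH, hψadd]) (fun u v => by rw [hψadd, act_add]) fun m => ?_⟩
    refine ⟨by rw [(hfr m).1]; exact (hfr m).2, ?_⟩
    change ψ (D.X (D.X (D.frame w m))) = act xK (ψ (D.X (D.frame w m)))
    rw [hXX, hψadd, (hfr m).1, (hfr m).2]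
    revert m
    intro m
    refine code_injective ?_
    rw [code_add, code_act, code_act, code_vec (mFrame_facts m).2.2.2.2]
    revert m
    decide +kernel
  have hS_of_frame : ∀ {e : K}, e ∈ D.H → xK * e = e * xK →
      (∀ m, ψ (D.mv e (D.frame w m)) = act e (vec (mFrame m))) → e ∈ S := by
    intro e he hc hm
    refine ⟨he, hspan _ _ (fun u v => by rw [D.mv_add he, hψadd]) (fun u v => by rw [hψadd, act_add]) fun m => ?_⟩
    refine ⟨by rw [(hfr m).1]; exact hm m, ?_⟩
    rw [← D.X_comm he hc, (hfr m).2, ← act_mul, ← hc, act_mul, ← hm m]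
    exact hSx.2 _
  have hxpow : ∀ n : ℕ, xK ^ n ∈ S := fun n => pow_mem hSx n
  have hSa : aK ∈ S := hS_of_frame D.aH (x_comm_one _) fun m => by
    rw [(D.eig_frame h m).2.1, (hxpow _).2, (hfr m).1, act, act, code_vec (mFrame_facts m).2.2.2.2,
      (mFrame_facts m).2.1]
  have hSb : bK ∈ S := hS_of_frame D.bH (x_comm_one _) fun m => by
    rw [(D.eig_frame h m).2.2, (hxpow _).2, (hfr m).1, act, act, code_vec (mFrame_facts m).2.2.2.2,
      (mFrame_facts m).2.2.1]
  have hSg : gK ∈ S := hS_of_frame D.gH (x_comm_one _) fun m => by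
    have e : D.mv gK (D.frame w m) = D.frame w (m + 1) := by
      fin_cases m
      · rfl
      · rfl
      · rfl
      · show D.mv gK (D.mv gK (D.mv gK (D.mv gK w))) = w
        rw [← D.mv_mul D.gH D.gH, ← D.mv_mul D.gH D.gH, ← D.mv_mul (mul_mem D.gH D.gH) (mul_mem D.gH D.gH),
          gK_four, D.mv_one]
    rw [e, (hfr _).1, act, code_vec (mFrame_facts m).2.2.2.2, (mFrame_facts m).2.2.2.1]
  -- the last generator
  have hH : hK ∈ D.H := D.L_le hK_mem
  have hSh : hK ∈ S := by
    set n := code (ψ (D.mv hK w)) with hn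
    have hgi : gK⁻¹ ∈ S := inv_mem hSg
    have hconj : ∀ v, D.mv hK (D.mv gK v) = D.mv gK⁻¹ (D.mv hK v) := fun v => by
      rw [← D.mv_mul hH D.gH, ← D.mv_mul (inv_mem D.gH) hH,
        show hK * gK = gK⁻¹ * hK by decide +kernel]
    have hM : ∀ y, code (ψ (D.mv hK y)) = app (hMat n) (code (ψ y)) := by
      intro y
      rw [← code_vec (app_lt_of (m := hMat n) ?_ (code (ψ y)))]
      · refine congrArg code ?_
        refine hspan (fun y => ψ (D.mv hK y)) (fun y => vec (app (hMat n) (code (ψ y))))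
          (fun u v => by rw [D.mv_add hH, hψadd]) (fun u v => by rw [hψadd, code_add, app_xor, vec_xor]) (fun m => ?_) y
        have key : ∀ (m : Fin 4), app mInv (mFrame m) = 4 ^ m.val ∧
            app mInv (app (mu xK) (mFrame m)) = 2 * 4 ^ m.val := by decide +kernel
        have hx : ∀ v, ψ (D.mv hK (D.X v)) = act xK (ψ (D.mv hK v)) := fun v => by
          rw [← D.X_comm hH (x_comm_one _)]; exact hSx.2 _
        have g1 : ∀ v, ψ (D.mv hK (D.mv gK v)) = act gK⁻¹ (ψ (D.mv hK v)) := fun v => by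
          rw [hconj]; exact hgi.2 _
        have hg : ∀ v, code (ψ (D.mv hK (D.mv gK v))) = app (mu gK⁻¹) (code (ψ (D.mv hK v))) := fun v => by
          rw [g1, code_act]
        have hfm : ∀ m, code (ψ (D.mv hK (D.frame w m))) =
            ![n, app (mu gK⁻¹) n, app (mu gK⁻¹) (app (mu gK⁻¹) n),
              app (mu gK⁻¹) (app (mu gK⁻¹) (app (mu gK⁻¹) n))] m := by
          intro m
          fin_cases m
          · rfl
          · show code (ψ (D.mv hK (D.mv gK w))) = _
            rw [hg]; rfl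
          · show code (ψ (D.mv hK (D.mv gK (D.mv gK w)))) = _
            rw [hg, hg]; rfl
          · show code (ψ (D.mv hK (D.mv gK (D.mv gK (D.mv gK w))))) = _
            rw [hg, hg, hg]; rfl
        refine ⟨?_, ?_⟩
        · rw [← vec_code (ψ (D.mv hK (D.frame w m))), hfm, (hfr m).1, code_vec (mFrame_facts m).2.2.2.2,
            hMat, app_comp, (key m).1, show 4 ^ m.val = 2 ^ (2 * m.val) by rw [pow_mul]; norm_num,
            app_pow _ (by omega)]
          fin_cases m <;> rfl
        · rw [hx, ← vec_code (act xK _), code_act, hfm, (hfr m).2, code_act, code_vec (mFrame_facts m).2.2.2.2,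
            hMat, app_comp, (key m).2, show 2 * 4 ^ m.val = 2 ^ (2 * m.val + 1) by
              rw [pow_succ', pow_mul]; norm_num,
            app_pow _ (by omega)]
          fin_cases m <;> rfl
      · intro i hi
        rw [hMat]
        refine (show ∀ (l : List ℕ), (∀ k < 8, l.getD k 0 < 256) → (comp l mInv).getD i 0 < 256 from fun l hl => by
          simp only [comp, List.getD_eq_getElem?_getD, List.getElem?_map, List.getElem?_range hi, Option.map_some,
            Option.getD_some]
          exact app_lt_of hl _) _ ?_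
        intro j hj
        have hn' : n < 256 := code_lt _
        interval_cases j <;> simp [app_lt, hn']
    have hnlt : n < 256 := code_lt _
    have hsurj : ∀ k : ℕ, k < 256 → ∃ y, code (ψ y) = k := fun k hk => by
      obtain ⟨y, hy⟩ := hψb.2 (vec k)
      exact ⟨y, by rw [hy, code_vec hk]⟩
    have hpow2 : ∀ i < 8, 2 ^ i < 256 := fun i hi => by interval_cases i <;> norm_num
    have hA : ∀ y, code (ψ (D.mv aK y)) = app (mu aK) (code (ψ y)) := fun y => by rw [hSa.2, code_act]
    have r2 : isId (comp (hMat n) (hMat n)) = true := by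
      simp only [isId, List.all_eq_true, List.mem_range, beq_iff_eq]
      intro i hi
      obtain ⟨y, hy⟩ := hsurj _ (hpow2 i hi)
      rw [app_comp, ← hy, ← hM, ← hM, ← D.mv_mul hH hH, show hK * hK = 1 by decide +kernel, D.mv_one]
    have r3 : isId (comp (comp (hMat n) (mu aK)) (comp (comp (hMat n) (mu aK)) (comp (hMat n) (mu aK)))) = true := by
      simp only [isId, List.all_eq_true, List.mem_range, beq_iff_eq]
      intro i hi
      obtain ⟨y, hy⟩ := hsurj _ (hpow2 i hi)
      simp only [app_comp]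
      rw [← hy, ← hA, ← hM, ← hA, ← hM, ← hA, ← hM, ← D.mv_mul hH D.aH, ← D.mv_mul hH D.aH, ← D.mv_mul hH D.aH,
        ← D.mv_mul (mul_mem hH D.aH) (mul_mem hH D.aH),
        ← D.mv_mul (mul_mem (mul_mem hH D.aH) (mul_mem hH D.aH)) (mul_mem hH D.aH),
        show hK * aK * (hK * aK) * (hK * aK) = 1 by decide +kernel, D.mv_one]
    have hfin := h_candidates ⟨n, hnlt⟩ r2 r3
    exact ⟨hH, fun y => code_injective (by rw [hM, hfin, code_act])⟩
  have hLS : L ≤ S := L_le_of_gens S hSx hSa hSb hSg hSh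
  -- every element is a model element up to a central factor
  have hall : ∀ e ∈ D.H, ∃ e' : K, ∀ y, ψ (D.mv e y) = act e' (ψ y) := by
    intro e he
    haveI : L.Normal := by
      unfold L
      exact Subgroup.prod_normal _ _
    let U : (ι → ZMod 2) → V := fun y => act e⁻¹ (ψ (D.mv e y))
    have hUadd : ∀ u v, U (u + v) = U u + U v := fun u v => by
      simp only [U, D.mv_add he, hψadd, act_add]
    have hUl : ∀ l ∈ L, ∀ y, U (D.mv l y) = act l (U y) := by
      intro l hl y
      have hc : e * l * e⁻¹ ∈ L := Subgroup.Normal.conj_mem inferInstance l hl e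
      show act e⁻¹ (ψ (D.mv e (D.mv l y))) = act l (act e⁻¹ (ψ (D.mv e y)))
      rw [← D.mv_mul he (D.L_le hl), show e * l = e * l * e⁻¹ * e by group,
        D.mv_mul (D.L_le hc) he, (hLS hc).2, ← act_mul, ← act_mul]
      congr 1
      group
    have hU0 : U w ≠ 0 := by
      intro h0
      have h0' : act e (U w) = 0 := by
        rw [h0]
        have e0 := act_add e 0 0
        rw [add_zero] at e0
        exact left_eq_add.1 e0
      simp only [U] at h0'
      rw [← act_mul, mul_inv_cancel, act_one, ← hψ0] at h0'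
      exact hw (D.mv_injective he ((hψb.1 h0').trans (D.mv_zero he).symm))
    have h1 := hUl aK aK_mem w
    rw [show D.mv aK w = D.X w by rw [h.2.1]; simp [X], show D.X w = D.mv xK w from rfl, hUl xK xK_mem] at h1
    have h2 := hUl bK bK_mem w
    rw [show D.mv bK w = w by rw [h.2.2]; simp [D.mv_one]] at h2
    have hcases := xeig ⟨code (U w), code_lt _⟩
      (((code_act aK (U w)).symm.trans (congrArg code h1).symm).trans (code_act xK (U w)))
      ((code_act bK (U w)).symm.trans (congrArg code h2).symm)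
    rcases hcases with h0 | ⟨s, hs⟩
    · exact absurd (code_injective (h0.trans code_zero.symm)) hU0
    · refine ⟨e * xK ^ s.val, hspan _ (fun y => act (e * xK ^ s.val) (ψ y))
        (fun u v => by rw [D.mv_add he, hψadd]) (fun u v => by rw [hψadd, act_add]) ?_⟩
      have hw0 : U w = act (xK ^ s.val) (ψ w) := code_injective (by
        rw [code_act (xK ^ s.val) (ψ w), show ψ w = vec 19 from (hfr 0).1, code_vec (by norm_num)]; exact hs)
      have hg : ∀ y, U y = act (xK ^ s.val) (ψ y) → U (D.mv gK y) = act (xK ^ s.val) (ψ (D.mv gK y)) := by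
        intro y hy
        rw [hUl gK gK_mem, hy, hSg.2, ← act_mul, ← act_mul, show gK * xK ^ s.val = xK ^ s.val * gK from
          (x_pow_comm _ _).symm]
      have hxU : ∀ y, U y = act (xK ^ s.val) (ψ y) → U (D.X y) = act (xK ^ s.val) (ψ (D.X y)) := by
        intro y hy
        show U (D.mv xK y) = act (xK ^ s.val) (ψ (D.mv xK y))
        rw [hUl xK xK_mem, hy, hSx.2, ← act_mul, ← act_mul, (Commute.self_pow xK _).eq]
      have hUm : ∀ m, U (D.frame w m) = act (xK ^ s.val) (ψ (D.frame w m)) := by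
        intro m
        fin_cases m
        exacts [hw0, hg _ hw0, hg _ (hg _ hw0), hg _ (hg _ (hg _ hw0))]
      have conv' : ∀ y, U y = act (xK ^ s.val) (ψ y) → ψ (D.mv e y) = act (e * xK ^ s.val) (ψ y) := by
        intro y hy
        rw [act_mul, ← hy, ← act_mul, mul_inv_cancel, act_one]
      exact fun m => ⟨conv' _ (hUm m), conv' _ (hxU _ (hUm m))⟩
  choose φ hφ using hall
  have hφ_unique : ∀ (e : K) (he : e ∈ D.H) (e' : K), (∀ y, ψ (D.mv e y) = act e' (ψ y)) → φ e he = e' := by
    intro e he e' h'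
    have : e'⁻¹ * φ e he = 1 := act_faithful fun v => by
      obtain ⟨y, rfl⟩ := hψb.2 v
      rw [act_mul, ← hφ e he, h', ← act_mul, inv_mul_cancel, act_one]
    exact (inv_mul_eq_one.1 this).symm
  have hφL : ∀ e (he : e ∈ L), φ e (D.L_le he) = e := fun e he => hφ_unique _ _ _ (hLS he).2
  let φh : D.H →* K := MonoidHom.mk' (fun e => φ e e.2) fun e f => hφ_unique _ _ _ fun y => by
    rw [Subgroup.coe_mul, D.mv_mul e.2 f.2, hφ _ e.2, hφ _ f.2, act_mul]
  have hφinj : Function.Injective φh := by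
    refine (injective_iff_map_eq_one _).2 fun e he => Subtype.ext (D.mv_faithful _ e.2 fun v => hψb.1 ?_)
    rw [hφ _ e.2, show φ (e : K) e.2 = 1 from he, act_one]
  -- the new data
  let ψl : (ι → ZMod 2) ≃ₗ[ZMod 2] V := LinearEquiv.ofBijective
    { toFun := ψ, map_add' := hψadd, map_smul' := hψsmul } hψb
  have hψl : ∀ y, ψl y = ψ y := fun y => rfl
  let qf' : V → ZMod 2 := fun v => D.qf (ψl.symm v)
  let B' : LinearMap.BilinForm (ZMod 2) V := LinearMap.compl₁₂ D.B ψl.symm.toLinearMap ψl.symm.toLinearMap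
  have hB' : ∀ u v, B' u v = D.B (ψl.symm u) (ψl.symm v) := fun u v => rfl
  have hsp : Space qf' B' := ⟨fun r v => by
      show D.qf (ψl.symm (r • v)) = r ^ 2 * D.qf (ψl.symm v)
      rw [map_smul, D.space.smul],
    fun u v => by
      rw [QuadraticMap.polar, hB', ← D.space.polar, QuadraticMap.polar]
      show D.qf (ψl.symm (u + v)) - D.qf (ψl.symm u) - D.qf (ψl.symm v) = _
      rw [map_add],
    fun v hv => ψl.symm.injective (by
      rw [map_zero]
      refine D.space.nondeg _ fun u => ?_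
      have := hv (ψl u)
      rwa [hB', LinearEquiv.symm_apply_apply] at this)⟩
  let pi' : G → K := fun c => if hc : Commute c D.z then φ (D.pi c) (D.pi_mem c hc) else 1
  have hpi' : ∀ {c} (hc : Commute c D.z), pi' c = φh ⟨D.pi c, D.pi_mem c hc⟩ := fun hc => dif_pos hc
  refine ⟨
    { z := D.z, Q := D.Q, qf := qf', B := B', cls := fun a => ψl (D.cls a), pi := pi', H := φh.range, mv := act
      ctx := D.ctx, space := hsp, card := rfl
      L_le := fun e he => ⟨⟨e, D.L_le he⟩, hφL e he⟩
      cls_mul := fun a ha b hb => by rw [D.cls_mul a ha b hb, map_add]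
      cls_surj := fun v => by
        obtain ⟨a, ha, e⟩ := D.cls_surj (ψl.symm v)
        exact ⟨a, ha, by rw [e, LinearEquiv.apply_symm_apply]⟩
      cls_ker := fun a ha => by rw [LinearEquiv.map_eq_zero_iff]; exact D.cls_ker a ha
      cls_sq := fun a ha => by
        show _ ↔ D.qf (ψl.symm (ψl (D.cls a))) = 0
        rw [LinearEquiv.symm_apply_apply]; exact D.cls_sq a ha
      cls_comm := fun a ha b hb => by
        rw [hB', LinearEquiv.symm_apply_apply, LinearEquiv.symm_apply_apply]; exact D.cls_comm a ha b hb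
      pi_mul := fun c d hc hd => by
        rw [hpi' (hc.mul_left hd), hpi' hc, hpi' hd, ← map_mul]
        exact congrArg φh (Subtype.ext (D.pi_mul c d hc hd))
      pi_mem := fun c hc => ⟨_, (hpi' hc).symm⟩
      pi_surj := by
        rintro _ ⟨⟨e, he⟩, rfl⟩
        obtain ⟨c, hc, rfl⟩ := D.pi_surj e he
        exact ⟨c, hc, hpi' hc⟩
      pi_ker := fun c hc => by
        rw [hpi' hc, map_eq_one_iff φh hφinj, ← D.pi_ker c hc]
        exact Subtype.ext_iff
      cls_conj := fun c hc a ha => by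
        rw [D.cls_conj c hc a ha, hpi' hc]
        exact hφ _ _ _
      mv_faithful := fun e _ he => act_faithful he }, ⟨fun e _ v => rfl, fun v => ?_⟩, rfl, rfl⟩
  -- the form
  obtain ⟨c, rfl⟩ := mCoord_bijective.2 v
  show D.qf (ψl.symm (mCoord c)) = _
  rw [show ψl.symm (mCoord c) = D.coord w c by rw [← hψc, ← hψl, LinearEquiv.symm_apply_apply], mCoord_code, mForm]
  have hne : ∀ m, D.frame w m ≠ 0 := by
    intro m hm
    have hval := (hfr m).1
    rw [hm, hψ0] at hval
    have := congrArg code hval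
    rw [code_zero, code_vec (mFrame_facts m).2.2.2.2] at this
    exact absurd this (by fin_cases m <;> decide)
  have horth : ∀ m n, m ≠ n → D.B (D.frame w m) (D.frame w n) = 0 ∧ D.B (D.frame w m) (D.X (D.frame w n)) = 0 := by
    intro m n hmn
    have hcn : chr 1 0 m ≠ chr 1 0 n := fun e => hmn (chr_injective 1 0 (by decide) e)
    have hX : ∀ {e : K}, e ∈ D.H → xK * e = e * xK → ∀ {β : Fin 3},
        D.mv e (D.frame w n) = D.mv (xK ^ β.val) (D.frame w n) →
        D.mv e (D.X (D.frame w n)) = D.mv (xK ^ β.val) (D.X (D.frame w n)) := by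
      intro e he hc β hb
      rw [← D.X_comm he hc, hb, D.X_comm (D.xpow_mem _) (Commute.self_pow xK _).eq]
    by_cases h1 : (chr 1 0 m).1 = (chr 1 0 n).1
    · have h2 : (chr 1 0 m).2 ≠ (chr 1 0 n).2 := fun e => hcn (Prod.ext h1 e)
      exact ⟨D.eig_orth D.bH (x_comm_one _) (hmov _) h2 (D.eig_frame h m).2.2 (D.eig_frame h n).2.2,
        D.eig_orth D.bH (x_comm_one _) (hmov _) h2 (D.eig_frame h m).2.2
          (hX D.bH (x_comm_one _) (D.eig_frame h n).2.2)⟩
    · exact ⟨D.eig_orth D.aH (x_comm_one _) (hmov _) h1 (D.eig_frame h m).2.1 (D.eig_frame h n).2.1,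
        D.eig_orth D.aH (x_comm_one _) (hmov _) h1 (D.eig_frame h m).2.1
          (hX D.aH (x_comm_one _) (D.eig_frame h n).2.1)⟩
  set t : Fin 4 → ι → ZMod 2 := fun m => (c m).1 • D.frame w m + (c m).2 • D.X (D.frame w m) with ht
  have horth' : ∀ m n, m ≠ n → D.B (t m) (t n) = 0 := by
    intro m n hmn
    obtain ⟨o1, o2⟩ := horth m n hmn
    obtain ⟨o1', o2'⟩ := horth n m hmn.symm
    have o3 : D.B (D.X (D.frame w m)) (D.frame w n) = 0 := by rw [D.space.symm]; exact o2'
    have o4 : D.B (D.X (D.frame w m)) (D.X (D.frame w n)) = 0 := by rw [D.X_B]; exact o1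
    simp only [ht, map_add, LinearMap.add_apply, map_smul, LinearMap.smul_apply, o1, o2, o3, o4, smul_zero,
      add_zero]
  have hB1 : ∀ m, D.B (D.frame w m) (D.X (D.frame w m)) = D.qf (D.frame w m) := by
    intro m
    have e := D.space.add (D.frame w m) (D.X (D.frame w m))
    rw [← hXX, D.X_qf, D.X_qf, bit_self, zero_add] at e
    exact e.symm
  have hq1 : ∀ m, D.qf (D.frame w m) = 1 := by
    intro m
    refine (bit _).resolve_left fun h0 => hne m (D.space.nondeg' fun u => ?_)
    obtain ⟨d, rfl⟩ := hbij.2 u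
    rw [coord, map_sum]
    refine Finset.sum_eq_zero fun n _ => ?_
    rw [map_add, map_smul, map_smul]
    by_cases hmn : m = n
    · subst hmn
      rw [Cfsg.Lib.Extra.Wide.B_self D.space, hB1, h0, smul_zero, smul_zero, add_zero]
    · rw [(horth m n hmn).1, (horth m n hmn).2, smul_zero, smul_zero, add_zero]
  have hterm : ∀ m, D.qf (t m) = if c m = 0 then 0 else 1 := by
    intro m
    have q3 : D.qf (D.frame w m + D.X (D.frame w m)) = 1 := by rw [← hXX, D.X_qf, D.X_qf, hq1]
    simp only [ht]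
    rcases bit (c m).1 with e1 | e1 <;> rcases bit (c m).2 with e2 | e2 <;>
      simp [e1, e2, Prod.ext_iff, D.space.zero, hq1, D.X_qf, q3]
  have hsum : D.qf (D.coord w c) = ∑ m, D.qf (t m) := by
    show D.qf (∑ m, t m) = _
    rw [Fin.sum_univ_four, Fin.sum_univ_four, D.space.add, D.space.add, D.space.add]
    simp only [map_add, LinearMap.add_apply, horth' 0 1 (by decide), horth' 0 2 (by decide), horth' 1 2 (by decide),
      horth' 0 3 (by decide), horth' 1 3 (by decide), horth' 2 3 (by decide), add_zero]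
  rw [hsum, Finset.sum_congr rfl fun m _ => hterm m]
  rcases bit (∑ m, if c m = 0 then (0 : ZMod 2) else 1) with e | e <;> rw [e] <;> decide

/-- Standard coordinates. -/
theorem exists_isStd (hfix : D.fixX = ⊥) :
    ∃ D' : Data G (Fin 8), IsStd D' ∧ D'.z = D.z ∧ D'.Q = D.Q := by
  obtain ⟨D1, hz1, hQ1, w, hw, h⟩ := D.exists_std_eig hfix
  rw [← hz1, ← hQ1]
  exact D1.exists_isStd_of_eig hw h

end Data

end Cfsg.Lib.Extra.SymAltSix
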