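import Cfsg.Agent.Lib.Extra.SymAltSix.TauChecks

/-!
# The transvection of the plane on the standard coordinates
-/

set_option autoImplicit false
set_option maxRecDepth 20000

namespace Cfsg.Lib.Extra.SymAltSix.Sigma

open Equiv

/-- The involution of the plane fixing the first point. -/
def c0 : K := (swap 1 2, 1)

/-- A three-cycle fixing the first two of six points. -/
def p234 : K := (1, swap 2 3 * swap 3 4)

/-- Elements of order dividing three moving the first pair to five pairs. -/
def turn : Fin 5 → Perm (Fin 6) :=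
  ![1, swap 0 1 * swap 1 2, swap 0 1 * swap 1 2 * (swap 0 1 * swap 1 2),
    swap 0 2 * swap 2 4 * (swap 1 3 * swap 3 5),
    swap 0 2 * swap 2 4 * (swap 1 3 * swap 3 5) * (swap 0 2 * swap 2 4 * (swap 1 3 * swap 3 5))]

theorem c0_mem : c0 ∈ aSig := by decide +kernel

theorem c0_ne : c0 ≠ 1 := by decide +kernel

theorem p234_mem : p234 ∈ L ∧ app (mu p234) 1 = 1 := by
  refine ⟨?_, by decide +kernel⟩
  exact Subgroup.mem_prod.2 ⟨one_mem _, Perm.mem_alternatingGroup.2 (by decide)⟩

theorem turn_facts : ∀ t : Fin 5, Perm.sign (turn t) = 1 ∧ turn t * turn t * turn t = 1 ∧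
    app (mu (1, turn t)) 1 = t.val + 1 ∧ app (mu (1, turn t)) 16 = 16 * (t.val + 1) := by decide +kernel

theorem c0_sixteen : app (mu c0) 16 = 17 := by decide +kernel

theorem c0_high : ∀ s : Fin 16, app (mu c0) (16 * s.val) ^^^ 16 * s.val = s.val := by decide +kernel

theorem c0_fixed : ∀ n : Fin 256, app (mu c0) n.val = n.val → n.val < 16 := by decide +kernel

/-- A singular vector orthogonal to the standard one, moved into the intersection by the three-cycle and outside
it, lies in the fixed space of the transvection. -/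
theorem moved_class : ∀ n : Fin 256, q8 n.val = false → b8 1 n.val = false →
    inE0 (app (mu p234) n.val ^^^ n.val) = true → inE0 n.val = false → 0 < n.val ∧ n.val < 16 := by
  decide +kernel

theorem app_one_code (e : K) : app (mu e) 1 = ten (e.1 0) (img e.2 0) := by
  have hw : app (muW e.2) 1 = img e.2 0 := by simp [app, muW, Nat.testBit, Nat.shiftRight_eq_div_pow]
  rw [mu, app_comp, hw, (muU_low e.1 ⟨_, img_lt e.2 0⟩).1]

theorem stab_fst : ∀ (s : Perm (Fin 3)) (w : Fin 16), ten (s 0) w.val = 1 → s * swap 1 2 = swap 1 2 * s := by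
  decide +kernel

/-- The stabilizer of the standard pure tensor centralizes the transvection. -/
theorem stab_comm {e : K} (h : app (mu e) 1 = 1) : e * c0 = c0 * e :=
  Prod.ext (stab_fst e.1 ⟨_, img_lt e.2 0⟩ (by rw [← app_one_code, h]))
    (show e.2 * 1 = 1 * e.2 by rw [mul_one, one_mul])

end Cfsg.Lib.Extra.SymAltSix.Sigma
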