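import Cfsg.Agent.Lib.Extra.SymAltSix.Tau
import Cfsg.Agent.Lib.Extra.SymAltSix.SigmaChecks

/-!
# The first kind of cross image does not occur

An involution `r` over the transvection of the plane would be conjugate to the central involution. Its
extraspecial subgroup splits the classes fixed by the transvection, against the quadratic behaviour of the
commutators with `r`.
-/

set_option autoImplicit false
set_option linter.style.haveILetI false

namespace Cfsg.Lib.Extra.SymAltSix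

open Equiv Cfsg.Lib.Extra Cfsg.Lib.Linear.Orth
open Cfsg.Lib.Extra.Wide (bit vadd_self vadd_eq_zero)

variable {G : Type*} [Group G] {D : Data G (Fin 8)}

theorem Sigma.B_eq (hS : IsStd D) (u v : V) : D.B u v = if b8 (code u) (code v) then 1 else 0 := by
  have h := D.space.add u v
  rw [hS.form, hS.form, hS.form, code_add] at h
  rw [b8]
  revert h
  generalize D.B u v = x
  cases q8 (code u ^^^ code v) <;> cases q8 (code u) <;> cases q8 (code v) <;> revert x <;> decide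

/-- Every element with the class of a pure tensor is a second conjugate. -/
theorem Sigma.exists_conj (hS : IsStd D) {k : G} (hk : D.Fused k) (hp : D.cls (D.dd k) = p0) {a : G} (ha : a ∈ D.Q)
    {e : K} (he : e ∈ L) (hv : D.cls a = act e p0) : ∃ j, D.Fused j ∧ D.dd j = a := by
  obtain ⟨c, hc, hce⟩ := D.pi_surj e (D.L_le he)
  have hj := Tau.fused_mul hc hk
  have hcls : D.cls (D.dd (c * k)) = D.cls a := by
    rw [Tau.cls_mul_left hc hk, hce, hp, hS.mv_act _ (D.L_le he), hv]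
  rcases D.cls_eq hj.mem ha hcls with h | h
  · exact ⟨c * k, hj, h.symm⟩
  · obtain ⟨y, hy, hyd⟩ := D.ctx.exists_move hj.mem hj.d_ne_one hj.ne
    refine ⟨y * (c * k), Tau.fused_mul (D.cz hy) hj, ?_⟩
    rw [h, ← hyd]
    simp only [Data.dd]; group

/-- A second conjugate at the standard tensor whose inverse is also at the standard tensor. -/
theorem Sigma.exists_pair [Finite G] (hS : IsStd D) {A : List K} (hT : CrossType D A) (hex : ∃ k, D.Fused k) :
    ∃ k, D.Fused k ∧ D.cls (D.dd k) = p0 ∧ D.cls (D.dd k⁻¹) = p0 := by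
  obtain ⟨k₁, hk₁⟩ := hex
  obtain ⟨e, he, hv⟩ := hT.pure k₁ hk₁
  obtain ⟨c, -, -, hk, hp⟩ := Tau.exists_std hS hk₁ he hv
  generalize c⁻¹ * k₁ = k at hk hp
  obtain ⟨e', he', hv'⟩ := hT.pure k⁻¹ hk.symm
  obtain ⟨m, hm, -, hk', hp'⟩ := Tau.exists_std hS hk.symm he' hv'
  have hdd : D.dd (k * m) = D.dd k := by
    calc D.dd (k * m) = k * (m * D.z * m⁻¹) * k⁻¹ := by simp only [Data.dd]; group
      _ = D.dd k := by rw [hm.eq, mul_inv_cancel_right]; rfl
  have hinv : (k * m)⁻¹ = m⁻¹ * k⁻¹ := mul_inv_rev k m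
  refine ⟨k * m, ⟨hdd ▸ hk.mem, hdd ▸ hk.ne⟩, hdd ▸ hp, ?_⟩
  rw [hinv]; exact hp'

/-- The first kind of cross image does not occur. -/
theorem sigma_absurd [Finite G] (hS : IsStd D) (hT : CrossType D aSig) (hex : ∃ k, D.Fused k) : False := by
  obtain ⟨k, hk, hp, hpi⟩ := Sigma.exists_pair hS hT hex
  have hdQ := hk.mem
  have hdd : D.dd k * D.dd k = 1 := (D.ctxR k).sq_z
  -- an involution over the transvection
  obtain ⟨r, hr, hrz, hrp, hrr⟩ : ∃ r ∈ D.R k, Commute r D.z ∧ D.pi r = Sigma.c0 ∧ r * r = 1 := by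
    obtain ⟨r, hr, hrz, hrp⟩ := (hT.cross k hk hp _).2 Sigma.c0_mem
    rcases (D.ctxR k).sq r hr with h | h
    · exact ⟨r, hr, hrz, hrp, h⟩
    · obtain ⟨a, ha, hav⟩ := (hT.inter k hk hp (vec 16)).2
        (by rw [code_vec (by norm_num)]; decide)
      have haE : a ∈ D.E k := ha.1
      refine ⟨r * a, mul_mem hr haE.2, hrz.mul_left (D.cz ha.2), ?_, ?_⟩
      · rw [D.pi_mul r a hrz (D.cz ha.2), D.pi_Q ha.2, mul_one, hrp]
      · rcases (D.ctxR k).comm r hr a haE.2 with hc | hc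
        · exfalso
          have h1 := congrArg D.cls hc
          rw [D.cls_one, D.cls_mul _ (D.conj_memQ hrz ha.2) _ (inv_mem ha.2), D.cls_inv ha.2,
            D.cls_conj r hrz a ha.2, hrp, hS.mv_act _ (hrp ▸ D.pi_mem r hrz), hav] at h1
          have h2 := congrArg code h1
          rw [code_add, code_act, code_vec (by norm_num), Sigma.c0_sixteen, code_zero] at h2
          exact absurd h2 (by decide)
        · have h1 : r * a * r⁻¹ = D.dd k * a := mul_inv_eq_iff_eq_mul.1 hc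
          have h2 : Commute (D.dd k) a := (D.ctxR k).central a haE.2
          calc r * a * (r * a) = r * a * r⁻¹ * (r * r) * a := by group
            _ = D.dd k * (a * D.dd k) * a := by rw [h1, h]; group
            _ = D.dd k * D.dd k * (a * a) := by rw [← h2.eq]; group
            _ = 1 := by rw [hdd, hk.E_sq haE, one_mul]
  have hc0H : Sigma.c0 ∈ D.H := hrp ▸ D.pi_mem r hrz
  have hrQ : r ∉ D.Q := fun h => Sigma.c0_ne (by rw [← hrp, D.pi_Q h])
  -- the involution is conjugate to the central one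
  obtain ⟨l, hlr, hld⟩ : ∃ l, D.dd l = r ∧ D.dd k ∈ D.R l := by
    set r' := k⁻¹ * r * k with hr'
    have hr'Q : r' ∈ D.Q := D.mem_R.1 hr
    have hp234 := Sigma.p234_mem
    have hfix : D.mv Sigma.p234 (D.cls (D.dd k⁻¹)) = D.cls (D.dd k⁻¹) := by
      rw [hpi, hS.mv_act _ (D.L_le hp234.1)]
      exact code_injective (by rw [code_act, code_p0, hp234.2])
    obtain ⟨m, hm, hmd, hmp⟩ := hk.symm.exists_lift (D.L_le hp234.1) hfix
    set j := k * m * k⁻¹ with hj
    have hjz : Commute j D.z := by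
      have h := hmd.map (MulAut.conj k).toMonoidHom
      simpa [Data.dd, hj, mul_assoc] using h
    have hjd : Commute j (D.dd k) := hm.map (MulAut.conj k).toMonoidHom
    have hjc : D.pi j * Sigma.c0 = Sigma.c0 * D.pi j := by
      refine Sigma.stab_comm ?_
      have h := congrArg D.cls (mul_inv_eq_iff_eq_mul.2 hjd.eq)
      rw [D.cls_conj j hjz _ hdQ, hp, hS.mv_act _ (D.pi_mem j hjz)] at h
      have h' := congrArg code h
      rwa [code_act, code_p0] at h'
    have hqz : Commute (j * r * j⁻¹) D.z := (hjz.mul_left hrz).mul_left hjz.inv_left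
    have hqQ : j * r * j⁻¹ * r⁻¹ ∈ D.Q := by
      rw [← D.pi_ker _ (hqz.mul_left hrz.inv_left), D.pi_mul _ _ hqz hrz.inv_left, D.pi_conj hjz hrz,
        D.pi_inv hrz, hrp, hjc, mul_inv_cancel_right, mul_inv_cancel]
    have hqR : j * r * j⁻¹ * r⁻¹ ∈ D.R k := mul_mem (Data.conj_R hjd hr) (inv_mem hr)
    have hw : m * r' * m⁻¹ * r'⁻¹ = k⁻¹ * (j * r * j⁻¹ * r⁻¹) * k := by rw [hr', hj]; group
    have hwE : m * r' * m⁻¹ * r'⁻¹ ∈ D.E k⁻¹ := by
      rw [hw]
      refine ⟨D.mem_R.1 hqR, D.mem_R.2 ?_⟩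
      rw [inv_inv]; simpa [mul_assoc] using hqQ
    have hwi := (hT.inter k⁻¹ hk.symm hpi _).1
      ((D.mem_img_iff hk.symm.z_mem_E (mul_mem (D.conj_memQ hm hr'Q) (inv_mem hr'Q))).2 hwE)
    rw [D.cls_mul _ (D.conj_memQ hm hr'Q) _ (inv_mem hr'Q), D.cls_inv hr'Q, D.cls_conj m hm _ hr'Q, hmp,
      hS.mv_act _ (D.L_le hp234.1), code_add, code_act] at hwi
    have hq : q8 (code (D.cls r')) = false := by
      have h := (D.cls_sq r' hr'Q).1 (by
        calc r' * r' = k⁻¹ * (r * r) * k := by rw [hr']; group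
          _ = 1 := by rw [hrr]; group)
      rw [hS.form] at h
      simpa using h
    have hb : b8 1 (code (D.cls r')) = false := by
      have hc : Commute (D.dd k⁻¹) r' := by
        have h := hrz.symm.map (MulAut.conj k⁻¹).toMonoidHom
        simpa [Data.dd, hr', mul_assoc] using h
      have h := (D.cls_comm _ hk.symm.mem r' hr'Q).1 hc
      rw [hpi, Sigma.B_eq hS, code_p0] at h
      simpa using h
    have hout : inE0 (code (D.cls r')) = false := by
      by_contra h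
      have hE := hk.symm.mem_E hr'Q ((hT.inter k⁻¹ hk.symm hpi _).2 (by simpa using h))
      have h' := D.mem_R.1 hE.2
      rw [hr', inv_inv] at h'
      exact hrQ (by simpa [mul_assoc] using h')
    obtain ⟨hpos, hlt⟩ := Sigma.moved_class ⟨_, code_lt _⟩ hq hb hwi hout
    set i : Tau.Pt := (0, ⟨code (D.cls r') - 1, by simp only at hlt hpos ⊢; omega⟩) with hi
    obtain ⟨j', hj', hjr⟩ := Sigma.exists_conj hS hk hp hr'Q (mem_L.2 (Tau.rep_mem i)) (code_injective (by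
      rw [code_act, code_p0, Tau.rep_code, hi, Tau.pcode]
      simp only at hlt hpos
      simp [ten]
      omega))
    refine ⟨k * j', ?_, D.mem_R.2 ?_⟩
    · calc D.dd (k * j') = k * D.dd j' * k⁻¹ := by simp only [Data.dd]; group
        _ = r := by rw [hjr, hr']; group
    · have h := hj'.symm.mem
      rw [Data.dd, inv_inv] at h
      rwa [Data.dd, show (k * j')⁻¹ * (k * D.z * k⁻¹) * (k * j') = j'⁻¹ * D.z * j' by group]
  have hzS : D.z ∉ D.R l := fun h => by
    have hg : l⁻¹ * D.dd l * l⁻¹⁻¹ ∈ D.R l := by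
      rwa [show l⁻¹ * D.dd l * l⁻¹⁻¹ = D.z by simp only [Data.dd]; group]
    have h' := D.mem_R.1 (Wide.mem_map_conj.1 ((D.ctxR l).mem_symm hg))
    rw [inv_inv, hlr] at h'
    exact hrQ (by simpa [mul_assoc] using h')
  -- the commutators with the involution
  have comQ : ∀ y ∈ D.Q, y * r * y⁻¹ * r⁻¹ ∈ D.Q := fun y hy => by
    rw [show y * r * y⁻¹ * r⁻¹ = y * (r * y⁻¹ * r⁻¹) by group]
    exact mul_mem hy (D.conj_memQ hrz (inv_mem hy))
  have comC : ∀ y ∈ D.Q, ∀ s : Fin 16, code (D.cls y) = 16 * s.val →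
      code (D.cls (y * r * y⁻¹ * r⁻¹)) = s.val := fun y hy s hs => by
    rw [show y * r * y⁻¹ * r⁻¹ = y * (r * y⁻¹ * r⁻¹) by group, D.cls_mul _ hy _ (D.conj_memQ hrz (inv_mem hy)),
      D.cls_conj r hrz _ (inv_mem hy), D.cls_inv hy, hrp, hS.mv_act _ hc0H, code_add, code_act, hs, Nat.xor_comm]
    exact Sigma.c0_high s
  have comI : ∀ a ∈ D.Q, ∀ b ∈ D.Q, D.cls a = D.cls b → a * r * a⁻¹ * r⁻¹ = b * r * b⁻¹ * r⁻¹ := by
    intro a ha b hb h
    rcases D.cls_eq ha hb h with rfl | rfl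
    · rfl
    · calc a * r * a⁻¹ * r⁻¹ = a * r * a⁻¹ * (D.z * D.z⁻¹) * r⁻¹ := by group
        _ = D.z * (a * r * a⁻¹) * D.z⁻¹ * r⁻¹ := by
          rw [show D.z * (a * r * a⁻¹) = a * r * a⁻¹ * D.z from
            (((D.cz ha).mul_left hrz).mul_left (D.cz ha).inv_left).eq.symm]
          group
        _ = D.z * a * r * (D.z * a)⁻¹ * r⁻¹ := by group
  -- lifts centralizing the involution
  have turns : ∀ t : Fin 5, ∃ m, Commute m D.z ∧ Commute m r ∧ D.pi m = (1, Sigma.turn t) := by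
    intro t
    obtain ⟨hsgn, h3, -, -⟩ := Sigma.turn_facts t
    obtain ⟨m, hm, hmp⟩ := D.pi_surj _ (D.L_le (one_mem_L hsgn))
    have hmz : Commute (m * r * m⁻¹) D.z := (hm.mul_left hrz).mul_left hm.inv_left
    have hqQ : m * r * m⁻¹ * r⁻¹ ∈ D.Q := by
      rw [← D.pi_ker _ (hmz.mul_left hrz.inv_left), D.pi_mul _ _ hmz hrz.inv_left, D.pi_conj hm hrz,
        D.pi_inv hrz, hrp, hmp]
      simp [Sigma.c0, Prod.ext_iff]
    set q := m * r * m⁻¹ * r⁻¹ with hq
    have hri : r⁻¹ = r := inv_eq_of_mul_eq_one_right hrr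
    have hcq : r * q * r⁻¹ = q⁻¹ := by
      refine eq_inv_of_mul_eq_one_right ?_
      calc q * (r * q * r⁻¹) = (m * r * m⁻¹) * (m * r * m⁻¹) * (r⁻¹ * r⁻¹) := by
            rw [hq]; group
        _ = 1 := by rw [hri, hrr, mul_one, show m * r * m⁻¹ * (m * r * m⁻¹) = m * (r * r) * m⁻¹ by group, hrr]; group
    have hlow : code (D.cls q) < 16 := by
      refine Sigma.c0_fixed ⟨_, code_lt _⟩ ?_
      show app (mu Sigma.c0) (code (D.cls q)) = code (D.cls q)
      rw [← code_act, ← hS.mv_act _ hc0H, ← hrp, ← D.cls_conj r hrz q hqQ, hcq, D.cls_inv hqQ]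
    obtain ⟨y, hy, hyv⟩ := D.cls_surj (vec (16 * code (D.cls q)))
    have hyc := comC y hy ⟨_, hlow⟩ (by rw [hyv, code_vec (by omega)])
    have hm' : Commute (y⁻¹ * m) D.z := (D.cz hy).inv_left.mul_left hm
    have hsq : Commute (y⁻¹ * m * (y⁻¹ * m)) r := by
      set n := y⁻¹ * m with hn
      refine mul_inv_eq_iff_eq_mul.1 ?_
      rw [show n * n * r * (n * n)⁻¹ = n * (n * r * n⁻¹) * n⁻¹ by group]
      rcases D.cls_eq (comQ y hy) hqQ (code_injective hyc) with h | h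
      · have : n * r * n⁻¹ = r := by
          calc n * r * n⁻¹ = y⁻¹ * (q * r) * y := by rw [hn, hq]; group
            _ = r := by rw [h]; group
        rw [this, this]
      · have : n * r * n⁻¹ = D.z * r := by
          calc n * r * n⁻¹ = y⁻¹ * (q * r) * y := by rw [hn, hq]; group
            _ = y⁻¹ * D.z * y * r := by rw [h]; group
            _ = D.z * r := by rw [(D.cz hy).inv_left.eq, inv_mul_cancel_right]
        rw [this, show n * (D.z * r) * n⁻¹ = n * D.z * n⁻¹ * (n * r * n⁻¹) by group, this, hm'.eq,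
          mul_inv_cancel_right, ← mul_assoc, D.ctx.sq_z, one_mul]
    refine ⟨y⁻¹ * m * (y⁻¹ * m) * (y⁻¹ * m * (y⁻¹ * m)), (hm'.mul_left hm').mul_left (hm'.mul_left hm'),
      hsq.mul_left hsq, ?_⟩
    rw [D.pi_mul _ _ (hm'.mul_left hm') (hm'.mul_left hm'), D.pi_mul _ _ hm' hm',
      D.pi_mul _ _ (D.cz hy).inv_left hm, D.pi_Q (inv_mem hy), one_mul, hmp]
    refine Prod.ext (by simp) ?_
    show Sigma.turn t * Sigma.turn t * (Sigma.turn t * Sigma.turn t) = Sigma.turn t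
    rw [← mul_assoc, h3, one_mul]
  obtain ⟨y₁, hy₁, hy₁v⟩ := D.cls_surj (vec 16)
  have data : ∀ t : Fin 5, ∃ u y, u ∈ D.Q ∧ u ∈ D.R l ∧ code (D.cls u) = t.val + 1 ∧ y ∈ D.Q ∧
      code (D.cls y) = 16 * (t.val + 1) ∧
      (y * r * y⁻¹ * r⁻¹ ∈ D.R l ↔ y₁ * r * y₁⁻¹ * r⁻¹ ∈ D.R l) := by
    intro t
    obtain ⟨m, hm, hmr, hmp⟩ := turns t
    obtain ⟨hsgn, -, h1, h16⟩ := Sigma.turn_facts t
    have hH := D.L_le (one_mem_L hsgn)
    have hml : Commute m (D.dd l) := hlr ▸ hmr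
    refine ⟨m * D.dd k * m⁻¹, m * y₁ * m⁻¹, D.conj_memQ hm hdQ, Data.conj_R hml hld, ?_,
      D.conj_memQ hm hy₁, ?_, ?_⟩
    · rw [D.cls_conj m hm _ hdQ, hmp, hp, hS.mv_act _ hH, code_act, code_p0, h1]
    · rw [D.cls_conj m hm _ hy₁, hmp, hy₁v, hS.mv_act _ hH, code_act, code_vec (by norm_num), h16]
    · have e : m * y₁ * m⁻¹ * r * (m * y₁ * m⁻¹)⁻¹ * r⁻¹ = m * (y₁ * r * y₁⁻¹ * r⁻¹) * m⁻¹ := by
        conv_rhs => rw [show m * (y₁ * r * y₁⁻¹ * r⁻¹) * m⁻¹ =
          m * y₁ * m⁻¹ * (m * r * m⁻¹) * (m * y₁ * m⁻¹)⁻¹ * (m * r * m⁻¹)⁻¹ by group,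
          mul_inv_eq_iff_eq_mul.2 hmr.eq]
      rw [e]
      exact (Subgroup.mem_normalizer_iff.1 ((D.ctxR l).norm m hml) _).symm
  choose u y hu huS huc hy hyc hyS using data
  -- the commutator of a product
  have add : ∀ a b c : Fin 5, a.val + 1 ^^^ (b.val + 1) = c.val + 1 →
      y c * r * (y c)⁻¹ * r⁻¹ = y a * (y b * r * (y b)⁻¹ * r⁻¹) * (y a)⁻¹ * (y a * r * (y a)⁻¹ * r⁻¹) := by
    intro a b c h
    rw [← comI _ (mul_mem (hy a) (hy b)) _ (hy c) (code_injective (by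
      rw [D.cls_mul _ (hy a) _ (hy b), code_add, hyc, hyc, hyc, ← h]
      simpa [Nat.shiftLeft_eq, mul_comm] using
        (Nat.shiftLeft_xor_distrib (a := a.val + 1) (b := b.val + 1) (i := 4)).symm))]
    group
  have sc : ∀ t : Fin 5, code (D.cls (y t * r * (y t)⁻¹ * r⁻¹)) = t.val + 1 := fun t =>
    comC _ (hy t) ⟨t.val + 1, by omega⟩ (hyc t)
  by_cases hin : y₁ * r * y₁⁻¹ * r⁻¹ ∈ D.R l
  · -- a pair of pairs with a common point
    refine hzS ?_
    have hB : D.B (D.cls (y 0)) (D.cls (y 1 * r * (y 1)⁻¹ * r⁻¹)) = 1 := by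
      rw [Sigma.B_eq hS, hyc, sc]; rfl
    have h := add 0 1 2 (by decide)
    rw [D.q_move (hy 0) (comQ _ (hy 1)) hB] at h
    have : D.z = y 2 * r * (y 2)⁻¹ * r⁻¹ * (y 0 * r * (y 0)⁻¹ * r⁻¹)⁻¹ * (y 1 * r * (y 1)⁻¹ * r⁻¹)⁻¹ := by
      rw [h]; group
    rw [this]
    exact mul_mem (mul_mem ((hyS 2).2 hin) (inv_mem ((hyS 0).2 hin))) (inv_mem ((hyS 1).2 hin))
  · -- a pair of disjoint pairs
    refine hin ((hyS 4).1 ?_)
    have hz : ∀ t, y t * r * (y t)⁻¹ * r⁻¹ = D.z * u t := fun t => by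
      rcases D.cls_eq (hu t) (comQ _ (hy t)) (code_injective (by rw [sc, huc])) with h | h
      · exact absurd ((hyS t).1 (h ▸ huS t)) hin
      · exact h
    have hcom : Commute (y 0) (y 3 * r * (y 3)⁻¹ * r⁻¹) := (D.cls_comm _ (hy 0) _ (comQ _ (hy 3))).2 (by
      rw [Sigma.B_eq hS, hyc, sc]; rfl)
    rw [add 0 3 4 (by decide), mul_inv_eq_iff_eq_mul.2 hcom.eq, hz, hz,
      show D.z * u 3 * (D.z * u 0) = D.z * (u 3 * D.z) * u 0 by group, (D.cz (hu 3)).eq, ← mul_assoc,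
      D.ctx.sq_z, one_mul]
    exact mul_mem (huS 3) (huS 0)

end Cfsg.Lib.Extra.SymAltSix
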