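import Cfsg.Agent.Lib.Extra.SymAltSix.CaseB
import Cfsg.Agent.Lib.Extra.SymAltSix.Recog
import Cfsg.Agent.Lib.Extra.SymAltSix.Classify
import Cfsg.Agent.Lib.Extra.SymAltSix.Sigma

/-!
# No second conjugate of the central involution in the extraspecial subgroup
-/

set_option autoImplicit false
set_option linter.style.haveILetI false

namespace Cfsg.Lib.Extra.SymAltSix

variable {G : Type*} [Group G] [Finite G] {ι : Type} [Fintype ι] [DecidableEq ι]

/-- With the quotient of the centralizer between `A₃ × A₆` and `S₃ × S₆`, no other conjugate of the central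
involution lies in the extraspecial subgroup. -/
theorem absurd_of_fused (D : Data G ι) (hex : ∃ k, D.Fused k) : False := by
  obtain ⟨k, hk⟩ := hex
  obtain ⟨D', hS, hz, hQ⟩ := D.exists_isStd (D.fixX_eq_bot_of_fused hk)
  have hex' : ∃ k, D'.Fused k := by
    refine ⟨k, ⟨?_, ?_⟩⟩
    · have h := hk.mem
      simp only [Data.dd] at h ⊢
      rwa [hz, hQ]
    · have h := hk.ne
      simp only [Data.dd] at h ⊢
      rwa [hz]
  rcases classify hS hex' with h | h
  · exact sigma_absurd hS h hex'
  · exact tau_absurd hS h hex'

end Cfsg.Lib.Extra.SymAltSix
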