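import Cfsg.Agent.Lib.Extra.SymAltSix.Eigen
import Cfsg.Agent.Lib.SymNine.OuterSix

/-!
# Relabelling the six points by an automorphism
-/

set_option autoImplicit false
set_option linter.style.haveILetI false

namespace Cfsg.Lib.Extra.SymAltSix

open Equiv Cfsg.Lib.SymNine

theorem rel_diag : SixP.Rel (SixP.a0 * SixP.b0) (SixP.a0 * SixP.a0 * SixP.b0)
    (SixP.t0 * (swap 1 2 * swap 4 5)) SixP.t0 (swap 1 2) := by
  constructor <;> decide +kernel

/-- An automorphism carrying the diagonal three-elements to three-cycles. -/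
theorem exists_theta : ∃ θ : Perm (Fin 6) ≃* Perm (Fin 6),
    θ.symm SixP.a0 = SixP.a0 * SixP.b0 ∧ θ.symm SixP.b0 = SixP.a0 * SixP.a0 * SixP.b0 ∧
      ∀ p, Perm.sign (θ p) = Perm.sign p := by
  obtain ⟨θ, h1, h2, -, -, -⟩ := SixP.exists_std rel_diag
  refine ⟨θ, θ.symm_apply_eq.2 h1.symm, θ.symm_apply_eq.2 h2.symm, fun p => ?_⟩
  have h : Perm.sign.comp θ.toMonoidHom = Perm.sign :=
    Perm.eq_sign_of_surjective_hom ((Perm.sign_surjective (Fin 6)).comp θ.surjective)
  exact DFunLike.congr_fun h p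

variable {G : Type*} [Group G] {ι : Type} [Fintype ι] [DecidableEq ι]

/-- The data with the six points relabelled. -/
def Data.relabel (D : Data G ι) (θ : Perm (Fin 6) ≃* Perm (Fin 6))
    (hθ : ∀ p, Perm.sign (θ p) = Perm.sign p) : Data G ι where
  z := D.z
  Q := D.Q
  qf := D.qf
  B := D.B
  cls := D.cls
  pi c := ((D.pi c).1, θ (D.pi c).2)
  H := D.H.map ((MulEquiv.refl _).prodCongr θ).toMonoidHom
  mv e := D.mv (e.1, θ.symm e.2)
  ctx := D.ctx
  space := D.space
  card := D.card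
  L_le := fun e he => ⟨(e.1, θ.symm e.2), D.L_le (mem_L.2 ⟨(mem_L.1 he).1, by
    rw [← hθ, θ.apply_symm_apply]; exact (mem_L.1 he).2⟩), Prod.ext rfl (θ.apply_symm_apply _)⟩
  cls_mul := D.cls_mul
  cls_surj := D.cls_surj
  cls_ker := D.cls_ker
  cls_sq := D.cls_sq
  cls_comm := D.cls_comm
  pi_mul c d hc hd := by rw [D.pi_mul c d hc hd]; exact Prod.ext rfl (map_mul θ _ _)
  pi_mem c hc := ⟨D.pi c, D.pi_mem c hc, rfl⟩
  pi_surj := by
    rintro _ ⟨e, he, rfl⟩
    obtain ⟨c, hc, rfl⟩ := D.pi_surj e he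
    exact ⟨c, hc, rfl⟩
  pi_ker c hc := by
    rw [← D.pi_ker c hc, Prod.ext_iff, Prod.ext_iff]
    exact and_congr Iff.rfl θ.map_eq_one_iff
  cls_conj c hc a ha := by
    rw [D.cls_conj c hc a ha, θ.symm_apply_apply]
  mv_faithful := by
    rintro _ ⟨e, he, rfl⟩ h
    rw [D.mv_faithful e he fun v => by
      have := h v
      change D.mv (e.1, θ.symm (θ e.2)) v = v at this
      rwa [θ.symm_apply_apply] at this, map_one]

end Cfsg.Lib.Extra.SymAltSix
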