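import Cfsg.Agent.Lib.Extra.SymAltSix.Main
import Cfsg.Agent.Lib.Extra.Wide.FromHyp
import Cfsg.Agent.Lib.Extra.Wide.Numbers
import Cfsg.Agent.Lib.Extra.LargeFused
import Cfsg.Agent.Lib.LenSeven.Tools

/-!
# The data from the hypotheses on the centralizer, and the fusion
-/

set_option autoImplicit false
set_option linter.style.haveILetI false

namespace Cfsg.Lib.Extra.SymAltSix

open Cfsg Cfsg.Lib.Extra Cfsg.Lib.Linear Cfsg.Lib.Linear.Orth
open scoped Matrix

variable {G : Type*} [Group G] [Finite G] {z : G} {Q : Subgroup G}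

/-- Data over one of the two models of the extraspecial group. -/
theorem exists_data_model (hctx : Ctx Q z) (π : Subgroup.centralizer ({z} : Set G) →* K)
    (hker : ∀ c, π c = 1 ↔ (c : G) ∈ Q) (hL : L ≤ π.range)
    {ι : Type} [Fintype ι] [DecidableEq ι] (h8 : Fintype.card ι = 8)
    {V : Type} [AddCommGroup V] [Module (ZMod 2) V] {β : LinearMap.BilinForm (ZMod 2) V}
    {q : (ι → ZMod 2) → ZMod 2} {Bq : LinearMap.BilinForm (ZMod 2) (ι → ZMod 2)}
    (hnd : ∀ v : V, (∀ w, β v w = β w v) → v = 0)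
    (σ : (ι → ZMod 2) ≃ₗ[ZMod 2] V) (hq : ∀ x, q x = β (σ x) (σ x)) (S : Space q Bq)
    (f : Q ≃* Cocycle β) : ∃ D : Data G ι, D.z = z ∧ D.Q = Q := by
  classical
  obtain ⟨cls, act, R, -, -, h1, h2, h3, h4, h5, h7, -, -, h10, h11⟩ :=
    Wide.exists_action hctx hnd σ hq S f π.rangeRestrict π.rangeRestrict_surjective (fun c => by
      rw [← hker c, ← MonoidHom.mem_ker, MonoidHom.ker_rangeRestrict, MonoidHom.mem_ker])
  have hmem : ∀ {g : G}, g ∈ Subgroup.centralizer ({z} : Set G) ↔ Commute g z :=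
    Subgroup.mem_centralizer_singleton_iff
  let pi : G → K := fun c => if h : Commute c z then π ⟨c, hmem.2 h⟩ else 1
  have hpi : ∀ {c} (h : Commute c z), pi c = π ⟨c, hmem.2 h⟩ := fun h => dif_pos h
  choose lift hlift using fun e : π.range => e.2
  let mv : K → (ι → ZMod 2) → (ι → ZMod 2) := fun e v =>
    if h : e ∈ π.range then (act (lift ⟨e, h⟩ : G)).val *ᵥ v else v
  have hmv : ∀ {c} (h : Commute c z) v, mv (pi c) v = (act c).val *ᵥ v := by
    intro c h v
    have hr : pi c ∈ π.range := by rw [hpi h]; exact ⟨_, rfl⟩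
    simp only [mv, dif_pos hr]
    set d := lift ⟨pi c, hr⟩
    have hd : π d = π ⟨c, hmem.2 h⟩ := (hlift ⟨pi c, hr⟩).trans (hpi h)
    have hq' : π (⟨c, hmem.2 h⟩⁻¹ * d) = 1 := by rw [map_mul, map_inv, hd, inv_mul_cancel]
    have hQ' : c⁻¹ * (d : G) ∈ Q := (hker _).1 hq'
    have hdz : Commute (d : G) z := hmem.1 d.2
    have hc1 := (h10 _ (h.inv_left.mul_left hdz)).2 hQ'
    have e : act (d : G) = act c := by
      conv_lhs => rw [show (d : G) = c * (c⁻¹ * d) by group]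
      rw [h7 _ _ h (h.inv_left.mul_left hdz), hc1, mul_one]
    rw [e]
  refine ⟨{ z := z, Q := Q, qf := q, B := Bq, cls := cls, pi := pi, H := π.range, mv := mv, ctx := hctx,
            space := S, card := h8, L_le := hL, cls_mul := h1, cls_surj := h2, cls_ker := h3, cls_sq := h4,
            cls_comm := h5, pi_mul := ?_, pi_mem := ?_, pi_surj := ?_, pi_ker := ?_, cls_conj := ?_,
            mv_faithful := ?_ }, rfl, rfl⟩
  · intro c d hc hd
    rw [hpi (hc.mul_left hd), hpi hc, hpi hd, ← map_mul]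
    rfl
  · intro c hc; rw [hpi hc]; exact ⟨_, rfl⟩
  · rintro _ ⟨c, rfl⟩
    exact ⟨c, hmem.1 c.2, hpi (hmem.1 c.2)⟩
  · intro c hc; rw [hpi hc, hker]
  · intro c hc a ha; rw [hmv hc, h11 c hc a ha]
  · rintro _ ⟨c, rfl⟩ hv
    rw [hker, ← h10 _ (hmem.1 c.2)]
    refine Orth.gl_ext fun v => ?_
    rw [← hmv (hmem.1 c.2), hpi (hmem.1 c.2), hv, Units.val_one, Matrix.one_mulVec]

/-- The data from a map of the centralizer. -/
theorem exists_data (hctx : Ctx Q z) (hQ9 : Nat.card Q = 2 ^ 9) (hext : Cfsg.IsExtraspecial 2 Q)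
    (π : Subgroup.centralizer ({z} : Set G) →* K) (hker : ∀ c, π c = 1 ↔ (c : G) ∈ Q) (hL : L ≤ π.range) :
    ∃ (ι : Type) (_ : Fintype ι) (_ : DecidableEq ι) (D : Data G ι), D.z = z ∧ D.Q = Q := by
  rcases model_cases hext 3 (by rw [hQ9]) with ⟨⟨f⟩⟩ | ⟨⟨f⟩⟩
  · obtain ⟨Bp, Sp⟩ := exists_space_plus (F := ZMod 2) 4
    exact ⟨_, _, _, exists_data_model hctx π hker hL (by simp) (pairForm_nondeg _) (plusCoords 4)
      (plus_form 4) Sp f⟩
  · obtain ⟨Bm, Sm⟩ := exists_space_minus (F := ZMod 2) 3 1 1 Wide.aniso_two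
    exact ⟨_, _, _, exists_data_model hctx π hker hL (by simp) (pairForm_nondeg _) (minusCoords 3)
      (minus_form 3) Sm f⟩

/-- No simple group has a centralizer of an involution with extraspecial core of order `2^9` and quotient between
`A₃ × A₆` and `S₃ × S₆` containing an element odd on three points. -/
theorem absurd_of_quotient [IsSimpleGroup G] (hctx : Ctx Q z) (hQ9 : Nat.card Q = 2 ^ 9)
    (hext : Cfsg.IsExtraspecial 2 Q) (π : Subgroup.centralizer ({z} : Set G) →* K)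
    (hker : ∀ c, π c = 1 ↔ (c : G) ∈ Q) (hL : L ≤ π.range) (hodd : ∃ c, Equiv.Perm.sign (π c).1 ≠ 1) : False := by
  have hna : ¬ IsMulCommutative G := fun hab => by
    have hsub : ∀ g : G, g = 1 ∨ g = z := fun g => hctx.cent g fun a _ => hab.is_comm.comm g a
    have h1 : (Q : Set G).ncard ≤ ({1, z} : Set G).ncard :=
      Set.ncard_le_ncard (fun g _ => hsub g) (Set.toFinite _)
    have h2 : ({1, z} : Set G).ncard ≤ 2 := (Set.ncard_insert_le _ _).trans (by simp)
    have h3 : Nat.card Q = (Q : Set G).ncard := Nat.card_coe_set_eq _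
    rw [hQ9] at h3
    omega
  obtain ⟨ι, _, _, D, hz, hQ⟩ := exists_data hctx hQ9 hext π hker hL
  obtain ⟨g, hg, hne⟩ := hctx.exists_fused (by rw [hQ9]; norm_num) (Cfsg.Lib.LenSeven.pResidual_eq_top hna)
    (A := ℤˣ) (by simp) (Equiv.Perm.sign.comp ((MonoidHom.fst _ _).comp π)) (fun u => by
      obtain ⟨c, hc⟩ := hodd
      rcases Int.units_eq_one_or u with rfl | rfl
      · exact ⟨1, map_one _⟩
      · exact ⟨c, (Int.units_eq_one_or _).resolve_left hc⟩)
  refine absurd_of_fused D ⟨g, ⟨?_, ?_⟩⟩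
  · show g * D.z * g⁻¹ ∈ D.Q
    rw [hz, hQ]; exact hg
  · show g * D.z * g⁻¹ ≠ D.z
    rw [hz]; exact hne

/-- The context from the two-core of the centralizer. -/
theorem ctx_of_core (hz : orderOf z = 2)
    (hQ : Cfsg.IsExtraspecial 2 ↥(Cfsg.pCore 2 ↥(Subgroup.centralizer ({z} : Set G))))
    (hCQ : Subgroup.centralizer ((Cfsg.pCore 2 ↥(Subgroup.centralizer ({z} : Set G))) :
      Set ↥(Subgroup.centralizer ({z} : Set G))) ≤ Cfsg.pCore 2 ↥(Subgroup.centralizer ({z} : Set G))) :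
    Ctx ((Cfsg.pCore 2 ↥(Subgroup.centralizer ({z} : Set G))).map
      (Subgroup.centralizer ({z} : Set G)).subtype) z := by
  refine ctx_of_twoCore hz rfl (isExtraspecial_congr (Subgroup.equivMapOfInjective _ _
    (Subgroup.centralizer ({z} : Set G)).subtype_injective) hQ) fun g hg => ?_
  set C := Subgroup.centralizer ({z} : Set G)
  have hzC : z ∈ C := Subgroup.mem_centralizer_singleton_iff.2 rfl
  have hzQ : (⟨z, hzC⟩ : C) ∈ Cfsg.pCore 2 ↥C := by
    refine hCQ fun x hx => ?_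
    exact Subtype.ext (Subgroup.mem_centralizer_singleton_iff.1 x.2)
  have hgC : g ∈ C := Subgroup.mem_centralizer_singleton_iff.2 (hg z ⟨_, hzQ, rfl⟩).symm
  exact ⟨⟨g, hgC⟩, hCQ fun x hx => Subtype.ext (hg x.1 ⟨x, hx, rfl⟩), rfl⟩

end Cfsg.Lib.Extra.SymAltSix
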