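import Cfsg.Agent.Lib.Extra.SymAltSix.Local

/-!
# The central element of order three and the eigenvectors of a Sylow 3-subgroup of `A₆`
-/

set_option autoImplicit false
set_option linter.style.haveILetI false

namespace Cfsg.Lib.Extra.SymAltSix

open Equiv Cfsg.Lib.Linear.Orth
open Cfsg.Lib.Extra.Wide (bit vadd_self vadd_eq_zero)

/-- The element of order three of the first factor. -/
def xK : K := (swap 0 1 * swap 1 2, 1)

/-- The first three-cycle. -/
def aK : K := (1, swap 0 1 * swap 1 2)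

/-- The second three-cycle. -/
def bK : K := (1, swap 3 4 * swap 4 5)

/-- An element of order four normalizing the two three-cycles. -/
def gK : K := (1, swap 0 3 * (swap 1 4 * swap 4 2 * swap 2 5))

theorem mem_L {e : K} : e ∈ L ↔ Perm.sign e.1 = 1 ∧ Perm.sign e.2 = 1 := by
  simp [L, Subgroup.mem_prod]

theorem xK_mem : xK ∈ L := mem_L.2 (by decide)

theorem aK_mem : aK ∈ L := mem_L.2 (by decide)

theorem bK_mem : bK ∈ L := mem_L.2 (by decide)

theorem gK_mem : gK ∈ L := mem_L.2 (by decide)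

theorem gK_a : gK * aK * gK⁻¹ = bK := by decide +kernel

theorem gK_b : gK * bK * gK⁻¹ = aK⁻¹ := by decide +kernel

theorem gK_four : gK * gK * (gK * gK) = 1 := by decide +kernel

theorem one_mem_L {p : Perm (Fin 6)} (h : Perm.sign p = 1) : ((1, p) : K) ∈ L := mem_L.2 ⟨map_one _, h⟩

theorem x_comm_one (p : Perm (Fin 6)) : xK * (1, p) = (1, p) * xK := by simp [xK]

variable {G : Type*} [Group G] {ι : Type} [Fintype ι] [DecidableEq ι] (D : Data G ι)

namespace Data

theorem L_mem {e : K} (he : e ∈ L) : e ∈ D.H := D.L_le he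

/-- The linear map of an element of the quotient. -/
def lin {e : K} (he : e ∈ D.H) : (ι → ZMod 2) →ₗ[ZMod 2] (ι → ZMod 2) where
  toFun := D.mv e
  map_add' := D.mv_add he
  map_smul' r v := by
    rcases bit r with rfl | rfl
    · simp [D.mv_zero he]
    · simp

theorem lin_apply {e : K} (he : e ∈ D.H) (v : ι → ZMod 2) : D.lin he v = D.mv e v := rfl

/-- The action of the central element of order three. -/
def X (v : ι → ZMod 2) : ι → ZMod 2 := D.mv xK v

theorem xH : xK ∈ D.H := D.L_le xK_mem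

theorem X_add (u v : ι → ZMod 2) : D.X (u + v) = D.X u + D.X v := D.mv_add D.xH u v

theorem X_zero : D.X 0 = 0 := D.mv_zero D.xH

theorem X_three (v : ι → ZMod 2) : D.X (D.X (D.X v)) = v := by
  rw [X, X, X, ← D.mv_mul D.xH D.xH, ← D.mv_mul (mul_mem D.xH D.xH) D.xH,
    show xK * xK * xK = 1 by decide +kernel, D.mv_one]

theorem X_B (u v : ι → ZMod 2) : D.B (D.X u) (D.X v) = D.B u v := D.mv_B D.xH u v

theorem X_qf (v : ι → ZMod 2) : D.qf (D.X v) = D.qf v := D.mv_qf D.xH v

theorem X_comm {e : K} (he : e ∈ D.H) (hc : xK * e = e * xK) (v : ι → ZMod 2) :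
    D.X (D.mv e v) = D.mv e (D.X v) := by
  rw [X, X, ← D.mv_mul D.xH he, hc, D.mv_mul he D.xH]

/-- The fixed space of the central element. -/
def fixX : Submodule (ZMod 2) (ι → ZMod 2) := LinearMap.ker (D.lin D.xH + LinearMap.id)

/-- The space without fixed points of the central element. -/
def movX : Submodule (ZMod 2) (ι → ZMod 2) :=
  LinearMap.ker (D.lin D.xH ∘ₗ D.lin D.xH + D.lin D.xH + LinearMap.id)

theorem mem_fixX {v : ι → ZMod 2} : v ∈ D.fixX ↔ D.X v = v := by
  rw [fixX, LinearMap.mem_ker, LinearMap.add_apply, LinearMap.id_apply]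
  exact ⟨fun h => vadd_eq_zero h, fun h => by rw [lin_apply, show D.mv xK v = v from h, vadd_self]⟩

theorem mem_movX {v : ι → ZMod 2} : v ∈ D.movX ↔ D.X (D.X v) + D.X v + v = 0 := by
  rw [movX, LinearMap.mem_ker]
  rfl

/-- The projection to the fixed space. -/
def pC (v : ι → ZMod 2) : ι → ZMod 2 := D.X (D.X v) + D.X v + v

/-- The projection to the other part. -/
def pD (v : ι → ZMod 2) : ι → ZMod 2 := D.X (D.X v) + D.X v

theorem pC_add_pD (v : ι → ZMod 2) : D.pC v + D.pD v = v := by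
  rw [pC, pD, add_comm _ v, add_assoc, vadd_self, add_zero]

theorem pC_mem (v : ι → ZMod 2) : D.pC v ∈ D.fixX := by
  rw [mem_fixX, pC, D.X_add, D.X_add, D.X_three]; abel

theorem pD_mem (v : ι → ZMod 2) : D.pD v ∈ D.movX := by
  have h : ∀ a b c : ι → ZMod 2, b + a + (c + b) + (a + c) = 0 := fun a b c => by
    rw [show b + a + (c + b) + (a + c) = (a + a) + (b + b) + (c + c) by abel]
    simp only [vadd_self, add_zero]
  rw [mem_movX, pD, D.X_add, D.X_three, D.X_add, D.X_three]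
  rw [← h (D.X (D.X v)) (D.X v) v]
  abel

theorem fix_mov_eq_zero {v : ι → ZMod 2} (h1 : v ∈ D.fixX) (h2 : v ∈ D.movX) : v = 0 := by
  rw [mem_fixX] at h1
  rw [mem_movX, h1, h1, vadd_self, zero_add] at h2
  exact h2

theorem fix_orth_mov {u v : ι → ZMod 2} (hu : u ∈ D.fixX) (hv : v ∈ D.movX) : D.B u v = 0 := by
  rw [mem_fixX] at hu
  rw [mem_movX] at hv
  have e1 : D.B u (D.X v) = D.B u v := by conv_lhs => rw [← hu, D.X_B]
  have e2 : D.B u (D.X (D.X v)) = D.B u v := by conv_lhs => rw [← hu, D.X_B, e1]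
  have h := congrArg (D.B u) hv
  rw [map_add, map_add, e2, e1, map_zero, Cfsg.Lib.Extra.Wide.bit_self, zero_add] at h
  exact h

/-- The three-fold sum along an element of order three. -/
def pr (f : K) (v : ι → ZMod 2) : ι → ZMod 2 := v + D.mv f v + D.mv (f * f) v

theorem pr_fixed {f : K} (hf : f ∈ D.H) (h3 : f * f * f = 1) (v : ι → ZMod 2) :
    D.mv f (D.pr f v) = D.pr f v := by
  rw [pr, D.mv_add hf, D.mv_add hf, ← D.mv_mul hf hf, ← D.mv_mul hf (mul_mem hf hf), ← mul_assoc, h3, D.mv_one]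
  abel

theorem pr_commute {e f : K} (he : e ∈ D.H) (hf : f ∈ D.H) (hc : e * f = f * e) (v : ι → ZMod 2) :
    D.mv e (D.pr f v) = D.pr f (D.mv e v) := by
  have hc2 : e * (f * f) = f * f * e := by rw [← mul_assoc, hc, mul_assoc, hc, mul_assoc]
  rw [pr, pr, D.mv_add he, D.mv_add he, ← D.mv_mul he hf, ← D.mv_mul he (mul_mem hf hf), hc, hc2,
    D.mv_mul hf he, D.mv_mul (mul_mem hf hf) he]

theorem pr_zero {f : K} (hf : f ∈ D.H) : D.pr f 0 = 0 := by
  rw [pr, D.mv_zero hf, D.mv_zero (mul_mem hf hf)]; simp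

theorem pr_add {f : K} (hf : f ∈ D.H) (u v : ι → ZMod 2) : D.pr f (u + v) = D.pr f u + D.pr f v := by
  rw [pr, pr, pr, D.mv_add hf, D.mv_add (mul_mem hf hf)]; abel

theorem pr_of_fixed {f : K} (hf : f ∈ D.H) {v : ι → ZMod 2} (h : D.mv f v = v) : D.pr f v = v := by
  rw [pr, D.mv_mul hf hf, h, h, vadd_self, zero_add]

theorem pr_of_moved {f : K} (hf : f ∈ D.H) (hc : xK * f = f * xK) {v : ι → ZMod 2} (hv : v ∈ D.movX)
    (h : D.mv f v = D.X v ∨ D.mv f v = D.X (D.X v)) : D.pr f v = 0 := by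
  rw [mem_movX] at hv
  rw [pr, D.mv_mul hf hf]
  rcases h with h | h <;> rw [h]
  · rw [← D.X_comm hf hc, h]
    rw [← hv]; abel
  · rw [← D.X_comm hf hc, ← D.X_comm hf hc, h, D.X_three]
    rw [← hv]; abel

theorem mov_invariant {e : K} (he : e ∈ D.H) (hc : xK * e = e * xK) {v : ι → ZMod 2} (hv : v ∈ D.movX) :
    D.mv e v ∈ D.movX := by
  rw [mem_movX] at hv ⊢
  rw [D.X_comm he hc, D.X_comm he hc, ← D.mv_add he, ← D.mv_add he, hv, D.mv_zero he]

theorem fix_invariant {e : K} (he : e ∈ D.H) (hc : xK * e = e * xK) {v : ι → ZMod 2} (hv : v ∈ D.fixX) :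
    D.mv e v ∈ D.fixX := by
  rw [mem_fixX] at hv ⊢
  rw [D.X_comm he hc, hv]

theorem X_mem_mov {v : ι → ZMod 2} (hv : v ∈ D.movX) : D.X v ∈ D.movX := D.mov_invariant D.xH rfl hv

theorem X_free {v : ι → ZMod 2} (hv : v ∈ D.movX) (h : D.X v = v) : v = 0 :=
  D.fix_mov_eq_zero (D.mem_fixX.2 h) hv

end Data

end Cfsg.Lib.Extra.SymAltSix
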