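import Cfsg.Agent.Lib.Extra.SymAltSix.Std

/-!
# The cross images of the second kind at the forty-five pure tensors
-/

set_option autoImplicit false
set_option maxRecDepth 20000

namespace Cfsg.Lib.Extra.SymAltSix.Tau

open Equiv

/-- A pure tensor: a point of the plane and a nonzero vector of the four-space, one less than its code. -/
abbrev Pt := Fin 3 × Fin 15

/-- The code of a pure tensor. -/
def pcode (i : Pt) : ℕ := ten i.1 (i.2.val + 1)

/-- The even permutations of three points, by the image of the first point. -/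
def pu : Fin 3 → Perm (Fin 3) := ![1, swap 0 1 * swap 1 2, swap 1 2 * swap 0 1]

/-- An even permutation taking the first two of six points to the pair of a vector. -/
def pw : Fin 15 → Perm (Fin 6) :=
  ![1,
    swap 0 1 * swap 1 2,
    swap 1 2 * swap 2 3,
    swap 0 2 * swap 1 3,
    swap 0 4 * swap 1 5,
    swap 0 1 * swap 1 3,
    swap 1 3 * swap 2 3,
    swap 0 3 * swap 1 4,
    swap 0 2 * swap 1 5,
    swap 1 5 * swap 2 3,
    swap 0 1 * swap 1 5,
    swap 0 2 * swap 1 4,
    swap 0 3 * swap 1 5,
    swap 0 1 * swap 1 4,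
    swap 1 4 * swap 2 3]

/-- An even pair taking the standard pure tensor to a given one. -/
def rep (i : Pt) : K := (pu i.1, pw i.2)

/-- A number for a pair of permutations. -/
def kcode (e : K) : ℕ :=
  ((((((e.1 0).val * 3 + (e.1 1).val) * 6 + (e.2 0).val) * 6 + (e.2 1).val) * 6 + (e.2 2).val) * 6 +
    (e.2 3).val) * 6 + (e.2 4).val

/-- The numbers of the eight elements of the cross image at a pure tensor. -/
def tbl : Fin 3 → Fin 15 → List ℕ :=
  ![![[8086, 8117, 8168, 8199, 16942, 16973, 17024, 17055],
    [8086, 11957, 13278, 14571, 16042, 19913, 21234, 22527],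
    [8086, 8507, 8955, 8743, 18382, 18803, 19251, 19039],
    [8086, 9167, 14130, 15211, 15892, 16973, 21936, 23017],
    [8086, 9196, 11026, 12136, 15863, 16973, 18803, 19913],
    [8086, 10607, 14636, 13374, 16282, 18803, 22832, 21570],
    [8086, 8267, 8839, 9020, 19732, 19913, 20485, 20666],
    [8086, 11470, 14746, 9274, 15867, 19251, 22527, 17055],
    [8086, 12601, 13686, 9171, 15970, 20485, 21570, 17055],
    [8086, 8761, 8271, 8576, 22342, 23017, 22527, 22832],
    [8086, 13296, 12026, 10611, 16726, 21936, 20666, 19251],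
    [8086, 12820, 9178, 14986, 15932, 20666, 17024, 22832],
    [8086, 11251, 9236, 13446, 15874, 19039, 17024, 21234],
    [8086, 14596, 10618, 12064, 16507, 23017, 19039, 20485],
    [8086, 8980, 8614, 8278, 21042, 21936, 21570, 21234]],
  ![[8086, 8117, 8168, 8199, 55822, 55853, 55904, 55935],
    [8086, 11957, 13278, 14571, 54922, 58793, 60114, 61407],
    [8086, 8507, 8955, 8743, 57262, 57683, 58131, 57919],
    [8086, 9167, 14130, 15211, 54772, 55853, 60816, 61897],
    [8086, 9196, 11026, 12136, 54743, 55853, 57683, 58793],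
    [8086, 10607, 14636, 13374, 55162, 57683, 61712, 60450],
    [8086, 8267, 8839, 9020, 58612, 58793, 59365, 59546],
    [8086, 11470, 14746, 9274, 54747, 58131, 61407, 55935],
    [8086, 12601, 13686, 9171, 54850, 59365, 60450, 55935],
    [8086, 8761, 8271, 8576, 61222, 61897, 61407, 61712],
    [8086, 13296, 12026, 10611, 55606, 60816, 59546, 58131],
    [8086, 12820, 9178, 14986, 54812, 59546, 55904, 61712],
    [8086, 11251, 9236, 13446, 54754, 57919, 55904, 60114],
    [8086, 14596, 10618, 12064, 55387, 61897, 57919, 59365],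
    [8086, 8980, 8614, 8278, 59922, 60816, 60450, 60114]],
  ![[8086, 8117, 8168, 8199, 24718, 24749, 24800, 24831],
    [8086, 11957, 13278, 14571, 23818, 27689, 29010, 30303],
    [8086, 8507, 8955, 8743, 26158, 26579, 27027, 26815],
    [8086, 9167, 14130, 15211, 23668, 24749, 29712, 30793],
    [8086, 9196, 11026, 12136, 23639, 24749, 26579, 27689],
    [8086, 10607, 14636, 13374, 24058, 26579, 30608, 29346],
    [8086, 8267, 8839, 9020, 27508, 27689, 28261, 28442],
    [8086, 11470, 14746, 9274, 23643, 27027, 30303, 24831],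
    [8086, 12601, 13686, 9171, 23746, 28261, 29346, 24831],
    [8086, 8761, 8271, 8576, 30118, 30793, 30303, 30608],
    [8086, 13296, 12026, 10611, 24502, 29712, 28442, 27027],
    [8086, 12820, 9178, 14986, 23708, 28442, 24800, 30608],
    [8086, 11251, 9236, 13446, 23650, 26815, 24800, 29010],
    [8086, 14596, 10618, 12064, 24283, 30793, 26815, 28261],
    [8086, 8980, 8614, 8278, 28818, 29712, 29346, 29010]]]

/-- The numbers of the eight elements of the cross image at a pure tensor. -/
def row (i : Pt) : List ℕ := tbl i.1 i.2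

/-- All pure tensors. -/
def pts : List Pt := (List.finRange 3).flatMap fun u => (List.finRange 15).map fun w => (u, w)

theorem mem_pts : ∀ i : Pt, i ∈ pts := by decide +kernel

theorem rep_mem : ∀ i : Pt, Perm.sign (rep i).1 = 1 ∧ Perm.sign (rep i).2 = 1 := by decide +kernel

theorem rep_code : ∀ i : Pt, app (mu (rep i)) 1 = pcode i := by decide +kernel

theorem row_eq : ∀ i : Pt, aTau.map (fun a => kcode (rep i * a * (rep i)⁻¹)) = row i := by decide +kernel

/-- A nontrivial element lies in the cross image at no more than three pure tensors. -/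
theorem row_count : ∀ i : Pt, ∀ x ∈ (row i).tail, (pts.filter fun j => (row j).contains x).length ≤ 3 := by
  decide +kernel

/-- The standard intersection at the transported vector. -/
theorem inter_two : ∀ w : Fin 15, w = 4 ∨ w = 7 ∨ w = 12 →
    inE0 (app (mu (rep (0, w))⁻¹) 2) = true ∧ inE0 (w.val + 1) = true := by decide +kernel

theorem pure_code (e : K) : ∃ i : Pt, app (mu e) 1 = pcode i := by
  have hw : app (muW e.2) 1 = img e.2 0 := by simp [app, muW, Nat.testBit, Nat.shiftRight_eq_div_pow]
  have h0 : img e.2 0 ≠ 0 := fun h => by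
    have hpt : ∀ a b : Fin 6, pt a ^^^ pt b = 0 → a = b := by decide
    exact absurd (e.2.injective (hpt _ _ h)) (by decide)
  have hlt := img_lt e.2 0
  refine ⟨(e.1 0, ⟨img e.2 0 - 1, by omega⟩), ?_⟩
  rw [mu, app_comp, hw, (muU_low e.1 ⟨_, hlt⟩).1, pcode]
  congr 1
  simp only
  omega

end Cfsg.Lib.Extra.SymAltSix.Tau
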